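import Cfsg.Agent.Lib.Mc3.S8M

/-! More facts on the symmetric group of degree 8 (generated data, helper17). -/

set_option autoImplicit false
set_option maxRecDepth 1000000
set_option maxHeartbeats 0

namespace Cfsg.Lib.Mc3

open Cfsg.Lib.Calc Cfsg.Lib.Grp Cfsg.Lib.T2 Cfsg.Lib.T3

/-- a formula -/
def s8_cw2_f : Fm := .all 2 40 [(.l 5, .l 5), (.mul (.mul (.l 2) (.l 5)) (.inv (.l 2)), .mul (.mul (.l 2) (.l 5)) (.inv (.l 2)))] (.mem 19 (.l 40))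

theorem s8_cw2_ev : s8.eval s8_cw2_f = true := by decide +kernel

theorem s8_cw2 {G : Type*} [Group G] {γ : ℕ → G} {k : ℕ} {N : List W} (g : Gf s8 γ k N)
    (e : tyB s8 k N s8_cw2_f = true := by decide +kernel) :
    ∀ n ∈ genW γ (s8.ws 2), n * γ 5 = γ 5 * n → n * (γ 2 * γ 5 * (γ 2)⁻¹) = γ 2 * γ 5 * (γ 2)⁻¹ * n → n ∈ genW γ (s8.ws 19) :=
  g.transfer e s8_cw2_ev

end Cfsg.Lib.Mc3
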