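import Cfsg.Agent.Lib.Mc3.S8M
import Cfsg.Agent.Lib.Loc3.SixM

/-! The group `(A₅ × A₅).2²` and small alternating and symmetric groups (generated data, helper17). -/

set_option autoImplicit false
set_option maxRecDepth 1000000
set_option maxHeartbeats 0

namespace Cfsg.Lib.Mc3

open Cfsg.Lib.Calc Cfsg.Lib.Grp Cfsg.Lib.T2 Cfsg.Lib.T3

/-- further relators of `(A₅ × A₅).2²` -/
def relX0 : List W := [.mul (.l 6) (.l 6), .mul (.mul (.mul (.l 6) (.l 1)) (.l 6)) (.inv (.l 2)), .mul (.mul (.mul (.mul (.l 6) (.l 3)) (.l 6)) (.l 4)) (.l 7), .pow (.mul (.l 6) (.l 7)) 2, .pow (.mul (.mul (.mul (.l 5) (.l 6)) (.l 5)) (.l 6)) 2]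

/-- relators of `(A₅ × A₅).2²` -/
def relX : List W := relN2 ++ relX0

def x10_L0 : List (ℕ × List ℕ) := [((nat_lit 5), [(nat_lit 654820258320), (nat_lit 654301213200), (nat_lit 288317081445), (nat_lit 654537142800), (nat_lit 287798036325), (nat_lit 288033965925), (nat_lit 150345451365), (nat_lit 154891028325), (nat_lit 516848628240), (nat_lit 521394205200)]),
  ((nat_lit 0), [(nat_lit 654820258320), (nat_lit 654820257825), (nat_lit 654820258050), (nat_lit 654820126740), (nat_lit 590395621395)]),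
  ((nat_lit 1), [(nat_lit 654820258320), (nat_lit 654820127040), (nat_lit 654820062240), (nat_lit 590395621680)]),
  ((nat_lit 3), [(nat_lit 654820258320), (nat_lit 590395687440), (nat_lit 590395745040)]),
  ((nat_lit 2), [(nat_lit 654820258320), (nat_lit 590395618320)]),
  ((nat_lit 6), [(nat_lit 654820258320), (nat_lit 517163201040), (nat_lit 650290410000), (nat_lit 449215476240)]),
  ((nat_lit 7), [(nat_lit 654820258320), (nat_lit 582342685200), (nat_lit 521944707600)])]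

def x10_D0 : List ℕ := [(nat_lit 0), (nat_lit 513), (nat_lit 3073), (nat_lit 769), (nat_lit 113666), (nat_lit 134402), (nat_lit 188930), (nat_lit 216578), (nat_lit 232450), (nat_lit 264194), (nat_lit 0), (nat_lit 1025), (nat_lit 1281), (nat_lit 432642), (nat_lit 476674), (nat_lit 0), (nat_lit 469506), (nat_lit 150786), (nat_lit 642562), (nat_lit 0), (nat_lit 3585), (nat_lit 43280131), (nat_lit 0), (nat_lit 57313027), (nat_lit 0), (nat_lit 26937603), (nat_lit 341309289221), (nat_lit 25291523), (nat_lit 0), (nat_lit 524510445317), (nat_lit 583033086213)]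

def x10_L1 : List (ℕ × List ℕ) := [((nat_lit 5), [(nat_lit 654820258320), (nat_lit 654301213200), (nat_lit 654537142800)]),
  ((nat_lit 0), [(nat_lit 654820258320), (nat_lit 654820257825), (nat_lit 654820258050), (nat_lit 654820126740), (nat_lit 590395621395)]),
  ((nat_lit 1), [(nat_lit 654820258320), (nat_lit 654820127040), (nat_lit 654820062240), (nat_lit 590395621680)]),
  ((nat_lit 3), [(nat_lit 654820258320), (nat_lit 654820131600), (nat_lit 654820189200)]),
  ((nat_lit 2), [(nat_lit 654820258320), (nat_lit 590395618320)]),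
  ((nat_lit 6), [(nat_lit 654820258320), (nat_lit 590144090640)])]

def x10_D1 : List ℕ := [(nat_lit 0), (nat_lit 513), (nat_lit 769), (nat_lit 0), (nat_lit 1025), (nat_lit 1281), (nat_lit 162306), (nat_lit 189442), (nat_lit 0), (nat_lit 182786), (nat_lit 101634), (nat_lit 297986), (nat_lit 0), (nat_lit 598947076), (nat_lit 688019204), (nat_lit 0), (nat_lit 151810), (nat_lit 0), (nat_lit 267416836)]

def x10_L2 : List (ℕ × List ℕ) := [((nat_lit 5), [(nat_lit 654820258320), (nat_lit 654301213200), (nat_lit 654537142800)]),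
  ((nat_lit 0), [(nat_lit 654820258320), (nat_lit 654820257825), (nat_lit 654820258050)])]

def x10_D2 : List ℕ := [(nat_lit 0), (nat_lit 513), (nat_lit 769), (nat_lit 0), (nat_lit 1025), (nat_lit 1281)]

def x10_L3 : List (ℕ × List ℕ) := [((nat_lit 0), [(nat_lit 654820258320), (nat_lit 654820127745), (nat_lit 654819995940), (nat_lit 654820061250)]),
  ((nat_lit 5), [(nat_lit 654820258320), (nat_lit 517902447120), (nat_lit 379694887440), (nat_lit 448177386000)])]

def x10_D3 : List ℕ := [(nat_lit 0), (nat_lit 513), (nat_lit 1025), (nat_lit 50178), (nat_lit 0), (nat_lit 1537), (nat_lit 2049), (nat_lit 124930)]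

def x10_L4 : List (ℕ × List ℕ) := [((nat_lit 5), [(nat_lit 654820258320), (nat_lit 654301213200), (nat_lit 288317081445), (nat_lit 654537142800), (nat_lit 287798036325), (nat_lit 288033965925), (nat_lit 150345451365), (nat_lit 516848628240)]),
  ((nat_lit 0), [(nat_lit 654820258320), (nat_lit 654820257825), (nat_lit 654820258050), (nat_lit 654820126740)]),
  ((nat_lit 1), [(nat_lit 654820258320), (nat_lit 654820127040), (nat_lit 654568599840)]),
  ((nat_lit 2), [(nat_lit 654820258320), (nat_lit 654568469520)]),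
  ((nat_lit 6), [(nat_lit 654820258320), (nat_lit 517163201040), (nat_lit 449215476240)])]

def x10_D4 : List ℕ := [(nat_lit 0), (nat_lit 513), (nat_lit 2561), (nat_lit 769), (nat_lit 74242), (nat_lit 91394), (nat_lit 137218), (nat_lit 162306), (nat_lit 0), (nat_lit 1025), (nat_lit 1281), (nat_lit 280578), (nat_lit 0), (nat_lit 293890), (nat_lit 2619139), (nat_lit 0), (nat_lit 20164611), (nat_lit 0), (nat_lit 11899139), (nat_lit 10360579)]

def x10_L5 : List (ℕ × List ℕ) := [((nat_lit 0), [(nat_lit 654820258320), (nat_lit 654820127745), (nat_lit 654819995940), (nat_lit 288317081445), (nat_lit 654820061250), (nat_lit 288316950870), (nat_lit 288316819065), (nat_lit 288316884375)]),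
  ((nat_lit 2), [(nat_lit 654820258320), (nat_lit 654804399120)]),
  ((nat_lit 5), [(nat_lit 654820258320), (nat_lit 379694887440), (nat_lit 448177386000), (nat_lit 517902447120)])]

def x10_D5 : List ℕ := [(nat_lit 0), (nat_lit 513), (nat_lit 1025), (nat_lit 1537), (nat_lit 56322), (nat_lit 62978), (nat_lit 80386), (nat_lit 112130), (nat_lit 0), (nat_lit 60674), (nat_lit 0), (nat_lit 4231427), (nat_lit 9741184773), (nat_lit 507570995462)]

def x10_L6 : List (ℕ × List ℕ) := [((nat_lit 0), [(nat_lit 654820258320), (nat_lit 654820127745), (nat_lit 654819995940), (nat_lit 288317081445), (nat_lit 654820061250), (nat_lit 288316950870), (nat_lit 288316819065), (nat_lit 288316884375)]),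
  ((nat_lit 5), [(nat_lit 654820258320), (nat_lit 517902447120), (nat_lit 379694887440), (nat_lit 448177386000)])]

def x10_D6 : List ℕ := [(nat_lit 0), (nat_lit 513), (nat_lit 1025), (nat_lit 1537), (nat_lit 41986), (nat_lit 47618), (nat_lit 62978), (nat_lit 91650), (nat_lit 0), (nat_lit 2439939), (nat_lit 2842371), (nat_lit 182972164)]

def x10_L7 : List (ℕ × List ℕ) := [((nat_lit 0), [(nat_lit 654820258320), (nat_lit 654820257825), (nat_lit 654820258050), (nat_lit 654820126740), (nat_lit 654820131075)]),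
  ((nat_lit 1), [(nat_lit 654820258320), (nat_lit 654820127040), (nat_lit 654820196640), (nat_lit 654820065840)]),
  ((nat_lit 2), [(nat_lit 654820258320), (nat_lit 654820189200), (nat_lit 654820131600)])]

def x10_D7 : List ℕ := [(nat_lit 0), (nat_lit 513), (nat_lit 769), (nat_lit 44546), (nat_lit 58370), (nat_lit 0), (nat_lit 52738), (nat_lit 25346), (nat_lit 2976515), (nat_lit 0), (nat_lit 4488707), (nat_lit 1703171)]

def x10_L8 : List (ℕ × List ℕ) := [((nat_lit 5), [(nat_lit 654820258320), (nat_lit 654301213200), (nat_lit 654537142800), (nat_lit 516848628240), (nat_lit 521394205200)]),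
  ((nat_lit 6), [(nat_lit 654820258320), (nat_lit 517163201040), (nat_lit 590144090640), (nat_lit 452990349840)]),
  ((nat_lit 7), [(nat_lit 654820258320), (nat_lit 582342685200), (nat_lit 521944707600)])]

def x10_D8 : List ℕ := [(nat_lit 0), (nat_lit 513), (nat_lit 769), (nat_lit 44546), (nat_lit 58370), (nat_lit 0), (nat_lit 52738), (nat_lit 25346), (nat_lit 2976515), (nat_lit 0), (nat_lit 4488707), (nat_lit 1703171)]

def x10_L9 : List (ℕ × List ℕ) := [((nat_lit 0), [(nat_lit 654820258320), (nat_lit 654820257825), (nat_lit 654820258050), (nat_lit 654820126740), (nat_lit 654820131075)]),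
  ((nat_lit 1), [(nat_lit 654820258320), (nat_lit 654820127040), (nat_lit 654820196640), (nat_lit 654820065840)]),
  ((nat_lit 2), [(nat_lit 654820258320), (nat_lit 654820189200), (nat_lit 654820131600)]),
  ((nat_lit 5), [(nat_lit 654820258320), (nat_lit 654301213200), (nat_lit 654537142800), (nat_lit 516848628240), (nat_lit 521394205200)]),
  ((nat_lit 6), [(nat_lit 654820258320), (nat_lit 517163201040), (nat_lit 590144090640), (nat_lit 452990349840)]),
  ((nat_lit 7), [(nat_lit 654820258320), (nat_lit 582342685200), (nat_lit 521944707600)])]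

def x10_D9 : List ℕ := [(nat_lit 0), (nat_lit 513), (nat_lit 769), (nat_lit 93698), (nat_lit 113666), (nat_lit 0), (nat_lit 108034), (nat_lit 33026), (nat_lit 6025475), (nat_lit 0), (nat_lit 8427011), (nat_lit 2486531), (nat_lit 0), (nat_lit 2049), (nat_lit 2305), (nat_lit 476162), (nat_lit 520706), (nat_lit 0), (nat_lit 515074), (nat_lit 143618), (nat_lit 37473539), (nat_lit 0), (nat_lit 45378563), (nat_lit 12624131)]

def x10_L10 : List (ℕ × List ℕ) := [((nat_lit 5), [(nat_lit 654820258320), (nat_lit 654301213200), (nat_lit 288317081445), (nat_lit 654537142800), (nat_lit 287798036325), (nat_lit 288033965925)]),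
  ((nat_lit 0), [(nat_lit 654820258320), (nat_lit 654820257825), (nat_lit 654820258050)]),
  ((nat_lit 1), [(nat_lit 654820258320), (nat_lit 654820196640)]),
  ((nat_lit 3), [(nat_lit 654820258320), (nat_lit 590395687440)]),
  ((nat_lit 6), [(nat_lit 654820258320), (nat_lit 590144090640)])]

def x10_D10 : List ℕ := [(nat_lit 0), (nat_lit 513), (nat_lit 2561), (nat_lit 769), (nat_lit 92674), (nat_lit 111874), (nat_lit 0), (nat_lit 1025), (nat_lit 1281), (nat_lit 0), (nat_lit 59650), (nat_lit 0), (nat_lit 3073), (nat_lit 0), (nat_lit 3805443)]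

def x10_L11 : List (ℕ × List ℕ) := [((nat_lit 0), [(nat_lit 654820258320), (nat_lit 517902316545), (nat_lit 379694625060), (nat_lit 448177188930)])]

def x10_D11 : List ℕ := [(nat_lit 0), (nat_lit 513), (nat_lit 1025), (nat_lit 25602)]

def x10_L12 : List (ℕ × List ℕ) := [((nat_lit 0), [(nat_lit 654820258320), (nat_lit 650777993985), (nat_lit 645729095730), (nat_lit 641686831395)])]

def x10_D12 : List ℕ := [(nat_lit 0), (nat_lit 513), (nat_lit 1025), (nat_lit 25602)]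

def x10_L13 : List (ℕ × List ℕ) := [((nat_lit 0), [(nat_lit 654820258320), (nat_lit 288317081445), (nat_lit 654301212705), (nat_lit 654537142530), (nat_lit 287798035830), (nat_lit 288033965655)])]

def x10_D13 : List ℕ := [(nat_lit 0), (nat_lit 513), (nat_lit 1025), (nat_lit 1281), (nat_lit 29698), (nat_lit 34050)]

def x10_L14 : List (ℕ × List ℕ) := [((nat_lit 0), [(nat_lit 654820258320), (nat_lit 654820257825), (nat_lit 654820258050), (nat_lit 654820126740), (nat_lit 654820131075)]),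
  ((nat_lit 1), [(nat_lit 654820258320), (nat_lit 654820127040), (nat_lit 654820062240), (nat_lit 590395621680)]),
  ((nat_lit 2), [(nat_lit 654820258320), (nat_lit 590395745040), (nat_lit 654820189200)]),
  ((nat_lit 5), [(nat_lit 654820258320), (nat_lit 654301213200), (nat_lit 654537142800), (nat_lit 516848628240), (nat_lit 521142485520)]),
  ((nat_lit 6), [(nat_lit 654820258320), (nat_lit 517163201040), (nat_lit 449215476240), (nat_lit 521441329680)]),
  ((nat_lit 7), [(nat_lit 654820258320), (nat_lit 521944707600), (nat_lit 582342685200)]),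
  ((nat_lit 3), [(nat_lit 654820258320), (nat_lit 590395687440)])]

def x10_D14 : List ℕ := [(nat_lit 0), (nat_lit 513), (nat_lit 769), (nat_lit 114178), (nat_lit 136194), (nat_lit 0), (nat_lit 130562), (nat_lit 58626), (nat_lit 232962), (nat_lit 0), (nat_lit 10090243), (nat_lit 353794), (nat_lit 0), (nat_lit 2049), (nat_lit 2305), (nat_lit 521218), (nat_lit 568834), (nat_lit 0), (nat_lit 562178), (nat_lit 190722), (nat_lit 749058), (nat_lit 0), (nat_lit 3135482116), (nat_lit 3430160132), (nat_lit 0), (nat_lit 3585)]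

def x10 : PM :=
  ⟨(nat_lit 10), (nat_lit 4), [(nat_lit 654301213200), (nat_lit 654820257825), (nat_lit 654820196865), (nat_lit 654804468240), (nat_lit 654820127745), (nat_lit 288317081445), (nat_lit 590395687440)],
    [[.l 1, .l 2, .l 3, .l 4, .l 5, .l 6, .l 7],
    [.l 1, .l 2, .l 3, .l 4, .l 5, .l 7],
    [.l 1, .l 2],
    [.l 5, .mul (.mul (.l 2) (.l 5)) (.inv (.l 2)), .mul (.mul (.l 6) (.l 5)) (.l 6), .mul (.mul (.mul (.mul (.l 1) (.l 6)) (.l 5)) (.l 6)) (.inv (.l 1))],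
    [.l 1, .l 2, .mul (.l 3) (.l 4), .l 5, .l 6],
    [.l 5, .mul (.mul (.l 2) (.l 5)) (.inv (.l 2)), .l 6, .mul (.l 3) (.l 4)],
    [.l 5, .mul (.mul (.l 2) (.l 5)) (.inv (.l 2)), .l 6],
    [.l 2, .l 3, .l 5],
    [.l 1, .mul (.l 4) (.l 7), .mul (.mul (.l 6) (.l 5)) (.l 6)],
    [.l 2, .l 3, .l 5, .l 1, .mul (.l 4) (.l 7), .mul (.mul (.l 6) (.l 5)) (.l 6)],
    [.l 1, .l 2, .l 3, .l 4, .l 6, .l 7],
    [.mul (.mul (.mul (.l 5) (.l 6)) (.l 5)) (.l 6), .mul (.mul (.mul (.l 1) (.l 2)) (.mul (.mul (.mul (.l 5) (.l 6)) (.l 5)) (.l 6))) (.inv (.mul (.l 1) (.l 2)))],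
    [.mul (.mul (.mul (.mul (.l 3) (.l 4)) (.l 7)) (.mul (.mul (.mul (.l 5) (.l 6)) (.l 5)) (.l 6))) (.inv (.mul (.mul (.l 3) (.l 4)) (.l 7))), .mul (.mul (.mul (.mul (.l 3) (.l 4)) (.l 7)) (.mul (.mul (.mul (.l 1) (.l 2)) (.mul (.mul (.mul (.l 5) (.l 6)) (.l 5)) (.l 6))) (.inv (.mul (.l 1) (.l 2))))) (.inv (.mul (.mul (.l 3) (.l 4)) (.l 7)))],
    [.l 6, .mul (.l 1) (.l 2)],
    [.l 2, .l 3, .l 5, .l 1, .mul (.l 4) (.l 7), .mul (.mul (.l 6) (.l 5)) (.l 6), .l 7]],
    [x10_L0, x10_L1, x10_L2, x10_L3, x10_L4, x10_L5, x10_L6, x10_L7, x10_L8, x10_L9, x10_L10, x10_L11, x10_L12, x10_L13, x10_L14], [x10_D0, x10_D1, x10_D2, x10_D3, x10_D4, x10_D5, x10_D6, x10_D7, x10_D8, x10_D9, x10_D10, x10_D11, x10_D12, x10_D13, x10_D14]⟩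

instance x10_ne : NeZero x10.n := ⟨by decide⟩

theorem x10_ok0 : x10.ok0 = true := by decide +kernel

theorem x10_k0 : allFrom (nat_lit 0) (nat_lit 1) x10.okK = true := by decide +kernel

theorem x10_k1 : allFrom (nat_lit 1) (nat_lit 1) x10.okK = true := by decide +kernel

theorem x10_k2 : allFrom (nat_lit 2) (nat_lit 1) x10.okK = true := by decide +kernel

theorem x10_k3 : allFrom (nat_lit 3) (nat_lit 1) x10.okK = true := by decide +kernel

theorem x10_k4 : allFrom (nat_lit 4) (nat_lit 1) x10.okK = true := by decide +kernel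

theorem x10_k5 : allFrom (nat_lit 5) (nat_lit 1) x10.okK = true := by decide +kernel

theorem x10_k6 : allFrom (nat_lit 6) (nat_lit 1) x10.okK = true := by decide +kernel

theorem x10_k7 : allFrom (nat_lit 7) (nat_lit 1) x10.okK = true := by decide +kernel

theorem x10_k8 : allFrom (nat_lit 8) (nat_lit 1) x10.okK = true := by decide +kernel

theorem x10_k9 : allFrom (nat_lit 9) (nat_lit 1) x10.okK = true := by decide +kernel

theorem x10_k10 : allFrom (nat_lit 10) (nat_lit 1) x10.okK = true := by decide +kernel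

theorem x10_k11 : allFrom (nat_lit 11) (nat_lit 1) x10.okK = true := by decide +kernel

theorem x10_k12 : allFrom (nat_lit 12) (nat_lit 1) x10.okK = true := by decide +kernel

theorem x10_k13 : allFrom (nat_lit 13) (nat_lit 1) x10.okK = true := by decide +kernel

theorem x10_k14 : allFrom (nat_lit 14) (nat_lit 1) x10.okK = true := by decide +kernel

theorem x10_ok : x10.OK := PM.OK.of_check x10_ok0
  (of_allFrom_append (of_allFrom_append (of_allFrom_append (of_allFrom_append (of_allFrom_append (of_allFrom_append (of_allFrom_append (of_allFrom_append (of_allFrom_append (of_allFrom_append (of_allFrom_append (of_allFrom_append (of_allFrom_append (of_allFrom_append (of_allFrom_append of_lt_zero x10_k0) x10_k1) x10_k2) x10_k3) x10_k4) x10_k5) x10_k6) x10_k7) x10_k8) x10_k9) x10_k10) x10_k11) x10_k12) x10_k13) x10_k14)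

theorem x10_card0 : Nat.card (genW x10.gam (x10.ws 0)) = 14400 := (x10_ok.card 0).trans (by decide +kernel)

theorem x10_card1 : Nat.card (genW x10.gam (x10.ws 1)) = 720 := (x10_ok.card 1).trans (by decide +kernel)

theorem x10_card2 : Nat.card (genW x10.gam (x10.ws 2)) = 9 := (x10_ok.card 2).trans (by decide +kernel)

theorem x10_card3 : Nat.card (genW x10.gam (x10.ws 3)) = 16 := (x10_ok.card 3).trans (by decide +kernel)

theorem x10_card4 : Nat.card (genW x10.gam (x10.ws 4)) = 576 := (x10_ok.card 4).trans (by decide +kernel)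

theorem x10_card5 : Nat.card (genW x10.gam (x10.ws 5)) = 64 := (x10_ok.card 5).trans (by decide +kernel)

theorem x10_card6 : Nat.card (genW x10.gam (x10.ws 6)) = 32 := (x10_ok.card 6).trans (by decide +kernel)

theorem x10_card7 : Nat.card (genW x10.gam (x10.ws 7)) = 60 := (x10_ok.card 7).trans (by decide +kernel)

theorem x10_card8 : Nat.card (genW x10.gam (x10.ws 8)) = 60 := (x10_ok.card 8).trans (by decide +kernel)

theorem x10_card9 : Nat.card (genW x10.gam (x10.ws 9)) = 3600 := (x10_ok.card 9).trans (by decide +kernel)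

theorem x10_card10 : Nat.card (genW x10.gam (x10.ws 10)) = 144 := (x10_ok.card 10).trans (by decide +kernel)

theorem x10_card11 : Nat.card (genW x10.gam (x10.ws 11)) = 4 := (x10_ok.card 11).trans (by decide +kernel)

theorem x10_card12 : Nat.card (genW x10.gam (x10.ws 12)) = 4 := (x10_ok.card 12).trans (by decide +kernel)

theorem x10_card13 : Nat.card (genW x10.gam (x10.ws 13)) = 6 := (x10_ok.card 13).trans (by decide +kernel)

theorem x10_card14 : Nat.card (genW x10.gam (x10.ws 14)) = 7200 := (x10_ok.card 14).trans (by decide +kernel)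

/-- inverse letters -/
def tcX_iv : ℕ := 71715388499200

/-- inverse letters -/
def tcX_labs : List W := [.l 0, .l 1, .l 2, .l 3, .l 4, .l 5, .l 6, .l 7, .inv (.l 1), .inv (.l 2)]

def tcX_F : Tr := .leaf (nat_lit 0x2ccb344c3124c931cc733ccf314d33448332c8b2244921c8723c8f214932444322c4b11c4713c4f1145312c0b03c0f0240900c1101c0704b8502bcaf43c2a2348f1bc6f3a4ef13d2f4342f3b0ec3b8ee2388e2308c1b06e4b04e0b90e2b4ad1b46d3aced1352d4282d0b10c32cc622c8942c292acab1ac6b12d2b2a8aa214852288a1a86a394ea1292a2a4a9424251a4691252938ce8198681112849c484202839ce621c8609d0749047298a34984341826294a51946511525388e420884290a40910408d03089022048118461384e11052140421380e0280a02008018060480404002034cd0348ce344cc4c04c33cc82b8a8334c72b0a70ad05328c4324c32208319c6311922314c21906248c42288a1304c000000)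
def tcX_T : Tr := .leaf (nat_lit 0x9ca307b9ac5a928398a418820)
def tcX_P : Tr := .node (.node (.leaf (nat_lit 0x14490b00213144315006116c4f6d002070a07130021112661013002121241130061110555d5a5400210100f5a0000a1006460060910535b00209104111002080c48560000d0c4656000090e410f004060e060900201060437050d00202060d000000c3e0d000050a04023103050b000140a48470b002120a3f0b006114704393d050021008043d3b050020b08043b050900203083f0900406063f070040504340500407022d03390061202332f03002120233030021302280300611022b0300211))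
  (.leaf (nat_lit 0x1ff001ff001ff001ff001ff001ff001ff001ff001ff001ff001ffdac3db002072221270021126b327d50061226b9b7270021226b9270021326b5270061126b12500211241c1faf1e1d2500014249923bf00612249f9d2500212249f2500213249525006112497230021122181b931a19230001422a19b230021222a12300213228923006112018601db00020220a1210040d209b210040920892100405)))
  (.leaf (nat_lit 0x2098b000001209600000ac7bad0020714621f002111e65878e006121e67111f002121e6713002131e5e1f006111e611b00211969e970040d9c1c67111d0021099185a641d0020b981c100f190020b1c65540f19000031c63455619000021c5e1d004078b7a8a006071a5c5b1b002121a5c87002131a591b006111a571500211185919004070c0b17000116c7817000086c1700004164f1700607164d1700606164b170060573784f7277004100a0915730061214080b72006121449461500212))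
def tcX_N_0 : Tr := .node (.node (.node (.node (.leaf (nat_lit 2114))
  (.leaf (nat_lit 4100)))
  (.node (.leaf (nat_lit 175248612))
  (.leaf (nat_lit 0))))
  (.node (.node (.leaf (nat_lit 36900))
  (.leaf (nat_lit 231)))
  (.leaf (nat_lit 290))))
  (.node (.node (.node (.leaf (nat_lit 1057))
  (.leaf (nat_lit 198)))
  (.leaf (nat_lit 211733910725)))
  (.node (.node (.leaf (nat_lit 269351))
  (.leaf (nat_lit 1032)))
  (.leaf (nat_lit 99))))
def tcX_N_1 : Tr := .node (.node (.node (.node (.leaf (nat_lit 170035362))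
  (.leaf (nat_lit 165)))
  (.leaf (nat_lit 7477350)))
  (.node (.node (.leaf (nat_lit 134275))
  (.leaf (nat_lit 40)))
  (.leaf (nat_lit 9218))))
  (.node (.node (.node (.leaf (nat_lit 106593))
  (.leaf (nat_lit 6150)))
  (.leaf (nat_lit 257)))
  (.node (.node (.leaf (nat_lit 105575))
  (.leaf (nat_lit 73)))
  (.leaf (nat_lit 132))))
def tcX_N_2 : Tr := .node (.node (.node (.node (.leaf (nat_lit 68675))
  (.leaf (nat_lit 165)))
  (.node (.leaf (nat_lit 301094))
  (.leaf (nat_lit 0))))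
  (.node (.node (.leaf (nat_lit 299076))
  (.leaf (nat_lit 7175)))
  (.leaf (nat_lit 290))))
  (.node (.node (.node (.leaf (nat_lit 303169))
  (.leaf (nat_lit 198)))
  (.leaf (nat_lit 257)))
  (.node (.node (.leaf (nat_lit 302151))
  (.leaf (nat_lit 73)))
  (.leaf (nat_lit 3075))))
def tcX_N_3 : Tr := .node (.node (.node (.node (.leaf (nat_lit 171084963))
  (.leaf (nat_lit 5125)))
  (.leaf (nat_lit 235750)))
  (.node (.node (.leaf (nat_lit 172070019))
  (.leaf (nat_lit 40)))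
  (.leaf (nat_lit 99))))
  (.node (.node (.node (.leaf (nat_lit 172193))
  (.leaf (nat_lit 231)))
  (.leaf (nat_lit 8193)))
  (.node (.node (.leaf (nat_lit 138375))
  (.leaf (nat_lit 2057)))
  (.leaf (nat_lit 132))))
def tcX_N : Tr := .node (.node tcX_N_0
  tcX_N_1)
  (.node tcX_N_2
  tcX_N_3)
noncomputable def tcX : TC :=
  ⟨[.l 0, .l 1, .l 2, .l 3, .l 4, .l 5, .l 6, .l 7, .l 8, .l 9],
    (nat_lit 5), (nat_lit 8), (nat_lit 71715388499200), (nat_lit 191), (nat_lit 20), (nat_lit 6), (nat_lit 32), (nat_lit 3), (nat_lit 50),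
    get (nat_lit 10) (nat_lit 0x1003010030080400c02010030080400c02010030080400c02010030080400c02010030080801005010060100401004018040100401004010030180601003), Tr.get tcX_N, get (nat_lit 20) (nat_lit 0x3ff003ff003ff003ff003ff003ff003ff003ff003ff003ff003ff003ff003ff003ff003ff003ff003ff003ff003ff003ff003ff003ff003ff003ff003ff003ff003ff003ff003ff0001900018000170001600014000130001200011000100000e0000d0000c0000b0000900008000070000600005000040000300000),
    Tr.get3 tcX_F (nat_lit 20) (nat_lit 5), Tr.get3 tcX_T (nat_lit 5) (nat_lit 7), Tr.get tcX_P⟩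

theorem tcX_head : tcX.headOK relX tcX_iv = true := by decide +kernel

theorem tcX_b0 : allFrom (nat_lit 0) (nat_lit 3) tcX.blockOK = true := by decide +kernel

def tcX_Q7 : Tr := .leaf (nat_lit 0xd4c8beb8a69e8ea08f72a7665d5c734867493832)
theorem tcX_f7_0 : allFrom (nat_lit 0) (nat_lit 20) (tcX.finOK (nat_lit 20) (Tr.get3 tcX_Q7 (nat_lit 8) (nat_lit 6)) (nat_lit 7)) = true := by
  decide +kernel

def tcX_Q6 : Tr := .leaf (nat_lit 0x272523261f241b228715131e1a860b14120a0302)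
theorem tcX_f6_0 : allFrom (nat_lit 0) (nat_lit 20) (tcX.finOK (nat_lit 20) (Tr.get3 tcX_Q6 (nat_lit 8) (nat_lit 6)) (nat_lit 6)) = true := by
  decide +kernel

def tcX_Q5 : Tr := .leaf (nat_lit 0xdccec2baae1d9219807a6e1c18554e4454050430)
theorem tcX_f5_0 : allFrom (nat_lit 0) (nat_lit 20) (tcX.finOK (nat_lit 20) (Tr.get3 tcX_Q5 (nat_lit 8) (nat_lit 6)) (nat_lit 5)) = true := by
  decide +kernel

def tcX_Q4 : Tr := .leaf (nat_lit 0xd8cccdb6aa9cab9a857684115b5a784610473c2e)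
theorem tcX_f4_0 : allFrom (nat_lit 0) (nat_lit 20) (tcX.finOK (nat_lit 20) (Tr.get3 tcX_Q4 (nat_lit 8) (nat_lit 6)) (nat_lit 4)) = true := by
  decide +kernel

def tcX_Q3 : Tr := .leaf (nat_lit 0xd6cac0b2a89890997e746a640f654c090e083a2c)
theorem tcX_f3_0 : allFrom (nat_lit 0) (nat_lit 20) (tcX.finOK (nat_lit 20) (Tr.get3 tcX_Q3 (nat_lit 8) (nat_lit 6)) (nat_lit 3)) = true := by
  decide +kernel

def tcX_Q2 : Tr := .leaf (nat_lit 0xd3c7bdb0a5968d207d716960560d4b635206372a)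
theorem tcX_f2_0 : allFrom (nat_lit 0) (nat_lit 20) (tcX.finOK (nat_lit 20) (Tr.get3 tcX_Q2 (nat_lit 8) (nat_lit 6)) (nat_lit 2)) = true := by
  decide +kernel

def tcX_Q1 : Tr := .leaf (nat_lit 0xd0c4dab5a2958a8917ac825e59506c43413f3428)
theorem tcX_f1_0 : allFrom (nat_lit 0) (nat_lit 20) (tcX.finOK (nat_lit 20) (Tr.get3 tcX_Q1 (nat_lit 8) (nat_lit 6)) (nat_lit 1)) = true := by
  decide +kernel

theorem tcX_blocks : ∀ t < tcX.k, tcX.blockOK t = true :=
  (of_allFrom_append of_lt_zero tcX_b0)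

/-- index 20 max 20 total 20 facts 111 | needed cosets 20 facts 111 steps 303 trivial 0 -/
theorem tcX_index {G : Type*} [Group G] {γ : ℕ → G} (hL : Lab γ tcX_iv) (hr : ∀ t ∈ relX, t.ev γ = 1) {K : Subgroup G}
    (hK : ∀ t ∈ ([.l 1, .l 2, .l 3, .l 4, .l 5, .l 7] : List W), t.ev γ ∈ K) :
    K.relIndex (genW γ [.l 1, .l 2, .l 3, .l 4, .l 5, .l 6, .l 7]) ≠ 0 ∧ K.relIndex (genW γ [.l 1, .l 2, .l 3, .l 4, .l 5, .l 6, .l 7]) ≤ 20 :=
  TC.relIndex_le (D := tcX) (gens := [1, 2, 3, 4, 5, 6, 7]) hL (List.forall_mem_cons.2 ⟨hL.zero_mem K, hK⟩) hr tcX_head tcX_blocks (by decide) (by decide)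
   (List.forall_mem_cons.2 ⟨⟨_, (of_allFrom_append of_lt_zero tcX_f1_0)⟩,
    List.forall_mem_cons.2 ⟨⟨_, (of_allFrom_append of_lt_zero tcX_f2_0)⟩,
    List.forall_mem_cons.2 ⟨⟨_, (of_allFrom_append of_lt_zero tcX_f3_0)⟩,
    List.forall_mem_cons.2 ⟨⟨_, (of_allFrom_append of_lt_zero tcX_f4_0)⟩,
    List.forall_mem_cons.2 ⟨⟨_, (of_allFrom_append of_lt_zero tcX_f5_0)⟩,
    List.forall_mem_cons.2 ⟨⟨_, (of_allFrom_append of_lt_zero tcX_f6_0)⟩,
    List.forall_mem_cons.2 ⟨⟨_, (of_allFrom_append of_lt_zero tcX_f7_0)⟩,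
    fun _ h => absurd h List.not_mem_nil⟩⟩⟩⟩⟩⟩⟩)

theorem tcX_idx {G : Type*} [Group G] {γ : ℕ → G} (h0 : γ 0 = 1) (hr : ∀ t ∈ relX, t.ev γ = 1) {K : Subgroup G}
    (hK : ∀ t ∈ ([.l 1, .l 2, .l 3, .l 4, .l 5, .l 7] : List W), t.ev γ ∈ K) :
    K.relIndex (genW γ [.l 1, .l 2, .l 3, .l 4, .l 5, .l 6, .l 7]) ≠ 0 ∧ K.relIndex (genW γ [.l 1, .l 2, .l 3, .l 4, .l 5, .l 6, .l 7]) ≤ 20 := by
  have a := lab_of_rels h0 hr (iv := tcX_iv) (labs := tcX_labs) (by decide +kernel)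
  have b := tcX_index a.1 a.2 (mems_fix (by decide +kernel) hK)
  rwa [genW_fix (by decide +kernel)] at b

/-- a formula -/
def x10_ker_f : Fm := .all 0 40 [(.l 2, .l 2), (.l 3, .l 3), (.l 5, .l 5)] (.imp (.eq (.mul (.l 2) (.mul (.mul (.l 6) (.l 40)) (.inv (.l 6)))) (.mul (.mul (.mul (.l 6) (.l 40)) (.inv (.l 6))) (.l 2))) (.imp (.eq (.mul (.l 3) (.mul (.mul (.l 6) (.l 40)) (.inv (.l 6)))) (.mul (.mul (.mul (.l 6) (.l 40)) (.inv (.l 6))) (.l 3))) (.imp (.eq (.mul (.l 5) (.mul (.mul (.l 6) (.l 40)) (.inv (.l 6)))) (.mul (.mul (.mul (.l 6) (.l 40)) (.inv (.l 6))) (.l 5))) (.one (.l 40)))))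

theorem x10_ker_ev : x10.eval x10_ker_f = true := by decide +kernel

theorem x10_ker {G : Type*} [Group G] {γ : ℕ → G} {k : ℕ} {N : List W} (g : Gf x10 γ k N)
    (e : tyB x10 k N x10_ker_f = true := by decide +kernel) :
    ∀ n ∈ genW γ (x10.ws 0), n * γ 2 = γ 2 * n → n * γ 3 = γ 3 * n → n * γ 5 = γ 5 * n → γ 2 * (γ 6 * n * (γ 6)⁻¹) = γ 6 * n * (γ 6)⁻¹ * γ 2 → γ 3 * (γ 6 * n * (γ 6)⁻¹) = γ 6 * n * (γ 6)⁻¹ * γ 3 → γ 5 * (γ 6 * n * (γ 6)⁻¹) = γ 6 * n * (γ 6)⁻¹ * γ 5 → n = 1 :=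
  g.transfer e x10_ker_ev

/-- a formula -/
def x10_cy_f : Fm := .all 0 40 [(.l 2, .l 2)] (.mem 14 (.l 40))

theorem x10_cy_ev : x10.eval x10_cy_f = true := by decide +kernel

theorem x10_cy {G : Type*} [Group G] {γ : ℕ → G} {k : ℕ} {N : List W} (g : Gf x10 γ k N)
    (e : tyB x10 k N x10_cy_f = true := by decide +kernel) :
    ∀ n ∈ genW γ (x10.ws 0), n * γ 2 = γ 2 * n → n ∈ genW γ (x10.ws 14) :=
  g.transfer e x10_cy_ev

/-- a formula -/
def x10_q1_f : Fm := .all 6 40 [] (.imp (.one (.mul (.l 40) (.l 40))) (.or (.one (.l 40)) (.or (.ex 0 41 [(.l 3, .l 40)] (.tt)) (.or (.ex 0 41 [(.mul (.mul (.mul (.l 5) (.l 6)) (.l 5)) (.l 6), .l 40)] (.tt)) (.ex 0 41 [(.l 6, .l 40)] (.tt))))))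

theorem x10_q1_ev : x10.eval x10_q1_f = true := by decide +kernel

theorem x10_q1 {G : Type*} [Group G] {γ : ℕ → G} {k : ℕ} {N : List W} (g : Gf x10 γ k N)
    (e : tyB x10 k N x10_q1_f = true := by decide +kernel) :
    ∀ t ∈ genW γ (x10.ws 6), t * t = 1 → t = 1 ∨ (∃ k ∈ genW γ (x10.ws 0), k * γ 3 = t * k ∧ True) ∨ (∃ k ∈ genW γ (x10.ws 0), k * (γ 5 * γ 6 * γ 5 * γ 6) = t * k ∧ True) ∨ (∃ k ∈ genW γ (x10.ws 0), k * γ 6 = t * k ∧ True) :=
  g.transfer e x10_q1_ev

/-- a formula -/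
def x10_we_f : Fm := .ex 0 40 [(.l 7, .mul (.l 3) (.l 4))] (.tt)

theorem x10_we_ev : x10.eval x10_we_f = true := by decide +kernel

theorem x10_we {G : Type*} [Group G] {γ : ℕ → G} {k : ℕ} {N : List W} (g : Gf x10 γ k N)
    (e : tyB x10 k N x10_we_f = true := by decide +kernel) :
    ∃ k ∈ genW γ (x10.ws 0), k * γ 7 = γ 3 * γ 4 * k ∧ True :=
  g.transfer e x10_we_ev

/-- a formula -/
def x10_cs_f : Fm := .all 0 40 [(.mul (.l 1) (.l 2), .mul (.l 1) (.l 2)), (.l 6, .l 6)] (.and (.or (.one (.pow (.l 40) 2)) (.or (.eq (.pow (.l 40) 2) (.mul (.l 1) (.l 2))) (.eq (.pow (.l 40) 2) (.inv (.mul (.l 1) (.l 2)))))) (.or (.mem 13 (.l 40)) (.mem 13 (.mul (.l 40) (.l 7)))))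

theorem x10_cs_ev : x10.eval x10_cs_f = true := by decide +kernel

theorem x10_cs {G : Type*} [Group G] {γ : ℕ → G} {k : ℕ} {N : List W} (g : Gf x10 γ k N)
    (e : tyB x10 k N x10_cs_f = true := by decide +kernel) :
    ∀ n ∈ genW γ (x10.ws 0), n * (γ 1 * γ 2) = γ 1 * γ 2 * n → n * γ 6 = γ 6 * n → (n ^ 2 = 1 ∨ n ^ 2 = γ 1 * γ 2 ∨ n ^ 2 = (γ 1 * γ 2)⁻¹) ∧ (n ∈ genW γ (x10.ws 13) ∨ n * γ 7 ∈ genW γ (x10.ws 13)) :=
  g.transfer e x10_cs_ev

/-- a formula -/
def x10_qE_f : Fm := .all 3 40 [] (.or (.one (.l 40)) (.or (.ex 0 41 [(.l 3, .l 40)] (.tt)) (.ex 0 41 [(.mul (.mul (.mul (.l 5) (.l 6)) (.l 5)) (.l 6), .l 40)] (.tt))))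

theorem x10_qE_ev : x10.eval x10_qE_f = true := by decide +kernel

theorem x10_qE {G : Type*} [Group G] {γ : ℕ → G} {k : ℕ} {N : List W} (g : Gf x10 γ k N)
    (e : tyB x10 k N x10_qE_f = true := by decide +kernel) :
    ∀ q ∈ genW γ (x10.ws 3), q = 1 ∨ (∃ k ∈ genW γ (x10.ws 0), k * γ 3 = q * k ∧ True) ∨ (∃ k ∈ genW γ (x10.ws 0), k * (γ 5 * γ 6 * γ 5 * γ 6) = q * k ∧ True) :=
  g.transfer e x10_qE_ev

/-- a formula -/
def x10_tE_f : Fm := .all 5 40 [] (.imp (.mem 9 (.l 40)) (.mem 3 (.l 40)))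

theorem x10_tE_ev : x10.eval x10_tE_f = true := by decide +kernel

theorem x10_tE {G : Type*} [Group G] {γ : ℕ → G} {k : ℕ} {N : List W} (g : Gf x10 γ k N)
    (e : tyB x10 k N x10_tE_f = true := by decide +kernel) :
    ∀ t ∈ genW γ (x10.ws 5), t ∈ genW γ (x10.ws 9) → t ∈ genW γ (x10.ws 3) :=
  g.transfer e x10_tE_ev

/-- a formula -/
def x10_f1_f : Fm := .all 4 40 [] (.imp (.mem 9 (.l 40)) (.mem 7 (.mul (.mul (.l 40) (.l 5)) (.inv (.l 40)))))

theorem x10_f1_ev : x10.eval x10_f1_f = true := by decide +kernel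

theorem x10_f1 {G : Type*} [Group G] {γ : ℕ → G} {k : ℕ} {N : List W} (g : Gf x10 γ k N)
    (e : tyB x10 k N x10_f1_f = true := by decide +kernel) :
    ∀ n ∈ genW γ (x10.ws 4), n ∈ genW γ (x10.ws 9) → n * γ 5 * n⁻¹ ∈ genW γ (x10.ws 7) :=
  g.transfer e x10_f1_ev

/-- a formula -/
def x10_f2_f : Fm := .all 2 40 [] (.or (.or (.one (.l 40)) (.or (.eq (.l 40) (.l 2)) (.eq (.l 40) (.inv (.l 2))))) (.all 9 41 [(.l 40, .inv (.l 40))] (.imp (.one (.mul (.l 41) (.l 41))) (.or (.ex 9 42 [(.l 41, .mul (.mul (.l 6) (.l 5)) (.l 6))] (.tt)) (.ex 9 42 [(.l 41, .mul (.mul (.mul (.l 5) (.l 6)) (.l 5)) (.l 6))] (.tt))))))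

theorem x10_f2_ev : x10.eval x10_f2_f = true := by decide +kernel

theorem x10_f2 {G : Type*} [Group G] {γ : ℕ → G} {k : ℕ} {N : List W} (g : Gf x10 γ k N)
    (e : tyB x10 k N x10_f2_f = true := by decide +kernel) :
    ∀ d ∈ genW γ (x10.ws 2), (d = 1 ∨ d = γ 2 ∨ d = (γ 2)⁻¹) ∨ (∀ i ∈ genW γ (x10.ws 9), i * d = d⁻¹ * i → i * i = 1 → (∃ l ∈ genW γ (x10.ws 9), l * i = γ 6 * γ 5 * γ 6 * l ∧ True) ∨ (∃ l ∈ genW γ (x10.ws 9), l * i = γ 5 * γ 6 * γ 5 * γ 6 * l ∧ True)) :=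
  g.transfer e x10_f2_ev

/-- a formula -/
def x10_f3_f : Fm := .all 2 40 [] (.all 9 41 [(.l 2, .l 40)] (.or (.eq (.l 40) (.l 2)) (.eq (.l 40) (.inv (.l 2)))))

theorem x10_f3_ev : x10.eval x10_f3_f = true := by decide +kernel

theorem x10_f3 {G : Type*} [Group G] {γ : ℕ → G} {k : ℕ} {N : List W} (g : Gf x10 γ k N)
    (e : tyB x10 k N x10_f3_f = true := by decide +kernel) :
    ∀ d ∈ genW γ (x10.ws 2), ∀ n ∈ genW γ (x10.ws 9), n * γ 2 = d * n → d = γ 2 ∨ d = (γ 2)⁻¹ :=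
  g.transfer e x10_f3_ev

/-- a formula -/
def x10_f4_f : Fm := .all 9 40 [(.l 2, .l 2)] (.or (.or (.one (.l 40)) (.or (.eq (.l 40) (.l 2)) (.eq (.l 40) (.inv (.l 2))))) (.ex 8 41 [] (.ex 8 42 [(.l 40, .mul (.l 1) (.mul (.mul (.l 41) (.l 40)) (.inv (.l 41))))] (.tt))))

theorem x10_f4_ev : x10.eval x10_f4_f = true := by decide +kernel

theorem x10_f4 {G : Type*} [Group G] {γ : ℕ → G} {k : ℕ} {N : List W} (g : Gf x10 γ k N)
    (e : tyB x10 k N x10_f4_f = true := by decide +kernel) :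
    ∀ n ∈ genW γ (x10.ws 9), n * γ 2 = γ 2 * n → (n = 1 ∨ n = γ 2 ∨ n = (γ 2)⁻¹) ∨ (∃ k ∈ genW γ (x10.ws 8), ∃ l ∈ genW γ (x10.ws 8), l * n = γ 1 * (k * n * k⁻¹) * l ∧ True) :=
  g.transfer e x10_f4_ev

/-- a formula -/
def x10_f6_f : Fm := .all 3 40 [] (.imp (.mem 3 (.mul (.mul (.l 3) (.l 40)) (.inv (.l 3)))) (.imp (.mem 3 (.mul (.mul (.mul (.l 4) (.l 7)) (.l 40)) (.inv (.mul (.l 4) (.l 7))))) (.one (.l 40))))

theorem x10_f6_ev : x10.eval x10_f6_f = true := by decide +kernel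

theorem x10_f6 {G : Type*} [Group G] {γ : ℕ → G} {k : ℕ} {N : List W} (g : Gf x10 γ k N)
    (e : tyB x10 k N x10_f6_f = true := by decide +kernel) :
    ∀ q ∈ genW γ (x10.ws 3), γ 3 * q * (γ 3)⁻¹ ∈ genW γ (x10.ws 3) → γ 4 * γ 7 * q * (γ 4 * γ 7)⁻¹ ∈ genW γ (x10.ws 3) → q = 1 :=
  g.transfer e x10_f6_ev

/-- a formula -/
def x10_nE_f : Fm := .all 3 40 [] (.all 0 41 [(.l 5, .l 40)] (.imp (.mem 3 (.mul (.mul (.l 41) (.mul (.mul (.l 2) (.l 5)) (.inv (.l 2)))) (.inv (.l 41)))) (.imp (.mem 3 (.mul (.mul (.l 41) (.mul (.mul (.l 6) (.l 5)) (.l 6))) (.inv (.l 41)))) (.imp (.mem 3 (.mul (.mul (.l 41) (.mul (.mul (.mul (.mul (.l 1) (.l 6)) (.l 5)) (.l 6)) (.inv (.l 1)))) (.inv (.l 41)))) (.mem 4 (.l 41))))))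

theorem x10_nE_ev : x10.eval x10_nE_f = true := by decide +kernel

theorem x10_nE {G : Type*} [Group G] {γ : ℕ → G} {k : ℕ} {N : List W} (g : Gf x10 γ k N)
    (e : tyB x10 k N x10_nE_f = true := by decide +kernel) :
    ∀ q ∈ genW γ (x10.ws 3), ∀ n ∈ genW γ (x10.ws 0), n * γ 5 = q * n → n * (γ 2 * γ 5 * (γ 2)⁻¹) * n⁻¹ ∈ genW γ (x10.ws 3) → n * (γ 6 * γ 5 * γ 6) * n⁻¹ ∈ genW γ (x10.ws 3) → n * (γ 1 * γ 6 * γ 5 * γ 6 * (γ 1)⁻¹) * n⁻¹ ∈ genW γ (x10.ws 3) → n ∈ genW γ (x10.ws 4) :=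
  g.transfer e x10_nE_ev

/-- a formula -/
def x10_c0_f : Fm := .all 0 40 [(.l 2, .l 2), (.l 3, .l 3), (.l 5, .l 5), (.l 1, .l 1), (.mul (.l 4) (.l 7), .mul (.l 4) (.l 7)), (.mul (.mul (.l 6) (.l 5)) (.l 6), .mul (.mul (.l 6) (.l 5)) (.l 6))] (.one (.l 40))

theorem x10_c0_ev : x10.eval x10_c0_f = true := by decide +kernel

theorem x10_c0 {G : Type*} [Group G] {γ : ℕ → G} {k : ℕ} {N : List W} (g : Gf x10 γ k N)
    (e : tyB x10 k N x10_c0_f = true := by decide +kernel) :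
    ∀ n ∈ genW γ (x10.ws 0), n * γ 2 = γ 2 * n → n * γ 3 = γ 3 * n → n * γ 5 = γ 5 * n → n * γ 1 = γ 1 * n → n * (γ 4 * γ 7) = γ 4 * γ 7 * n → n * (γ 6 * γ 5 * γ 6) = γ 6 * γ 5 * γ 6 * n → n = 1 :=
  g.transfer e x10_c0_ev

/-- a formula -/
def x10_l12_f : Fm := .all 7 40 [] (.imp (.mem 8 (.l 40)) (.one (.l 40)))

theorem x10_l12_ev : x10.eval x10_l12_f = true := by decide +kernel

theorem x10_l12 {G : Type*} [Group G] {γ : ℕ → G} {k : ℕ} {N : List W} (g : Gf x10 γ k N)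
    (e : tyB x10 k N x10_l12_f = true := by decide +kernel) :
    ∀ n ∈ genW γ (x10.ws 7), n ∈ genW γ (x10.ws 8) → n = 1 :=
  g.transfer e x10_l12_ev

/-- relators of `A₅` -/
def relL : List W := [.pow (.l 2) 3, .mul (.l 3) (.l 3), .mul (.l 5) (.l 5), .pow (.mul (.l 3) (.l 2)) 2, .pow (.mul (.l 2) (.l 5)) 3, .pow (.mul (.l 3) (.l 5)) 3]

def a5_L0 : List (ℕ × List ℕ) := [((nat_lit 0), [(nat_lit 18056), (nat_lit 17937), (nat_lit 17986), (nat_lit 9740), (nat_lit 10307)]),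
  ((nat_lit 1), [(nat_lit 18056), (nat_lit 9824), (nat_lit 14416), (nat_lit 6296)]),
  ((nat_lit 2), [(nat_lit 18056), (nat_lit 13576), (nat_lit 10440)])]

def a5_D0 : List ℕ := [(nat_lit 0), (nat_lit 513), (nat_lit 769), (nat_lit 44546), (nat_lit 58370), (nat_lit 0), (nat_lit 52738), (nat_lit 25346), (nat_lit 2976515), (nat_lit 0), (nat_lit 4488707), (nat_lit 1703171)]

def a5 : PM :=
  ⟨(nat_lit 5), (nat_lit 3), [(nat_lit 18056), (nat_lit 17937), (nat_lit 14465), (nat_lit 18056), (nat_lit 9985)],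
    [[.l 2, .l 3, .l 5]],
    [a5_L0], [a5_D0]⟩

instance a5_ne : NeZero a5.n := ⟨by decide⟩

theorem a5_ok0 : a5.ok0 = true := by decide +kernel

theorem a5_k0 : allFrom (nat_lit 0) (nat_lit 1) a5.okK = true := by decide +kernel

theorem a5_ok : a5.OK := PM.OK.of_check a5_ok0
  (of_allFrom_append of_lt_zero a5_k0)

theorem a5_card0 : Nat.card (genW a5.gam (a5.ws 0)) = 60 := (a5_ok.card 0).trans (by decide +kernel)

/-- inverse letters -/
def tcL_iv : ℕ := 2319554592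

/-- inverse letters -/
def tcL_labs : List W := [.l 0, .l 0, .l 2, .l 3, .l 0, .l 5, .inv (.l 2)]

def tcL_F : Tr := .leaf (nat_lit 0xbd17b1ee3ecdc8bb3742e0d88ba1e83e4d98b93702c4778f82ee5d8db8b41e43d8da8b61dc3d4d50b53682ac758f32e45c0d90ae2ca5c4d78b03482bcd70a61c23b4d60ad3402b0730ea1b83a4d40a93362a0d38a533229cd28991a838cd10a3326288b095a34227cac9602a857c680de33a278c789d2b8548ce09a29e56ca815832c260658d732a25cc6096314254ca09229454cc808e296538c588918831cc2887304214c20813762cc7d0f02f25b4bc16c16e6acdb0aa2ea5a4ba1682e659c591a61e2390d80a42de58cb716235a280760df2d6578b515d35226c740da1ce360b31571ca358b215534624c710d2142644700d133e244cf08f1ba3384e18d1b6334cd08d1b2330cc08c32e228ab1491aa3244a1881a6320c90882a251c4818619e318c708629a514a614411660c650c331220ca414230e208a314118a30442180286500610c030220000000)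
def tcL_T : Tr := .leaf (nat_lit 0xefae78df6d74cf2c70beeb6caeaa689e69648e28607de75c6da6585d65544d24503ce34c2ca2481c61440c2040)
def tcL_P : Tr := .node (.leaf (nat_lit 0x503437002014a924f002014e303300201328c4b002014626290000146aa0000044242700201341a7c2343002023e430000040227f1933002033e220e1129002023c1e21000013c9c000003a1c1f0020124107a1b3900202343900000361a0a0d1f002033018780d2100202308c000002e1417000012e8a000002c12060919000022a1215002012429000002610040715002031c21000001c0c020717002021217000000e0409000010e7a000000a020500201020900000))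
  (.leaf (nat_lit 0x1ff001ff001ff7666b4cae80020276d16f0000176e400000e1c875002017460630020172c3a8516900003725aa5b26700002cbb0a4be71000027058a3ae5f000036c549e576f00202d26f000006cbd65000016cd4000006abb9a455d000036a52979c5500002563c96b66900002664e95a0570000360488e4d6500202c4650000062482a2d4b0020360c6000005e46878a49000024c2e86aa5d000025a4043000015abe00000583e4100201543a83904d000035236390000152b600000))
def tcL_N_0 : Tr := .node (.node (.node (.node (.leaf (nat_lit 2114))
  (.leaf (nat_lit 165)))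
  (.leaf (nat_lit 194)))
  (.node (.node (.leaf (nat_lit 33))
  (.leaf (nat_lit 70)))
  (.leaf (nat_lit 3075))))
  (.node (.node (.node (.leaf (nat_lit 170035362))
  (.leaf (nat_lit 5125)))
  (.leaf (nat_lit 99)))
  (.node (.node (.leaf (nat_lit 1025))
  (.leaf (nat_lit 0)))
  (.leaf (nat_lit 132))))
def tcL_N_1 : Tr := .node (.node (.node (.node (.leaf (nat_lit 68675))
  (.leaf (nat_lit 165)))
  (.leaf (nat_lit 6146)))
  (.node (.node (.leaf (nat_lit 33))
  (.leaf (nat_lit 2054)))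
  (.leaf (nat_lit 132))))
  (.node (.node (.node (.leaf (nat_lit 171084963))
  (.leaf (nat_lit 70)))
  (.leaf (nat_lit 99)))
  (.node (.node (.leaf (nat_lit 194))
  (.leaf (nat_lit 0)))
  (.leaf (nat_lit 4100))))
def tcL_N : Tr := .node tcL_N_0
  tcL_N_1
noncomputable def tcL : TC :=
  ⟨[.l 0, .l 1, .l 2, .l 3, .l 4, .l 5, .l 6],
    (nat_lit 6), (nat_lit 8), (nat_lit 2319554592), (nat_lit 1), (nat_lit 60), (nat_lit 0), (nat_lit 32), (nat_lit 2), (nat_lit 24),
    get (nat_lit 10) (nat_lit 0x1003010030080400c02010030080400c02010030080400c020180601003), Tr.get tcL_N, get (nat_lit 20) (nat_lit 0x3ff003ff003ff003ff003ff003ff003ff003ff003ff003ff003ff003ff003ff003ff003ff003ff003ff003ff003ff003ff00005000040000300000),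
    Tr.get3 tcL_F (nat_lit 22) (nat_lit 5), Tr.get3 tcL_T (nat_lit 6) (nat_lit 7), Tr.get tcL_P⟩

theorem tcL_head : tcL.headOK relL tcL_iv = true := by decide +kernel

theorem tcL_b0 : allFrom (nat_lit 0) (nat_lit 2) tcL.blockOK = true := by decide +kernel

def tcL_Q5 : Tr := .leaf (nat_lit 0xf0f17371dfde6b6967cfcace5f5d727057556a68664dcb495e5ca9a4a256549b96a8a5944c2d48a3869a239597821b1983872c11220d1a1807100c06)
theorem tcL_f5_0 : allFrom (nat_lit 0) (nat_lit 60) (tcL.finOK (nat_lit 60) (Tr.get3 tcL_Q5 (nat_lit 8) (nat_lit 6)) (nat_lit 5)) = true := by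
  decide +kernel

def tcL_Q3 : Tr := .leaf (nat_lit 0xee75e6e0efdad6e7d0db6374e1d7c259d1bcba514fbd4b62ae45c34158a03bbb3750334e904a2baf274440a11f3a363291152a267e1e0b7f14050a04)
theorem tcL_f3_0 : allFrom (nat_lit 0) (nat_lit 60) (tcL.finOK (nat_lit 60) (Tr.get3 tcL_Q3 (nat_lit 8) (nat_lit 6)) (nat_lit 3)) = true := by
  decide +kernel

def tcL_Q2 : Tr := .leaf (nat_lit 0xece8e4ea6fd8d4dc7665e2c8c6ccc0bed26cb8b6b2c4b460acaa435aa69e9c395298b0928e8c8a2946883e213c843430172e80247c1c7a09120e7802)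
theorem tcL_f2_0 : allFrom (nat_lit 0) (nat_lit 60) (tcL.finOK (nat_lit 60) (Tr.get3 tcL_Q2 (nat_lit 8) (nat_lit 6)) (nat_lit 2)) = true := by
  decide +kernel

theorem tcL_blocks : ∀ t < tcL.k, tcL.blockOK t = true :=
  (of_allFrom_append of_lt_zero tcL_b0)

/-- index 60 max 60 total 60 facts 121 | needed cosets 60 facts 121 steps 213 trivial 0 -/
theorem tcL_index {G : Type*} [Group G] {γ : ℕ → G} (hL : Lab γ tcL_iv) (hr : ∀ t ∈ relL, t.ev γ = 1) {K : Subgroup G}
    (hK : ∀ t ∈ ([] : List W), t.ev γ ∈ K) :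
    K.relIndex (genW γ [.l 2, .l 3, .l 5]) ≠ 0 ∧ K.relIndex (genW γ [.l 2, .l 3, .l 5]) ≤ 60 :=
  TC.relIndex_le (D := tcL) (gens := [2, 3, 5]) hL (List.forall_mem_cons.2 ⟨hL.zero_mem K, hK⟩) hr tcL_head tcL_blocks (by decide) (by decide)
   (List.forall_mem_cons.2 ⟨⟨_, (of_allFrom_append of_lt_zero tcL_f2_0)⟩,
    List.forall_mem_cons.2 ⟨⟨_, (of_allFrom_append of_lt_zero tcL_f3_0)⟩,
    List.forall_mem_cons.2 ⟨⟨_, (of_allFrom_append of_lt_zero tcL_f5_0)⟩,
    fun _ h => absurd h List.not_mem_nil⟩⟩⟩)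

theorem tcL_idx {G : Type*} [Group G] {γ : ℕ → G} (h0 : γ 0 = 1) (hr : ∀ t ∈ relL, t.ev γ = 1) {K : Subgroup G}
    (hK : ∀ t ∈ ([] : List W), t.ev γ ∈ K) :
    K.relIndex (genW γ [.l 2, .l 3, .l 5]) ≠ 0 ∧ K.relIndex (genW γ [.l 2, .l 3, .l 5]) ≤ 60 := by
  have a := lab_of_rels h0 hr (iv := tcL_iv) (labs := tcL_labs) (by decide +kernel)
  have b := tcL_index a.1 a.2 (mems_fix (by decide +kernel) hK)
  rwa [genW_fix (by decide +kernel)] at b

theorem tcL_tb : TB relL [.l 2, .l 3, .l 5] 60 := fun _ _ _ h0 hr =>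
  card_le_of_relIndex (N := 1) bot_le (tcL_idx h0 hr nil_all) card_bot_le

def s6_L0 : List (ℕ × List ℕ) := [((nat_lit 0), [(nat_lit 181896), (nat_lit 181889), (nat_lit 144453), (nat_lit 22730), (nat_lit 107052), (nat_lit 35603)]),
  ((nat_lit 1), [(nat_lit 181896), (nat_lit 55504), (nat_lit 144488), (nat_lit 72472), (nat_lit 107360)]),
  ((nat_lit 3), [(nat_lit 181896), (nat_lit 88264), (nat_lit 181448), (nat_lit 109320)]),
  ((nat_lit 2), [(nat_lit 181896), (nat_lit 87816), (nat_lit 83784)]),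
  ((nat_lit 4), [(nat_lit 181896), (nat_lit 153224)])]

def s6_D0 : List ℕ := [(nat_lit 0), (nat_lit 513), (nat_lit 1281), (nat_lit 25602), (nat_lit 37122), (nat_lit 50178), (nat_lit 0), (nat_lit 22786), (nat_lit 46338), (nat_lit 2976003), (nat_lit 3861763), (nat_lit 0), (nat_lit 140562180), (nat_lit 5990086405), (nat_lit 10467276549), (nat_lit 0), (nat_lit 17366097669), (nat_lit 32040587917063), (nat_lit 0), (nat_lit 1719887659782)]

def s6 : PM :=
  ⟨(nat_lit 6), (nat_lit 3), [(nat_lit 181889), (nat_lit 22737)],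
    [[.l 1, .l 2]],
    [s6_L0], [s6_D0]⟩

instance s6_ne : NeZero s6.n := ⟨by decide⟩

theorem s6_ok0 : s6.ok0 = true := by decide +kernel

theorem s6_k0 : allFrom (nat_lit 0) (nat_lit 1) s6.okK = true := by decide +kernel

theorem s6_ok : s6.OK := PM.OK.of_check s6_ok0
  (of_allFrom_append of_lt_zero s6_k0)

theorem s6_card0 : Nat.card (genW s6.gam (s6.ws 0)) = 720 := (s6_ok.card 0).trans (by decide +kernel)

theorem s6_al : ∀ u ∈ genW s6.gam (s6.ws 0), u * u = 1 → u ≠ 1 → ∀ c ∈ genW s6.gam (s6.ws 0), c * u = u * c → c * c = 1 → ∀ t ∈ genW s6.gam (s6.ws 0), t * u = c * t → t * c = u * c * t → t ^ 3 = 1 → ∃ k ∈ genW s6.gam (s6.ws 0), k * t = t * k ∧ k * u = u * k ∧ k ≠ 1 :=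
  s6_ok.holds (φ := .all 0 40 [] (.imp (.one (.mul (.l 40) (.l 40))) (.imp (.not (.one (.l 40))) (.all 0 41 [(.l 40, .l 40)] (.imp (.one (.mul (.l 41) (.l 41))) (.all 0 42 [(.l 40, .l 41), (.l 41, .mul (.l 40) (.l 41))] (.imp (.one (.pow (.l 42) 3)) (.ex 0 43 [(.l 42, .l 42), (.l 40, .l 40)] (.not (.one (.l 43))))))))))) (by decide +kernel)

theorem s6_be : ∀ a ∈ genW s6.gam (s6.ws 0), a * a = 1 → a ≠ 1 → (∀ t ∈ genW s6.gam (s6.ws 0), t * a = a * t → t ^ 3 = 1 → t = 1) ∨ (∀ h ∈ genW s6.gam (s6.ws 0), h * a = a * h → h * h = 1 → h ≠ a → (∀ w ∈ genW s6.gam (s6.ws 0), w * h = a * w → ¬ True) ∨ (∃ j ∈ genW s6.gam (s6.ws 0), j * a = a * j ∧ j * h = h * j ∧ j ≠ h ∧ j ≠ a ∧ j ≠ h * a ∧ (∃ r ∈ genW s6.gam (s6.ws 0), r * a = a * r ∧ r * h = j * r ∧ True) ∧ (∀ c ∈ genW s6.gam (s6.ws 0), c * h = h * c → c * a = a * c → c = h ∨ c = a ∨ c = j ∨ (∀ n ∈ genW s6.gam (s6.ws 0), n * h = c * n → ¬ True)))) :=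
  s6_ok.holds (φ := .all 0 40 [] (.imp (.one (.mul (.l 40) (.l 40))) (.imp (.not (.one (.l 40))) (.or (.all 0 41 [(.l 40, .l 40)] (.imp (.one (.pow (.l 41) 3)) (.one (.l 41)))) (.all 0 41 [(.l 40, .l 40)] (.imp (.one (.mul (.l 41) (.l 41))) (.imp (.not (.eq (.l 41) (.l 40))) (.or (.all 0 42 [(.l 41, .l 40)] (.not (.tt))) (.ex 0 42 [(.l 40, .l 40), (.l 41, .l 41)] (.and (.not (.eq (.l 42) (.l 41))) (.and (.not (.eq (.l 42) (.l 40))) (.and (.not (.eq (.l 42) (.mul (.l 41) (.l 40)))) (.and (.ex 0 43 [(.l 40, .l 40), (.l 41, .l 42)] (.tt)) (.all 0 43 [(.l 41, .l 41), (.l 40, .l 40)] (.or (.eq (.l 43) (.l 41)) (.or (.eq (.l 43) (.l 40)) (.or (.eq (.l 43) (.l 42)) (.all 0 44 [(.l 41, .l 43)] (.not (.tt)))))))))))))))))))) (by decide +kernel)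

open Cfsg.Lib.Loc3 in
theorem w6_soc : ∀ e ∈ genW w6.gam (w6.ws 0), e = 1 ∨ (∃ c ∈ genW w6.gam (w6.ws 0), c * e * c⁻¹ * e⁻¹ ≠ 1 ∧ (∃ k ∈ genW w6.gam (w6.ws 0), ∃ l ∈ genW w6.gam (w6.ws 0), l * (c * e * c⁻¹ * e⁻¹) = w6.gam 1 * (k * (c * e * c⁻¹ * e⁻¹)⁻¹ * k⁻¹) * l ∧ True)) :=
  w6_ok.holds (φ := .all 0 40 [] (.or (.one (.l 40)) (.ex 0 41 [] (.and (.not (.one (.mul (.mul (.mul (.l 41) (.l 40)) (.inv (.l 41))) (.inv (.l 40))))) (.ex 0 42 [] (.ex 0 43 [(.mul (.mul (.mul (.l 41) (.l 40)) (.inv (.l 41))) (.inv (.l 40)), .mul (.l 1) (.mul (.mul (.l 42) (.inv (.mul (.mul (.mul (.l 41) (.l 40)) (.inv (.l 41))) (.inv (.l 40))))) (.inv (.l 42))))] (.tt))))))) (by decide +kernel)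

end Cfsg.Lib.Mc3
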