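import Cfsg.Agent.Lib.Mc3.McM

/-! More facts on the 3-local subgroups of the McLaughlin group (generated data, helper17). -/

set_option autoImplicit false
set_option maxRecDepth 1000000
set_option maxHeartbeats 0

namespace Cfsg.Lib.Mc3

open Cfsg.Lib.Calc Cfsg.Lib.Grp Cfsg.Lib.T2 Cfsg.Lib.T3

/-- a formula -/
def m30_cl_f : Fm := .all 4 40 [] (.or (.one (.l 40)) (.or (.ex 9 41 [(.l 9, .l 40)] (.tt)) (.or (.ex 9 41 [(.l 1, .l 40)] (.tt)) (.ex 9 41 [(.mul (.mul (.l 6) (.l 1)) (.inv (.l 6)), .l 40)] (.tt)))))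

theorem m30_cl_ev : m30.eval m30_cl_f = true := by decide +kernel

theorem m30_cl {G : Type*} [Group G] {γ : ℕ → G} {k : ℕ} {N : List W} (g : Gf m30 γ k N)
    (e : tyB m30 k N m30_cl_f = true := by decide +kernel) :
    ∀ e ∈ genW γ (m30.ws 4), e = 1 ∨ (∃ h ∈ genW γ (m30.ws 9), h * γ 9 = e * h ∧ True) ∨ (∃ h ∈ genW γ (m30.ws 9), h * γ 1 = e * h ∧ True) ∨ (∃ h ∈ genW γ (m30.ws 9), h * (γ 6 * γ 1 * (γ 6)⁻¹) = e * h ∧ True) :=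
  g.transfer e m30_cl_ev

/-- a formula -/
def m30_clP_f : Fm := .all 20 40 [] (.or (.one (.l 40)) (.or (.ex 9 41 [(.l 1, .l 40)] (.tt)) (.ex 9 41 [(.mul (.mul (.l 6) (.l 1)) (.inv (.l 6)), .l 40)] (.tt))))

theorem m30_clP_ev : m30.eval m30_clP_f = true := by decide +kernel

theorem m30_clP {G : Type*} [Group G] {γ : ℕ → G} {k : ℕ} {N : List W} (g : Gf m30 γ k N)
    (e : tyB m30 k N m30_clP_f = true := by decide +kernel) :
    ∀ e ∈ genW γ (m30.ws 20), e = 1 ∨ (∃ h ∈ genW γ (m30.ws 9), h * γ 1 = e * h ∧ True) ∨ (∃ h ∈ genW γ (m30.ws 9), h * (γ 6 * γ 1 * (γ 6)⁻¹) = e * h ∧ True) :=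
  g.transfer e m30_clP_ev

/-- a formula -/
def m30_Pp_f : Fm := .all 21 40 [] (.or (.one (.l 40)) (.ex 20 41 [] (.ex 9 42 [(.l 9, .mul (.l 41) (.l 40))] (.tt))))

theorem m30_Pp_ev : m30.eval m30_Pp_f = true := by decide +kernel

theorem m30_Pp {G : Type*} [Group G] {γ : ℕ → G} {k : ℕ} {N : List W} (g : Gf m30 γ k N)
    (e : tyB m30 k N m30_Pp_f = true := by decide +kernel) :
    ∀ e ∈ genW γ (m30.ws 21), e = 1 ∨ (∃ a ∈ genW γ (m30.ws 20), ∃ h ∈ genW γ (m30.ws 9), h * γ 9 = a * e * h ∧ True) :=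
  g.transfer e m30_Pp_ev

/-- a formula -/
def m30_clT_f : Fm := .all 19 40 [] (.or (.one (.l 40)) (.or (.ex 15 41 [] (.ex 9 42 [(.l 9, .mul (.l 41) (.l 40))] (.tt))) (.ex 9 41 [(.l 1, .l 1), (.l 14, .l 40)] (.tt))))

theorem m30_clT_ev : m30.eval m30_clT_f = true := by decide +kernel

theorem m30_clT {G : Type*} [Group G] {γ : ℕ → G} {k : ℕ} {N : List W} (g : Gf m30 γ k N)
    (e : tyB m30 k N m30_clT_f = true := by decide +kernel) :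
    ∀ e ∈ genW γ (m30.ws 19), e = 1 ∨ (∃ a ∈ genW γ (m30.ws 15), ∃ h ∈ genW γ (m30.ws 9), h * γ 9 = a * e * h ∧ True) ∨ (∃ h ∈ genW γ (m30.ws 9), h * γ 1 = γ 1 * h ∧ h * γ 14 = e * h ∧ True) :=
  g.transfer e m30_clT_ev

/-- a formula -/
def m30_r3_f : Fm := .all 16 40 [] (.imp (.one (.pow (.l 40) 3)) (.or (.mem 4 (.l 40)) (.ex 4 41 [] (.ex 15 42 [] (.or (.eq (.mul (.mul (.mul (.l 41) (.l 40)) (.inv (.l 41))) (.l 42)) (.l 2)) (.eq (.mul (.mul (.mul (.l 41) (.inv (.l 40))) (.inv (.l 41))) (.l 42)) (.l 2)))))))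

theorem m30_r3_ev : m30.eval m30_r3_f = true := by decide +kernel

theorem m30_r3 {G : Type*} [Group G] {γ : ℕ → G} {k : ℕ} {N : List W} (g : Gf m30 γ k N)
    (e : tyB m30 k N m30_r3_f = true := by decide +kernel) :
    ∀ e ∈ genW γ (m30.ws 16), e ^ 3 = 1 → e ∈ genW γ (m30.ws 4) ∨ (∃ a ∈ genW γ (m30.ws 4), ∃ b ∈ genW γ (m30.ws 15), a * e * a⁻¹ * b = γ 2 ∨ a * e⁻¹ * a⁻¹ * b = γ 2) :=
  g.transfer e m30_r3_ev

/-- a formula -/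
def m30_r9_f : Fm := .all 16 40 [] (.and (.or (.one (.pow (.l 40) 3)) (.or (.eq (.pow (.l 40) 3) (.l 9)) (.eq (.pow (.l 40) 3) (.inv (.l 9))))) (.imp (.mem 18 (.pow (.l 40) 2)) (.mem 4 (.l 40))))

theorem m30_r9_ev : m30.eval m30_r9_f = true := by decide +kernel

theorem m30_r9 {G : Type*} [Group G] {γ : ℕ → G} {k : ℕ} {N : List W} (g : Gf m30 γ k N)
    (e : tyB m30 k N m30_r9_f = true := by decide +kernel) :
    ∀ e ∈ genW γ (m30.ws 16), (e ^ 3 = 1 ∨ e ^ 3 = γ 9 ∨ e ^ 3 = (γ 9)⁻¹) ∧ (e ^ 2 ∈ genW γ (m30.ws 18) → e ∈ genW γ (m30.ws 4)) :=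
  g.transfer e m30_r9_ev

/-- a formula -/
def m30_jv_f : Fm := .all 18 40 [] (.and (.ex 17 41 [] (.mem 4 (.mul (.l 40) (.l 41)))) (.and (.mem 4 (.pow (.l 40) 2)) (.imp (.one (.pow (.l 40) 3)) (.mem 4 (.l 40)))))

theorem m30_jv_ev : m30.eval m30_jv_f = true := by decide +kernel

theorem m30_jv {G : Type*} [Group G] {γ : ℕ → G} {k : ℕ} {N : List W} (g : Gf m30 γ k N)
    (e : tyB m30 k N m30_jv_f = true := by decide +kernel) :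
    ∀ n ∈ genW γ (m30.ws 18), (∃ v ∈ genW γ (m30.ws 17), n * v ∈ genW γ (m30.ws 4)) ∧ n ^ 2 ∈ genW γ (m30.ws 4) ∧ (n ^ 3 = 1 → n ∈ genW γ (m30.ws 4)) :=
  g.transfer e m30_jv_ev

/-- a formula -/
def m30_clB_f : Fm := .all 10 40 [] (.imp (.mem 14 (.l 40)) (.one (.l 40)))

theorem m30_clB_ev : m30.eval m30_clB_f = true := by decide +kernel

theorem m30_clB {G : Type*} [Group G] {γ : ℕ → G} {k : ℕ} {N : List W} (g : Gf m30 γ k N)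
    (e : tyB m30 k N m30_clB_f = true := by decide +kernel) :
    ∀ e ∈ genW γ (m30.ws 10), e ∈ genW γ (m30.ws 14) → e = 1 :=
  g.transfer e m30_clB_ev

/-- a formula -/
def m30_clA_f : Fm := .all 4 40 [] (.imp (.mem 6 (.l 40)) (.or (.mem 14 (.l 40)) (.or (.ex 9 41 [(.l 1, .l 40)] (.tt)) (.ex 9 41 [(.mul (.mul (.l 6) (.l 1)) (.inv (.l 6)), .l 40)] (.tt)))))

theorem m30_clA_ev : m30.eval m30_clA_f = true := by decide +kernel

theorem m30_clA {G : Type*} [Group G] {γ : ℕ → G} {k : ℕ} {N : List W} (g : Gf m30 γ k N)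
    (e : tyB m30 k N m30_clA_f = true := by decide +kernel) :
    ∀ e ∈ genW γ (m30.ws 4), e ∈ genW γ (m30.ws 6) → e ∈ genW γ (m30.ws 14) ∨ (∃ h ∈ genW γ (m30.ws 9), h * γ 1 = e * h ∧ True) ∨ (∃ h ∈ genW γ (m30.ws 9), h * (γ 6 * γ 1 * (γ 6)⁻¹) = e * h ∧ True) :=
  g.transfer e m30_clA_ev

/-- a formula -/
def m30_n2_f : Fm := .all 2 40 [(.l 11, .l 11)] (.imp (.mem 14 (.mul (.mul (.l 40) (.l 9)) (.inv (.l 40)))) (.mem 26 (.l 40)))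

theorem m30_n2_ev : m30.eval m30_n2_f = true := by decide +kernel

theorem m30_n2 {G : Type*} [Group G] {γ : ℕ → G} {k : ℕ} {N : List W} (g : Gf m30 γ k N)
    (e : tyB m30 k N m30_n2_f = true := by decide +kernel) :
    ∀ n ∈ genW γ (m30.ws 2), n * γ 11 = γ 11 * n → n * γ 9 * n⁻¹ ∈ genW γ (m30.ws 14) → n ∈ genW γ (m30.ws 26) :=
  g.transfer e m30_n2_ev

/-- a formula -/
def m30_n3_f : Fm := .all 3 40 [(.l 11, .l 11)] (.imp (.mem 14 (.mul (.mul (.l 40) (.l 9)) (.inv (.l 40)))) (.mem 27 (.l 40)))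

theorem m30_n3_ev : m30.eval m30_n3_f = true := by decide +kernel

theorem m30_n3 {G : Type*} [Group G] {γ : ℕ → G} {k : ℕ} {N : List W} (g : Gf m30 γ k N)
    (e : tyB m30 k N m30_n3_f = true := by decide +kernel) :
    ∀ n ∈ genW γ (m30.ws 3), n * γ 11 = γ 11 * n → n * γ 9 * n⁻¹ ∈ genW γ (m30.ws 14) → n ∈ genW γ (m30.ws 27) :=
  g.transfer e m30_n3_ev

/-- a formula -/
def m30_sq_f : Fm := .all 3 40 [(.l 11, .l 11), (.l 9, .l 15), (.l 15, .l 9)] (.mem 28 (.pow (.l 40) 2))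

theorem m30_sq_ev : m30.eval m30_sq_f = true := by decide +kernel

theorem m30_sq {G : Type*} [Group G] {γ : ℕ → G} {k : ℕ} {N : List W} (g : Gf m30 γ k N)
    (e : tyB m30 k N m30_sq_f = true := by decide +kernel) :
    ∀ n ∈ genW γ (m30.ws 3), n * γ 11 = γ 11 * n → n * γ 9 = γ 15 * n → n * γ 15 = γ 9 * n → n ^ 2 ∈ genW γ (m30.ws 28) :=
  g.transfer e m30_sq_ev

/-- a formula -/
def m30_be_f : Fm := .all 3 40 [(.l 11, .l 11), (.l 9, .l 15)] (.and (.not (.eq (.mul (.mul (.l 40) (.l 6)) (.inv (.l 40))) (.mul (.mul (.l 6) (.l 3)) (.mul (.l 7) (.l 3))))) (.not (.eq (.mul (.mul (.l 40) (.l 6)) (.inv (.l 40))) (.mul (.mul (.mul (.l 6) (.l 3)) (.mul (.l 7) (.l 3))) (.l 11)))))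

theorem m30_be_ev : m30.eval m30_be_f = true := by decide +kernel

theorem m30_be {G : Type*} [Group G] {γ : ℕ → G} {k : ℕ} {N : List W} (g : Gf m30 γ k N)
    (e : tyB m30 k N m30_be_f = true := by decide +kernel) :
    ∀ n ∈ genW γ (m30.ws 3), n * γ 11 = γ 11 * n → n * γ 9 = γ 15 * n → n * γ 6 * n⁻¹ ≠ γ 6 * γ 3 * (γ 7 * γ 3) ∧ n * γ 6 * n⁻¹ ≠ γ 6 * γ 3 * (γ 7 * γ 3) * γ 11 :=
  g.transfer e m30_be_ev

/-- a formula -/
def s8_sw_f : Fm := .all 0 40 [(.l 1, .l 2)] (.imp (.one (.mul (.l 40) (.l 40))) (.or (.ex 0 41 [(.l 6, .l 40)] (.tt)) (.ex 0 41 [(.mul (.mul (.l 3) (.l 4)) (.l 7), .l 40)] (.tt))))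

theorem s8_sw_ev : s8.eval s8_sw_f = true := by decide +kernel

theorem s8_sw {G : Type*} [Group G] {γ : ℕ → G} {k : ℕ} {N : List W} (g : Gf s8 γ k N)
    (e : tyB s8 k N s8_sw_f = true := by decide +kernel) :
    ∀ n ∈ genW γ (s8.ws 0), n * γ 1 = γ 2 * n → n * n = 1 → (∃ k ∈ genW γ (s8.ws 0), k * γ 6 = n * k ∧ True) ∨ (∃ k ∈ genW γ (s8.ws 0), k * (γ 3 * γ 4 * γ 7) = n * k ∧ True) :=
  g.transfer e s8_sw_ev

/-- a formula -/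
def s8_zT_f : Fm := .all 17 40 [(.l 5, .l 5), (.mul (.mul (.l 2) (.l 5)) (.inv (.l 2)), .mul (.mul (.l 2) (.l 5)) (.inv (.l 2))), (.l 6, .l 6), (.mul (.l 3) (.l 4), .mul (.l 3) (.l 4)), (.mul (.l 4) (.l 7), .mul (.l 4) (.l 7))] (.or (.one (.l 40)) (.and (.ex 0 41 [(.l 6, .l 40)] (.tt)) (.ex 0 41 [(.mul (.mul (.l 3) (.l 4)) (.l 7), .mul (.mul (.l 4) (.l 7)) (.l 40))] (.tt))))

theorem s8_zT_ev : s8.eval s8_zT_f = true := by decide +kernel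

theorem s8_zT {G : Type*} [Group G] {γ : ℕ → G} {k : ℕ} {N : List W} (g : Gf s8 γ k N)
    (e : tyB s8 k N s8_zT_f = true := by decide +kernel) :
    ∀ n ∈ genW γ (s8.ws 17), n * γ 5 = γ 5 * n → n * (γ 2 * γ 5 * (γ 2)⁻¹) = γ 2 * γ 5 * (γ 2)⁻¹ * n → n * γ 6 = γ 6 * n → n * (γ 3 * γ 4) = γ 3 * γ 4 * n → n * (γ 4 * γ 7) = γ 4 * γ 7 * n → n = 1 ∨ (∃ k ∈ genW γ (s8.ws 0), k * γ 6 = n * k ∧ True) ∧ (∃ k ∈ genW γ (s8.ws 0), k * (γ 3 * γ 4 * γ 7) = γ 4 * γ 7 * n * k ∧ True) :=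
  g.transfer e s8_zT_ev

/-- a formula -/
def a5_cv_f : Fm := .all 0 40 [] (.imp (.one (.mul (.l 40) (.l 40))) (.imp (.one (.pow (.mul (.l 2) (.l 40)) 3)) (.imp (.one (.pow (.mul (.l 3) (.l 40)) 3)) (.or (.eq (.l 40) (.l 5)) (.eq (.l 40) (.mul (.mul (.l 3) (.l 5)) (.inv (.l 3))))))))

theorem a5_cv_ev : a5.eval a5_cv_f = true := by decide +kernel

theorem a5_cv {G : Type*} [Group G] {γ : ℕ → G} {k : ℕ} {N : List W} (g : Gf a5 γ k N)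
    (e : tyB a5 k N a5_cv_f = true := by decide +kernel) :
    ∀ w ∈ genW γ (a5.ws 0), w * w = 1 → (γ 2 * w) ^ 3 = 1 → (γ 3 * w) ^ 3 = 1 → w = γ 5 ∨ w = γ 3 * γ 5 * (γ 3)⁻¹ :=
  g.transfer e a5_cv_ev

end Cfsg.Lib.Mc3
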