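import Cfsg.Agent.Lib.Mc3.McM

/-! More facts on the 3-local subgroups of the McLaughlin group (generated data, helper17). -/

set_option autoImplicit false
set_option maxRecDepth 1000000
set_option maxHeartbeats 0

namespace Cfsg.Lib.Mc3

open Cfsg.Lib.Calc Cfsg.Lib.Grp Cfsg.Lib.T2 Cfsg.Lib.T3

/-- a formula -/
def m30_cJ_f2 : Fm := .all 2 40 [(.l 1, .l 1), (.l 14, .l 14), (.l 16, .l 16), (.l 13, .l 13)] (.mem 4 (.l 40))

theorem m30_cJ_ev2 : m30.eval m30_cJ_f2 = true := by decide +kernel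

/-- a formula -/
def m30_cJ_f3 : Fm := .all 3 40 [(.l 1, .l 1), (.l 14, .l 14), (.l 16, .l 16), (.l 13, .l 13)] (.mem 4 (.l 40))

theorem m30_cJ_ev3 : m30.eval m30_cJ_f3 = true := by decide +kernel

theorem m30_cJ {G : Type*} [Group G] {γ : ℕ → G} {j : ℕ} (hj : j = 2 ∨ j = 3) (g : Gf m30 γ j []) :
    ∀ n ∈ genW γ (m30.ws j), n * γ 1 = γ 1 * n → n * γ 14 = γ 14 * n → n * γ 16 = γ 16 * n → n * γ 13 = γ 13 * n → n ∈ genW γ (m30.ws 4) := by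
  rcases hj with rfl | rfl
  exacts [g.transfer (by decide +kernel) m30_cJ_ev2, g.transfer (by decide +kernel) m30_cJ_ev3]

/-- a formula -/
def m30_nzy_f2 : Fm := .all 2 40 [(.l 9, .l 1)] (.not (.tt))

theorem m30_nzy_ev2 : m30.eval m30_nzy_f2 = true := by decide +kernel

/-- a formula -/
def m30_nzy_f3 : Fm := .all 3 40 [(.l 9, .l 1)] (.not (.tt))

theorem m30_nzy_ev3 : m30.eval m30_nzy_f3 = true := by decide +kernel

theorem m30_nzy {G : Type*} [Group G] {γ : ℕ → G} {j : ℕ} (hj : j = 2 ∨ j = 3) (g : Gf m30 γ j []) :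
    ∀ n ∈ genW γ (m30.ws j), n * γ 9 = γ 1 * n → ¬ True := by
  rcases hj with rfl | rfl
  exacts [g.transfer (by decide +kernel) m30_nzy_ev2, g.transfer (by decide +kernel) m30_nzy_ev3]

/-- a formula -/
def m30_cP_f2 : Fm := .all 2 40 [(.l 1, .l 1), (.l 14, .l 14)] (.and (.mem 4 (.pow (.l 40) 2)) (.and (.mem 21 (.mul (.mul (.l 40) (.l 16)) (.inv (.l 40)))) (.mem 21 (.mul (.mul (.l 40) (.l 13)) (.inv (.l 40))))))

theorem m30_cP_ev2 : m30.eval m30_cP_f2 = true := by decide +kernel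

/-- a formula -/
def m30_cP_f3 : Fm := .all 3 40 [(.l 1, .l 1), (.l 14, .l 14)] (.and (.mem 4 (.pow (.l 40) 2)) (.and (.mem 21 (.mul (.mul (.l 40) (.l 16)) (.inv (.l 40)))) (.mem 21 (.mul (.mul (.l 40) (.l 13)) (.inv (.l 40))))))

theorem m30_cP_ev3 : m30.eval m30_cP_f3 = true := by decide +kernel

theorem m30_cP {G : Type*} [Group G] {γ : ℕ → G} {j : ℕ} (hj : j = 2 ∨ j = 3) (g : Gf m30 γ j []) :
    ∀ n ∈ genW γ (m30.ws j), n * γ 1 = γ 1 * n → n * γ 14 = γ 14 * n → n ^ 2 ∈ genW γ (m30.ws 4) ∧ n * γ 16 * n⁻¹ ∈ genW γ (m30.ws 21) ∧ n * γ 13 * n⁻¹ ∈ genW γ (m30.ws 21) := by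
  rcases hj with rfl | rfl
  exacts [g.transfer (by decide +kernel) m30_cP_ev2, g.transfer (by decide +kernel) m30_cP_ev3]

/-- a formula -/
def m30_cU_f2 : Fm := .all 2 40 [(.l 1, .l 1), (.l 2, .l 2)] (.mem 23 (.l 40))

theorem m30_cU_ev2 : m30.eval m30_cU_f2 = true := by decide +kernel

/-- a formula -/
def m30_cU_f3 : Fm := .all 3 40 [(.l 1, .l 1), (.l 2, .l 2)] (.mem 23 (.l 40))

theorem m30_cU_ev3 : m30.eval m30_cU_f3 = true := by decide +kernel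

theorem m30_cU {G : Type*} [Group G] {γ : ℕ → G} {j : ℕ} (hj : j = 2 ∨ j = 3) (g : Gf m30 γ j []) :
    ∀ n ∈ genW γ (m30.ws j), n * γ 1 = γ 1 * n → n * γ 2 = γ 2 * n → n ∈ genW γ (m30.ws 23) := by
  rcases hj with rfl | rfl
  exacts [g.transfer (by decide +kernel) m30_cU_ev2, g.transfer (by decide +kernel) m30_cU_ev3]

/-- a formula -/
def m30_cPt_f2 : Fm := .all 2 40 [(.l 9, .l 9), (.l 15, .l 15)] (.mem 4 (.pow (.l 40) 4))

theorem m30_cPt_ev2 : m30.eval m30_cPt_f2 = true := by decide +kernel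

/-- a formula -/
def m30_cPt_f3 : Fm := .all 3 40 [(.l 9, .l 9), (.l 15, .l 15)] (.mem 4 (.pow (.l 40) 4))

theorem m30_cPt_ev3 : m30.eval m30_cPt_f3 = true := by decide +kernel

theorem m30_cPt {G : Type*} [Group G] {γ : ℕ → G} {j : ℕ} (hj : j = 2 ∨ j = 3) (g : Gf m30 γ j []) :
    ∀ n ∈ genW γ (m30.ws j), n * γ 9 = γ 9 * n → n * γ 15 = γ 15 * n → n ^ 4 ∈ genW γ (m30.ws 4) := by
  rcases hj with rfl | rfl
  exacts [g.transfer (by decide +kernel) m30_cPt_ev2, g.transfer (by decide +kernel) m30_cPt_ev3]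

/-- a formula -/
def m30_ct_f2 : Fm := .all 2 40 [(.l 11, .l 11)] (.and (.mem 22 (.pow (.l 40) 8)) (.and (.mem 22 (.mul (.mul (.l 40) (.l 9)) (.inv (.l 40)))) (.mem 22 (.mul (.mul (.l 40) (.l 15)) (.inv (.l 40))))))

theorem m30_ct_ev2 : m30.eval m30_ct_f2 = true := by decide +kernel

/-- a formula -/
def m30_ct_f3 : Fm := .all 3 40 [(.l 11, .l 11)] (.and (.mem 22 (.pow (.l 40) 8)) (.and (.mem 22 (.mul (.mul (.l 40) (.l 9)) (.inv (.l 40)))) (.mem 22 (.mul (.mul (.l 40) (.l 15)) (.inv (.l 40))))))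

theorem m30_ct_ev3 : m30.eval m30_ct_f3 = true := by decide +kernel

theorem m30_ct {G : Type*} [Group G] {γ : ℕ → G} {j : ℕ} (hj : j = 2 ∨ j = 3) (g : Gf m30 γ j []) :
    ∀ n ∈ genW γ (m30.ws j), n * γ 11 = γ 11 * n → n ^ 8 ∈ genW γ (m30.ws 22) ∧ n * γ 9 * n⁻¹ ∈ genW γ (m30.ws 22) ∧ n * γ 15 * n⁻¹ ∈ genW γ (m30.ws 22) := by
  rcases hj with rfl | rfl
  exacts [g.transfer (by decide +kernel) m30_ct_ev2, g.transfer (by decide +kernel) m30_ct_ev3]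

/-- a formula -/
def m30_zt_f2 : Fm := .all 2 40 [(.l 9, .l 9), (.l 11, .l 11)] (.mem 29 (.mul (.mul (.l 40) (.l 15)) (.inv (.l 40))))

theorem m30_zt_ev2 : m30.eval m30_zt_f2 = true := by decide +kernel

/-- a formula -/
def m30_zt_f3 : Fm := .all 3 40 [(.l 9, .l 9), (.l 11, .l 11)] (.mem 29 (.mul (.mul (.l 40) (.l 15)) (.inv (.l 40))))

theorem m30_zt_ev3 : m30.eval m30_zt_f3 = true := by decide +kernel

theorem m30_zt {G : Type*} [Group G] {γ : ℕ → G} {j : ℕ} (hj : j = 2 ∨ j = 3) (g : Gf m30 γ j []) :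
    ∀ n ∈ genW γ (m30.ws j), n * γ 9 = γ 9 * n → n * γ 11 = γ 11 * n → n * γ 15 * n⁻¹ ∈ genW γ (m30.ws 29) := by
  rcases hj with rfl | rfl
  exacts [g.transfer (by decide +kernel) m30_zt_ev2, g.transfer (by decide +kernel) m30_zt_ev3]

/-- a formula -/
def m30_nT_f2 : Fm := .all 2 40 [(.l 1, .l 1)] (.and (.mem 19 (.mul (.mul (.l 40) (.l 16)) (.inv (.l 40)))) (.and (.mem 19 (.mul (.mul (.l 40) (.mul (.mul (.l 2) (.l 16)) (.inv (.l 2)))) (.inv (.l 40)))) (.mem 19 (.mul (.mul (.l 40) (.mul (.mul (.inv (.l 2)) (.l 16)) (.l 2))) (.inv (.l 40))))))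

theorem m30_nT_ev2 : m30.eval m30_nT_f2 = true := by decide +kernel

/-- a formula -/
def m30_nT_f3 : Fm := .all 3 40 [(.l 1, .l 1)] (.and (.mem 19 (.mul (.mul (.l 40) (.l 16)) (.inv (.l 40)))) (.and (.mem 19 (.mul (.mul (.l 40) (.mul (.mul (.l 2) (.l 16)) (.inv (.l 2)))) (.inv (.l 40)))) (.mem 19 (.mul (.mul (.l 40) (.mul (.mul (.inv (.l 2)) (.l 16)) (.l 2))) (.inv (.l 40))))))

theorem m30_nT_ev3 : m30.eval m30_nT_f3 = true := by decide +kernel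

theorem m30_nT {G : Type*} [Group G] {γ : ℕ → G} {j : ℕ} (hj : j = 2 ∨ j = 3) (g : Gf m30 γ j []) :
    ∀ n ∈ genW γ (m30.ws j), n * γ 1 = γ 1 * n → n * γ 16 * n⁻¹ ∈ genW γ (m30.ws 19) ∧ n * (γ 2 * γ 16 * (γ 2)⁻¹) * n⁻¹ ∈ genW γ (m30.ws 19) ∧ n * ((γ 2)⁻¹ * γ 16 * γ 2) * n⁻¹ ∈ genW γ (m30.ws 19) := by
  rcases hj with rfl | rfl
  exacts [g.transfer (by decide +kernel) m30_nT_ev2, g.transfer (by decide +kernel) m30_nT_ev3]

/-- a formula -/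
def m30_nR_f2 : Fm := .all 2 40 [(.l 1, .l 1)] (.imp (.mem 16 (.mul (.mul (.l 40) (.l 2)) (.inv (.l 40)))) (.mem 16 (.pow (.l 40) 2)))

theorem m30_nR_ev2 : m30.eval m30_nR_f2 = true := by decide +kernel

/-- a formula -/
def m30_nR_f3 : Fm := .all 3 40 [(.l 1, .l 1)] (.imp (.mem 16 (.mul (.mul (.l 40) (.l 2)) (.inv (.l 40)))) (.mem 16 (.pow (.l 40) 2)))

theorem m30_nR_ev3 : m30.eval m30_nR_f3 = true := by decide +kernel

theorem m30_nR {G : Type*} [Group G] {γ : ℕ → G} {j : ℕ} (hj : j = 2 ∨ j = 3) (g : Gf m30 γ j []) :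
    ∀ n ∈ genW γ (m30.ws j), n * γ 1 = γ 1 * n → n * γ 2 * n⁻¹ ∈ genW γ (m30.ws 16) → n ^ 2 ∈ genW γ (m30.ws 16) := by
  rcases hj with rfl | rfl
  exacts [g.transfer (by decide +kernel) m30_nR_ev2, g.transfer (by decide +kernel) m30_nR_ev3]

end Cfsg.Lib.Mc3
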