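import Cfsg.Agent.Lib.Mc3.McM

/-! More facts on the 3-local subgroups of the McLaughlin group (generated data, helper17). -/

set_option autoImplicit false
set_option maxRecDepth 1000000
set_option maxHeartbeats 0

namespace Cfsg.Lib.Mc3

open Cfsg.Lib.Calc Cfsg.Lib.Grp Cfsg.Lib.T2 Cfsg.Lib.T3

/-- a formula -/
def m30_kv_f2 : Fm := .all 2 40 [(.l 1, .l 1)] (.or (.mem 18 (.l 40)) (.or (.ex 17 41 [] (.and (.mem 16 (.mul (.mul (.l 41) (.l 40)) (.inv (.l 41)))) (.not (.mem 4 (.mul (.mul (.l 41) (.l 40)) (.inv (.l 41))))))) (.ex 17 41 [] (.and (.mem 16 (.mul (.mul (.l 41) (.mul (.mul (.mul (.l 40) (.l 2)) (.inv (.l 40))) (.inv (.l 2)))) (.inv (.l 41)))) (.not (.mem 4 (.mul (.mul (.l 41) (.mul (.mul (.mul (.l 40) (.l 2)) (.inv (.l 40))) (.inv (.l 2)))) (.inv (.l 41)))))))))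

theorem m30_kv_ev2 : m30.eval m30_kv_f2 = true := by decide +kernel

/-- a formula -/
def m30_kv_f3 : Fm := .all 3 40 [(.l 1, .l 1)] (.or (.mem 18 (.l 40)) (.or (.ex 17 41 [] (.and (.mem 16 (.mul (.mul (.l 41) (.l 40)) (.inv (.l 41)))) (.not (.mem 4 (.mul (.mul (.l 41) (.l 40)) (.inv (.l 41))))))) (.ex 17 41 [] (.and (.mem 16 (.mul (.mul (.l 41) (.mul (.mul (.mul (.l 40) (.l 2)) (.inv (.l 40))) (.inv (.l 2)))) (.inv (.l 41)))) (.not (.mem 4 (.mul (.mul (.l 41) (.mul (.mul (.mul (.l 40) (.l 2)) (.inv (.l 40))) (.inv (.l 2)))) (.inv (.l 41)))))))))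

theorem m30_kv_ev3 : m30.eval m30_kv_f3 = true := by decide +kernel

theorem m30_kv {G : Type*} [Group G] {γ : ℕ → G} {j : ℕ} (hj : j = 2 ∨ j = 3) (g : Gf m30 γ j []) :
    ∀ n ∈ genW γ (m30.ws j), n * γ 1 = γ 1 * n → n ∈ genW γ (m30.ws 18) ∨ (∃ v ∈ genW γ (m30.ws 17), v * n * v⁻¹ ∈ genW γ (m30.ws 16) ∧ v * n * v⁻¹ ∉ genW γ (m30.ws 4)) ∨ (∃ v ∈ genW γ (m30.ws 17), v * (n * γ 2 * n⁻¹ * (γ 2)⁻¹) * v⁻¹ ∈ genW γ (m30.ws 16) ∧ v * (n * γ 2 * n⁻¹ * (γ 2)⁻¹) * v⁻¹ ∉ genW γ (m30.ws 4)) := by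
  rcases hj with rfl | rfl
  exacts [g.transfer (by decide +kernel) m30_kv_ev2, g.transfer (by decide +kernel) m30_kv_ev3]

/-- a formula -/
def m30_iv_f2 : Fm := .all 2 40 [(.l 1, .l 1)] (.imp (.one (.mul (.l 40) (.l 40))) (.or (.mem 18 (.l 40)) (.ex 19 41 [(.l 40, .l 40)] (.ex 9 42 [(.l 1, .l 1), (.l 14, .l 41)] (.tt)))))

theorem m30_iv_ev2 : m30.eval m30_iv_f2 = true := by decide +kernel

/-- a formula -/
def m30_iv_f3 : Fm := .all 3 40 [(.l 1, .l 1)] (.imp (.one (.mul (.l 40) (.l 40))) (.or (.mem 18 (.l 40)) (.ex 19 41 [(.l 40, .l 40)] (.ex 9 42 [(.l 1, .l 1), (.l 14, .l 41)] (.tt)))))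

theorem m30_iv_ev3 : m30.eval m30_iv_f3 = true := by decide +kernel

theorem m30_iv {G : Type*} [Group G] {γ : ℕ → G} {j : ℕ} (hj : j = 2 ∨ j = 3) (g : Gf m30 γ j []) :
    ∀ n ∈ genW γ (m30.ws j), n * γ 1 = γ 1 * n → n * n = 1 → n ∈ genW γ (m30.ws 18) ∨ (∃ e ∈ genW γ (m30.ws 19), e * n = n * e ∧ (∃ h ∈ genW γ (m30.ws 9), h * γ 1 = γ 1 * h ∧ h * γ 14 = e * h ∧ True)) := by
  rcases hj with rfl | rfl
  exacts [g.transfer (by decide +kernel) m30_iv_ev2, g.transfer (by decide +kernel) m30_iv_ev3]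

/-- a formula -/
def m30_cyz_f2 : Fm := .all 2 40 [(.l 1, .l 1), (.l 9, .l 9)] (.mem 16 (.l 40))

theorem m30_cyz_ev2 : m30.eval m30_cyz_f2 = true := by decide +kernel

/-- a formula -/
def m30_cyz_f3 : Fm := .all 3 40 [(.l 1, .l 1), (.l 9, .l 9)] (.mem 16 (.l 40))

theorem m30_cyz_ev3 : m30.eval m30_cyz_f3 = true := by decide +kernel

theorem m30_cyz {G : Type*} [Group G] {γ : ℕ → G} {j : ℕ} (hj : j = 2 ∨ j = 3) (g : Gf m30 γ j []) :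
    ∀ n ∈ genW γ (m30.ws j), n * γ 1 = γ 1 * n → n * γ 9 = γ 9 * n → n ∈ genW γ (m30.ws 16) := by
  rcases hj with rfl | rfl
  exacts [g.transfer (by decide +kernel) m30_cyz_ev2, g.transfer (by decide +kernel) m30_cyz_ev3]

end Cfsg.Lib.Mc3
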