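import Cfsg.Agent.Lib.Mc3.McM

/-! Facts on the 3-local subgroups of the McLaughlin group (generated data, helper17). -/

set_option autoImplicit false
set_option maxRecDepth 1000000
set_option maxHeartbeats 0

namespace Cfsg.Lib.Mc3

open Cfsg.Lib.Calc Cfsg.Lib.Grp Cfsg.Lib.T2 Cfsg.Lib.T3

theorem sl_s2 : ∀ u ∈ genW sl.gam (sl.ws 1), u ^ 3 = 1 → u ≠ 1 → ∀ v ∈ genW sl.gam (sl.ws 1), v ^ 3 = 1 → v = 1 ∨ v = u ∨ v = u⁻¹ ∨ (u * v) ^ 5 = sl.gam 4 ∨ (u * v * u⁻¹ * v⁻¹) ^ 2 = sl.gam 4 :=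
  sl_ok.holds (φ := .all 1 40 [] (.imp (.one (.pow (.l 40) 3)) (.imp (.not (.one (.l 40))) (.all 1 41 [] (.imp (.one (.pow (.l 41) 3)) (.or (.one (.l 41)) (.or (.eq (.l 41) (.l 40)) (.or (.eq (.l 41) (.inv (.l 40))) (.or (.eq (.pow (.mul (.l 40) (.l 41)) 5) (.l 4)) (.eq (.pow (.mul (.mul (.mul (.l 40) (.l 41)) (.inv (.l 40))) (.inv (.l 41))) 2) (.l 4))))))))))) (by decide +kernel)

theorem sl_s3 : ∀ c ∈ genW sl.gam (sl.ws 1), c ^ 3 = 1 ∨ c ^ 5 = 1 ∨ c = sl.gam 4 ∨ c ^ 2 = sl.gam 4 ∨ c ^ 3 = sl.gam 4 ∨ c ^ 5 = sl.gam 4 :=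
  sl_ok.holds (φ := .all 1 40 [] (.or (.one (.pow (.l 40) 3)) (.or (.one (.pow (.l 40) 5)) (.or (.eq (.l 40) (.l 4)) (.or (.eq (.pow (.l 40) 2) (.l 4)) (.or (.eq (.pow (.l 40) 3) (.l 4)) (.eq (.pow (.l 40) 5) (.l 4)))))))) (by decide +kernel)

theorem sl_s4 : ∃ c ∈ genW sl.gam (sl.ws 1), c ≠ 1 ∧ c ^ 5 = 1 :=
  sl_ok.holds (φ := .ex 1 40 [] (.and (.not (.one (.l 40))) (.one (.pow (.l 40) 5)))) (by decide +kernel)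

theorem sl_s5 : ∀ x ∈ genW sl.gam (sl.ws 1), x ^ 3 = 1 → ∃ c ∈ genW sl.gam (sl.ws 1), c * x = x⁻¹ * c ∧ True :=
  sl_ok.holds (φ := .all 1 40 [] (.imp (.one (.pow (.l 40) 3)) (.ex 1 41 [(.l 40, .inv (.l 40))] (.tt)))) (by decide +kernel)

theorem sl_s5b : ∀ x ∈ genW sl.gam (sl.ws 1), x ^ 3 = 1 → x ≠ 1 → ∀ c ∈ genW sl.gam (sl.ws 1), c * x = x⁻¹ * c → c ^ 2 = sl.gam 4 ∧ (∃ v ∈ genW sl.gam (sl.ws 1), v ^ 2 = sl.gam 4 ∧ ((x * v) ^ 3 = 1 ∨ (x * v) ^ 3 = sl.gam 4) ∧ ((c * v) ^ 3 = 1 ∨ (c * v) ^ 3 = sl.gam 4)) :=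
  sl_ok.holds (φ := .all 1 40 [] (.imp (.one (.pow (.l 40) 3)) (.imp (.not (.one (.l 40))) (.all 1 41 [(.l 40, .inv (.l 40))] (.and (.eq (.pow (.l 41) 2) (.l 4)) (.ex 1 42 [] (.and (.eq (.pow (.l 42) 2) (.l 4)) (.and (.or (.one (.pow (.mul (.l 40) (.l 42)) 3)) (.eq (.pow (.mul (.l 40) (.l 42)) 3) (.l 4))) (.or (.one (.pow (.mul (.l 41) (.l 42)) 3)) (.eq (.pow (.mul (.l 41) (.l 42)) 3) (.l 4))))))))))) (by decide +kernel)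

theorem sl_s5c : ∀ x ∈ genW sl.gam (sl.ws 1), x ^ 3 = 1 → x ≠ 1 → ∀ c ∈ genW sl.gam (sl.ws 1), c * x = x * c → c ^ 2 = 1 ∨ c ^ 2 = x ∨ c ^ 2 = x⁻¹ :=
  sl_ok.holds (φ := .all 1 40 [] (.imp (.one (.pow (.l 40) 3)) (.imp (.not (.one (.l 40))) (.all 1 41 [(.l 40, .l 40)] (.or (.one (.pow (.l 41) 2)) (.or (.eq (.pow (.l 41) 2) (.l 40)) (.eq (.pow (.l 41) 2) (.inv (.l 40))))))))) (by decide +kernel)

theorem sl_s1 : ∀ c ∈ genW sl.gam (sl.ws 1), c * sl.gam 4 = sl.gam 4 * c :=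
  sl_ok.holds (φ := .all 1 40 [] (.eq (.mul (.l 40) (.l 4)) (.mul (.l 4) (.l 40)))) (by decide +kernel)

theorem sl_aut : ∀ x ∈ genW sl.gam (sl.ws 1), x ^ 3 = 1 → ∀ y ∈ genW sl.gam (sl.ws 1), y ^ 3 = 1 → (x * y) ^ 2 = sl.gam 4 → ∀ w ∈ genW sl.gam (sl.ws 1), w ^ 3 = 1 → (x * w) ^ 2 = sl.gam 4 → (y * w) ^ 2 = sl.gam 4 → ∃ c ∈ genW sl.gam (sl.ws 0), c * sl.gam 1 = x * c ∧ c * sl.gam 2 = y * c ∧ c * sl.gam 3 = w * c ∧ True :=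
  sl_ok.holds (φ := .all 1 40 [] (.imp (.one (.pow (.l 40) 3)) (.all 1 41 [] (.imp (.one (.pow (.l 41) 3)) (.imp (.eq (.pow (.mul (.l 40) (.l 41)) 2) (.l 4)) (.all 1 42 [] (.imp (.one (.pow (.l 42) 3)) (.imp (.eq (.pow (.mul (.l 40) (.l 42)) 2) (.l 4)) (.imp (.eq (.pow (.mul (.l 41) (.l 42)) 2) (.l 4)) (.ex 0 43 [(.l 1, .l 40), (.l 2, .l 41), (.l 3, .l 42)] (.tt))))))))))) (by decide +kernel)

theorem sl_sq : ∀ c ∈ genW sl.gam (sl.ws 0), ∃ d ∈ genW sl.gam (sl.ws 1), d * sl.gam 1 = c ^ 2 * sl.gam 1 * (c ^ 2)⁻¹ * d ∧ d * sl.gam 2 = c ^ 2 * sl.gam 2 * (c ^ 2)⁻¹ * d ∧ d * sl.gam 3 = c ^ 2 * sl.gam 3 * (c ^ 2)⁻¹ * d ∧ True :=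
  sl_ok.holds (φ := .all 0 40 [] (.ex 1 41 [(.l 1, .mul (.mul (.pow (.l 40) 2) (.l 1)) (.inv (.pow (.l 40) 2))), (.l 2, .mul (.mul (.pow (.l 40) 2) (.l 2)) (.inv (.pow (.l 40) 2))), (.l 3, .mul (.mul (.pow (.l 40) 2) (.l 3)) (.inv (.pow (.l 40) 2)))] (.tt))) (by decide +kernel)

/-- a formula -/
def m30_cov_f : Fm := .all 5 40 [] (.imp (.one (.pow (.l 40) 3)) (.or (.mem 4 (.l 40)) (.mem 6 (.l 40))))

theorem m30_cov_ev : m30.eval m30_cov_f = true := by decide +kernel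

theorem m30_cov {G : Type*} [Group G] {γ : ℕ → G} {k : ℕ} {N : List W} (g : Gf m30 γ k N)
    (e : tyB m30 k N m30_cov_f = true := by decide +kernel) :
    ∀ e ∈ genW γ (m30.ws 5), e ^ 3 = 1 → e ∈ genW γ (m30.ws 4) ∨ e ∈ genW γ (m30.ws 6) :=
  g.transfer e m30_cov_ev

/-- a formula -/
def m30_cQ_f : Fm := .all 5 40 [] (.or (.mem 6 (.l 40)) (.all 6 41 [(.l 40, .l 40)] (.mem 4 (.l 41))))

theorem m30_cQ_ev : m30.eval m30_cQ_f = true := by decide +kernel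

theorem m30_cQ {G : Type*} [Group G] {γ : ℕ → G} {k : ℕ} {N : List W} (g : Gf m30 γ k N)
    (e : tyB m30 k N m30_cQ_f = true := by decide +kernel) :
    ∀ e ∈ genW γ (m30.ws 5), e ∈ genW γ (m30.ws 6) ∨ (∀ a ∈ genW γ (m30.ws 6), a * e = e * a → a ∈ genW γ (m30.ws 4)) :=
  g.transfer e m30_cQ_ev

/-- a formula -/
def m30_nB_f : Fm := .all 9 40 [] (.imp (.mem 10 (.mul (.mul (.l 40) (.l 2)) (.inv (.l 40)))) (.imp (.mem 10 (.mul (.mul (.l 40) (.l 10)) (.inv (.l 40)))) (.mem 13 (.l 40))))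

theorem m30_nB_ev : m30.eval m30_nB_f = true := by decide +kernel

theorem m30_nB {G : Type*} [Group G] {γ : ℕ → G} {k : ℕ} {N : List W} (g : Gf m30 γ k N)
    (e : tyB m30 k N m30_nB_f = true := by decide +kernel) :
    ∀ n ∈ genW γ (m30.ws 9), n * γ 2 * n⁻¹ ∈ genW γ (m30.ws 10) → n * γ 10 * n⁻¹ ∈ genW γ (m30.ws 10) → n ∈ genW γ (m30.ws 13) :=
  g.transfer e m30_nB_ev

/-- a formula -/
def m30_nO_f : Fm := .all 9 40 [] (.imp (.mem 11 (.mul (.mul (.l 40) (.l 3)) (.inv (.l 40)))) (.mem 12 (.l 40)))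

theorem m30_nO_ev : m30.eval m30_nO_f = true := by decide +kernel

theorem m30_nO {G : Type*} [Group G] {γ : ℕ → G} {k : ℕ} {N : List W} (g : Gf m30 γ k N)
    (e : tyB m30 k N m30_nO_f = true := by decide +kernel) :
    ∀ n ∈ genW γ (m30.ws 9), n * γ 3 * n⁻¹ ∈ genW γ (m30.ws 11) → n ∈ genW γ (m30.ws 12) :=
  g.transfer e m30_nO_ev

theorem m30_cls : ∀ a ∈ genW m30.gam (m30.ws 10), a ≠ 1 → ∀ b ∈ genW m30.gam (m30.ws 11), (a * b) ^ 4 = 1 → (a * b * b) ^ 2 = 1 → ∀ e ∈ genW m30.gam (m30.ws 12), e * e = 1 → (b * e) ^ 2 = 1 → (a * e) ^ 3 = 1 → (a * b * e) ^ 5 = 1 → ∀ g ∈ genW m30.gam (m30.ws 14), g ≠ 1 → ∃ n ∈ genW m30.gam (m30.ws 7), n * m30.gam 9 = g * n ∧ n * m30.gam 2 = a * n ∧ n * m30.gam 3 = b * n ∧ n * m30.gam 4 = e * n ∧ True :=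
  m30_ok.holds (φ := .all 10 40 [] (.imp (.not (.one (.l 40))) (.all 11 41 [] (.imp (.one (.pow (.mul (.l 40) (.l 41)) 4)) (.imp (.one (.pow (.mul (.mul (.l 40) (.l 41)) (.l 41)) 2)) (.all 12 42 [] (.imp (.one (.mul (.l 42) (.l 42))) (.imp (.one (.pow (.mul (.l 41) (.l 42)) 2)) (.imp (.one (.pow (.mul (.l 40) (.l 42)) 3)) (.imp (.one (.pow (.mul (.mul (.l 40) (.l 41)) (.l 42)) 5)) (.all 14 43 [] (.imp (.not (.one (.l 43))) (.ex 7 44 [(.l 9, .l 43), (.l 2, .l 40), (.l 3, .l 41), (.l 4, .l 42)] (.tt)))))))))))))) (by decide +kernel)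

theorem m30_cM : ∀ n ∈ genW m30.gam (m30.ws 0), n * m30.gam 9 = m30.gam 9 * n → n * m30.gam 2 = m30.gam 2 * n → n * m30.gam 3 = m30.gam 3 * n → n * m30.gam 4 = m30.gam 4 * n → n = 1 :=
  m30_ok.holds (φ := .all 0 40 [(.l 9, .l 9), (.l 2, .l 2), (.l 3, .l 3), (.l 4, .l 4)] (.one (.l 40))) (by decide +kernel)

theorem m30_fa : ∀ n ∈ genW m30.gam (m30.ws 7), n * m30.gam 9 = m30.gam 9 * n → n * m30.gam 15 * n⁻¹ * m30.gam 15 ∈ genW m30.gam (m30.ws 6) → m30.gam 1 * (n ^ 2 * m30.gam 1 * (n ^ 2)⁻¹) ∈ genW m30.gam (m30.ws 14) → n = m30.gam 6 ∨ n⁻¹ = m30.gam 6 ∨ m30.gam 8 * n * (m30.gam 8)⁻¹ = m30.gam 6 ∨ m30.gam 8 * n⁻¹ * (m30.gam 8)⁻¹ = m30.gam 6 :=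
  m30_ok.holds (φ := .all 7 40 [(.l 9, .l 9)] (.imp (.mem 6 (.mul (.mul (.mul (.l 40) (.l 15)) (.inv (.l 40))) (.l 15))) (.imp (.mem 14 (.mul (.l 1) (.mul (.mul (.pow (.l 40) 2) (.l 1)) (.inv (.pow (.l 40) 2))))) (.or (.eq (.l 40) (.l 6)) (.or (.eq (.inv (.l 40)) (.l 6)) (.or (.eq (.mul (.mul (.l 8) (.l 40)) (.inv (.l 8))) (.l 6)) (.eq (.mul (.mul (.l 8) (.inv (.l 40))) (.inv (.l 8))) (.l 6)))))))) (by decide +kernel)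

theorem m30_fb : ∀ n ∈ genW m30.gam (m30.ws 7), n ∈ genW m30.gam (m30.ws 3) ∨ m30.gam 6 * (n * m30.gam 6 * n⁻¹) * m30.gam 15 * (m30.gam 6 * (n * m30.gam 6 * n⁻¹))⁻¹ * (m30.gam 15)⁻¹ ∈ genW m30.gam (m30.ws 6) ∧ (m30.gam 6 * (n * m30.gam 6 * n⁻¹)) ^ 2 ∉ genW m30.gam (m30.ws 5) :=
  m30_ok.holds (φ := .all 7 40 [] (.or (.mem 3 (.l 40)) (.and (.mem 6 (.mul (.mul (.mul (.mul (.l 6) (.mul (.mul (.l 40) (.l 6)) (.inv (.l 40)))) (.l 15)) (.inv (.mul (.l 6) (.mul (.mul (.l 40) (.l 6)) (.inv (.l 40)))))) (.inv (.l 15)))) (.not (.mem 5 (.pow (.mul (.l 6) (.mul (.mul (.l 40) (.l 6)) (.inv (.l 40)))) 2)))))) (by decide +kernel)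

end Cfsg.Lib.Mc3
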