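import Cfsg.Agent.Lib.T3.Hlp

/-! The symmetric group of degree 8 and its 3-local subgroups (generated data, helper17). -/

set_option autoImplicit false
set_option maxRecDepth 1000000
set_option maxHeartbeats 0

namespace Cfsg.Lib.Mc3

open Cfsg.Lib.Calc Cfsg.Lib.Grp Cfsg.Lib.T2 Cfsg.Lib.T3

/-- relators of `(3 × A₅) : 2` -/
def relN : List W := [.pow (.l 2) 3, .mul (.l 3) (.l 3), .mul (.l 5) (.l 5), .pow (.mul (.l 3) (.l 2)) 2, .pow (.mul (.l 2) (.l 5)) 3, .pow (.mul (.l 3) (.l 5)) 3, .pow (.l 1) 3, .mul (.mul (.mul (.l 1) (.l 2)) (.inv (.l 1))) (.inv (.l 2)), .mul (.mul (.mul (.l 1) (.l 3)) (.inv (.l 1))) (.l 3), .mul (.mul (.mul (.l 1) (.l 5)) (.inv (.l 1))) (.l 5), .mul (.l 4) (.l 4), .pow (.mul (.l 4) (.l 1)) 2, .mul (.mul (.mul (.l 4) (.l 2)) (.l 4)) (.inv (.l 2)), .pow (.mul (.l 3) (.l 4)) 2, .pow (.mul (.mul (.l 3) (.l 4)) (.l 5)) 2]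

/-- further relators of `S₃ × S₅` -/
def relE : List W := [.mul (.l 7) (.l 7), .mul (.mul (.mul (.l 7) (.l 1)) (.l 7)) (.inv (.l 1)), .mul (.mul (.mul (.l 7) (.l 2)) (.l 7)) (.inv (.l 2)), .pow (.mul (.l 7) (.l 3)) 2, .pow (.mul (.l 7) (.l 4)) 2, .pow (.mul (.mul (.l 4) (.l 7)) (.l 5)) 2]

/-- the swap -/
def relS : List W := [.mul (.l 6) (.l 6), .mul (.mul (.mul (.l 6) (.l 1)) (.l 6)) (.inv (.l 2))]

/-- relators of `S₃ × S₅` -/
def relN2 : List W := relN ++ relE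

def s8_L0 : List (ℕ × List ℕ) := [((nat_lit 0), [(nat_lit 16434824), (nat_lit 16434705), (nat_lit 14487907), (nat_lit 16434754), (nat_lit 14487788), (nat_lit 14487837), (nat_lit 13963495), (nat_lit 16060702)]),
  ((nat_lit 3), [(nat_lit 16434824), (nat_lit 16192792), (nat_lit 16373896), (nat_lit 16196320), (nat_lit 16398984), (nat_lit 16035096), (nat_lit 13938456)]),
  ((nat_lit 4), [(nat_lit 16434824), (nat_lit 14460768), (nat_lit 14489384), (nat_lit 16406096), (nat_lit 12219984), (nat_lit 4024104)]),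
  ((nat_lit 1), [(nat_lit 16434824), (nat_lit 5818232), (nat_lit 3753960), (nat_lit 12306000), (nat_lit 6080368)]),
  ((nat_lit 5), [(nat_lit 16434824), (nat_lit 6244168), (nat_lit 13977544), (nat_lit 11257736)]),
  ((nat_lit 6), [(nat_lit 16434824), (nat_lit 6211464), (nat_lit 13289416)]),
  ((nat_lit 2), [(nat_lit 16434824), (nat_lit 5949384)])]

def s8_D0 : List ℕ := [(nat_lit 0), (nat_lit 513), (nat_lit 3073), (nat_lit 769), (nat_lit 113666), (nat_lit 134402), (nat_lit 188930), (nat_lit 216578), (nat_lit 0), (nat_lit 8989955), (nat_lit 1025), (nat_lit 10484995), (nat_lit 1281), (nat_lit 772345092), (nat_lit 476674), (nat_lit 0), (nat_lit 60650790149), (nat_lit 71304728325), (nat_lit 4755393761542), (nat_lit 2121744132), (nat_lit 7725450626310), (nat_lit 0), (nat_lit 51838723), (nat_lit 53392131), (nat_lit 4085495556), (nat_lit 1017346), (nat_lit 0), (nat_lit 410608772357), (nat_lit 459241425669), (nat_lit 40277081866502),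 (nat_lit 0), (nat_lit 115553027), (nat_lit 115014403), (nat_lit 0), (nat_lit 321282)]

def s8_L1 : List (ℕ × List ℕ) := [((nat_lit 0), [(nat_lit 16434824), (nat_lit 16434705), (nat_lit 14487907), (nat_lit 16434754), (nat_lit 14487788), (nat_lit 14487837), (nat_lit 13963495), (nat_lit 16060702)]),
  ((nat_lit 3), [(nat_lit 16434824), (nat_lit 16192792), (nat_lit 16373896), (nat_lit 16196320), (nat_lit 16398984), (nat_lit 16035096), (nat_lit 13938400)]),
  ((nat_lit 4), [(nat_lit 16434824), (nat_lit 14489384), (nat_lit 14571144), (nat_lit 14460768), (nat_lit 6088488), (nat_lit 10155600)]),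
  ((nat_lit 1), [(nat_lit 16434824), (nat_lit 15124368), (nat_lit 3753848), (nat_lit 15386224), (nat_lit 4016040)]),
  ((nat_lit 5), [(nat_lit 16434824), (nat_lit 12535432), (nat_lit 12142536), (nat_lit 14141064)]),
  ((nat_lit 2), [(nat_lit 16434824), (nat_lit 13289416), (nat_lit 6211464)])]

def s8_D1 : List ℕ := [(nat_lit 0), (nat_lit 513), (nat_lit 3073), (nat_lit 769), (nat_lit 93186), (nat_lit 111874), (nat_lit 162306), (nat_lit 187906), (nat_lit 0), (nat_lit 7445251), (nat_lit 1025), (nat_lit 8753411), (nat_lit 1281), (nat_lit 634190596), (nat_lit 431618), (nat_lit 0), (nat_lit 48846140677), (nat_lit 82690), (nat_lit 68040702213), (nat_lit 1678025988), (nat_lit 6204967701766), (nat_lit 0), (nat_lit 27625731), (nat_lit 2881473284), (nat_lit 31577859), (nat_lit 252604643077), (nat_lit 0), (nat_lit 330999087365), (nat_lit 396195321605), (nat_lit 415847335173), (nat_lit 0), (nat_lit 47285012286726), (nat_lit 47607352324870)]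

def s8_L2 : List (ℕ × List ℕ) := [((nat_lit 0), [(nat_lit 16434824), (nat_lit 16434705), (nat_lit 16434754)]),
  ((nat_lit 3), [(nat_lit 16434824), (nat_lit 16373896), (nat_lit 16398984), (nat_lit 12177032), (nat_lit 12438608)]),
  ((nat_lit 4), [(nat_lit 16434824), (nat_lit 12220040), (nat_lit 10213000), (nat_lit 12478032)]),
  ((nat_lit 1), [(nat_lit 16434824), (nat_lit 14599760)]),
  ((nat_lit 5), [(nat_lit 16434824), (nat_lit 12535432), (nat_lit 14141064)])]

def s8_D2 : List ℕ := [(nat_lit 0), (nat_lit 513), (nat_lit 769), (nat_lit 0), (nat_lit 1025), (nat_lit 1281), (nat_lit 137730), (nat_lit 4210435), (nat_lit 0), (nat_lit 156162), (nat_lit 95490), (nat_lit 8951555), (nat_lit 0), (nat_lit 81666), (nat_lit 0), (nat_lit 654010116), (nat_lit 747138820)]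

def s8_L3 : List (ℕ × List ℕ) := [((nat_lit 0), [(nat_lit 16434824), (nat_lit 16434705), (nat_lit 16434754)]),
  ((nat_lit 3), [(nat_lit 16434824), (nat_lit 16373896), (nat_lit 16398984), (nat_lit 12177032), (nat_lit 12438664)]),
  ((nat_lit 4), [(nat_lit 16434824), (nat_lit 12220040), (nat_lit 10213000), (nat_lit 12478088)]),
  ((nat_lit 1), [(nat_lit 16434824), (nat_lit 14599760)]),
  ((nat_lit 5), [(nat_lit 16434824), (nat_lit 12535432), (nat_lit 14141064)]),
  ((nat_lit 6), [(nat_lit 16434824), (nat_lit 14599816)])]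

def s8_D3 : List ℕ := [(nat_lit 0), (nat_lit 513), (nat_lit 769), (nat_lit 0), (nat_lit 1025), (nat_lit 1281), (nat_lit 162306), (nat_lit 189442), (nat_lit 0), (nat_lit 182786), (nat_lit 101634), (nat_lit 297986), (nat_lit 0), (nat_lit 86274), (nat_lit 0), (nat_lit 796081412), (nat_lit 903287556), (nat_lit 0), (nat_lit 3073)]

def s8_L4 : List (ℕ × List ℕ) := [((nat_lit 0), [(nat_lit 16434824), (nat_lit 16434705), (nat_lit 16434754)]),
  ((nat_lit 3), [(nat_lit 16434824), (nat_lit 16373896), (nat_lit 16398984)])]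

def s8_D4 : List ℕ := [(nat_lit 0), (nat_lit 513), (nat_lit 769), (nat_lit 0), (nat_lit 1025), (nat_lit 1281)]

def s8_L5 : List (ℕ × List ℕ) := [((nat_lit 0), [(nat_lit 16434824), (nat_lit 16434705), (nat_lit 16434754)]),
  ((nat_lit 3), [(nat_lit 16434824), (nat_lit 16373896), (nat_lit 16398984)]),
  ((nat_lit 4), [(nat_lit 16434824), (nat_lit 14571144)]),
  ((nat_lit 1), [(nat_lit 16434824), (nat_lit 14599760)])]

def s8_D5 : List ℕ := [(nat_lit 0), (nat_lit 513), (nat_lit 769), (nat_lit 0), (nat_lit 1025), (nat_lit 1281), (nat_lit 0), (nat_lit 41730), (nat_lit 0), (nat_lit 60674)]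

def s8_L6 : List (ℕ × List ℕ) := [((nat_lit 0), [(nat_lit 16434824), (nat_lit 16434705), (nat_lit 16434754)]),
  ((nat_lit 3), [(nat_lit 16434824), (nat_lit 16373896), (nat_lit 16398984)]),
  ((nat_lit 4), [(nat_lit 16434824), (nat_lit 14571144)]),
  ((nat_lit 1), [(nat_lit 16434824), (nat_lit 14599760)]),
  ((nat_lit 6), [(nat_lit 16434824), (nat_lit 14599816)])]

def s8_D6 : List ℕ := [(nat_lit 0), (nat_lit 513), (nat_lit 769), (nat_lit 0), (nat_lit 1025), (nat_lit 1281), (nat_lit 0), (nat_lit 45314), (nat_lit 0), (nat_lit 65282), (nat_lit 0), (nat_lit 2561)]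

def s8_L7 : List (ℕ × List ℕ) := [((nat_lit 0), [(nat_lit 16434824), (nat_lit 16434705), (nat_lit 14487907), (nat_lit 16434754), (nat_lit 14487788), (nat_lit 14487837)]),
  ((nat_lit 3), [(nat_lit 16434824), (nat_lit 16373896), (nat_lit 16398984)]),
  ((nat_lit 4), [(nat_lit 16434824), (nat_lit 14571144)]),
  ((nat_lit 1), [(nat_lit 16434824), (nat_lit 14599760)])]

def s8_D7 : List ℕ := [(nat_lit 0), (nat_lit 513), (nat_lit 2561), (nat_lit 769), (nat_lit 74242), (nat_lit 91394), (nat_lit 0), (nat_lit 1025), (nat_lit 1281), (nat_lit 0), (nat_lit 56066), (nat_lit 0), (nat_lit 77570)]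

def s8_L8 : List (ℕ × List ℕ) := [((nat_lit 0), [(nat_lit 16434824), (nat_lit 16434705), (nat_lit 14487907), (nat_lit 16434754), (nat_lit 14487788), (nat_lit 14487837)]),
  ((nat_lit 3), [(nat_lit 16434824), (nat_lit 16373896), (nat_lit 16398984)]),
  ((nat_lit 4), [(nat_lit 16434824), (nat_lit 14571144)]),
  ((nat_lit 1), [(nat_lit 16434824), (nat_lit 14599760)]),
  ((nat_lit 6), [(nat_lit 16434824), (nat_lit 14599816)])]

def s8_D8 : List ℕ := [(nat_lit 0), (nat_lit 513), (nat_lit 2561), (nat_lit 769), (nat_lit 92674), (nat_lit 111874), (nat_lit 0), (nat_lit 1025), (nat_lit 1281), (nat_lit 0), (nat_lit 59650), (nat_lit 0), (nat_lit 82178), (nat_lit 0), (nat_lit 3073)]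

def s8_L9 : List (ℕ × List ℕ) := [((nat_lit 3), [(nat_lit 16434824), (nat_lit 16373896), (nat_lit 16398984), (nat_lit 12177032), (nat_lit 12467336)]),
  ((nat_lit 4), [(nat_lit 16434824), (nat_lit 12220040), (nat_lit 14571144), (nat_lit 10413704)]),
  ((nat_lit 5), [(nat_lit 16434824), (nat_lit 14141064), (nat_lit 12535432)])]

def s8_D9 : List ℕ := [(nat_lit 0), (nat_lit 513), (nat_lit 769), (nat_lit 44546), (nat_lit 58370), (nat_lit 0), (nat_lit 52738), (nat_lit 25346), (nat_lit 2976515), (nat_lit 0), (nat_lit 4488707), (nat_lit 1703171)]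

def s8_L10 : List (ℕ × List ℕ) := [((nat_lit 3), [(nat_lit 16434824), (nat_lit 12302472), (nat_lit 8019592), (nat_lit 10091144)])]

def s8_D10 : List ℕ := [(nat_lit 0), (nat_lit 513), (nat_lit 1025), (nat_lit 25602)]

def s8_L11 : List (ℕ × List ℕ) := [((nat_lit 3), [(nat_lit 16434824), (nat_lit 12302472), (nat_lit 8019592), (nat_lit 10091144)]),
  ((nat_lit 0), [(nat_lit 16434824), (nat_lit 15386497), (nat_lit 14861910), (nat_lit 15124018)])]

def s8_D11 : List ℕ := [(nat_lit 0), (nat_lit 513), (nat_lit 1025), (nat_lit 50178), (nat_lit 0), (nat_lit 1537), (nat_lit 2049), (nat_lit 124930)]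

def s8_L12 : List (ℕ × List ℕ) := [((nat_lit 0), [(nat_lit 16434824), (nat_lit 16434705), (nat_lit 14487907), (nat_lit 16434754), (nat_lit 14487788), (nat_lit 14487837), (nat_lit 13963495), (nat_lit 15386126)]),
  ((nat_lit 3), [(nat_lit 16434824), (nat_lit 16373896), (nat_lit 16398984), (nat_lit 12177032)]),
  ((nat_lit 1), [(nat_lit 16434824), (nat_lit 15386224), (nat_lit 16406096)]),
  ((nat_lit 4), [(nat_lit 16434824), (nat_lit 12220040), (nat_lit 15357832)]),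
  ((nat_lit 2), [(nat_lit 16434824), (nat_lit 11257736)])]

def s8_D12 : List ℕ := [(nat_lit 0), (nat_lit 513), (nat_lit 2561), (nat_lit 769), (nat_lit 74242), (nat_lit 91394), (nat_lit 137218), (nat_lit 162306), (nat_lit 0), (nat_lit 1025), (nat_lit 1281), (nat_lit 280578), (nat_lit 0), (nat_lit 7475459), (nat_lit 2619139), (nat_lit 0), (nat_lit 339970), (nat_lit 1007653124), (nat_lit 0), (nat_lit 29826051)]

def s8_L13 : List (ℕ × List ℕ) := [((nat_lit 3), [(nat_lit 16434824), (nat_lit 12302472), (nat_lit 8019592), (nat_lit 14487907), (nat_lit 10091144), (nat_lit 6226787), (nat_lit 1879395), (nat_lit 3958115)]),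
  ((nat_lit 0), [(nat_lit 16434824), (nat_lit 12306049), (nat_lit 14861910), (nat_lit 10733170)]),
  ((nat_lit 2), [(nat_lit 16434824), (nat_lit 11257736)])]

def s8_D13 : List ℕ := [(nat_lit 0), (nat_lit 513), (nat_lit 1025), (nat_lit 1537), (nat_lit 56322), (nat_lit 62978), (nat_lit 80386), (nat_lit 112130), (nat_lit 0), (nat_lit 60674), (nat_lit 3721475), (nat_lit 239112452), (nat_lit 0), (nat_lit 361100036)]

def s8_L14 : List (ℕ × List ℕ) := [((nat_lit 0), [(nat_lit 16434824), (nat_lit 16431233), (nat_lit 14487907), (nat_lit 8780338), (nat_lit 11240348), (nat_lit 10064061), (nat_lit 8773142), (nat_lit 10060463)]),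
  ((nat_lit 3), [(nat_lit 16434824), (nat_lit 13973960), (nat_lit 10347848), (nat_lit 13728456), (nat_lit 15641864), (nat_lit 9035656)]),
  ((nat_lit 2), [(nat_lit 16434824), (nat_lit 11257736), (nat_lit 5720008), (nat_lit 14501704)])]

def s8_D14 : List ℕ := [(nat_lit 0), (nat_lit 513), (nat_lit 1537), (nat_lit 2049), (nat_lit 3585), (nat_lit 3329), (nat_lit 131074), (nat_lit 141570), (nat_lit 0), (nat_lit 7142659), (nat_lit 115970), (nat_lit 197890), (nat_lit 14054659), (nat_lit 15572227), (nat_lit 0), (nat_lit 860265732), (nat_lit 52322374917), (nat_lit 3741570838278)]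

def s8_L15 : List (ℕ × List ℕ) := [((nat_lit 0), [(nat_lit 16434824), (nat_lit 16431233), (nat_lit 14487907), (nat_lit 8780338), (nat_lit 14484316), (nat_lit 8773142), (nat_lit 3171581), (nat_lit 3157231)]),
  ((nat_lit 3), [(nat_lit 16434824), (nat_lit 12302472)]),
  ((nat_lit 2), [(nat_lit 16434824), (nat_lit 11257736)])]

def s8_D15 : List ℕ := [(nat_lit 0), (nat_lit 513), (nat_lit 1537), (nat_lit 2049), (nat_lit 73218), (nat_lit 80898), (nat_lit 100354), (nat_lit 135170), (nat_lit 0), (nat_lit 1025), (nat_lit 0), (nat_lit 90882)]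

def s8_L16 : List (ℕ × List ℕ) := [((nat_lit 0), [(nat_lit 16434824), (nat_lit 16431233), (nat_lit 14487907), (nat_lit 8780338), (nat_lit 7999663), (nat_lit 14484316), (nat_lit 8773142), (nat_lit 7996093)]),
  ((nat_lit 3), [(nat_lit 16434824), (nat_lit 8269128), (nat_lit 12302472), (nat_lit 13459208), (nat_lit 10347848), (nat_lit 5208840)]),
  ((nat_lit 2), [(nat_lit 16434824), (nat_lit 11257736)])]

def s8_D16 : List ℕ := [(nat_lit 0), (nat_lit 513), (nat_lit 1537), (nat_lit 2049), (nat_lit 3329), (nat_lit 99842), (nat_lit 108546), (nat_lit 118018), (nat_lit 0), (nat_lit 103170), (nat_lit 1025), (nat_lit 169218), (nat_lit 12690179), (nat_lit 14114051), (nat_lit 0), (nat_lit 15913219)]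

def s8_L17 : List (ℕ × List ℕ) := [((nat_lit 3), [(nat_lit 16434824), (nat_lit 12302472), (nat_lit 8019592), (nat_lit 14487907), (nat_lit 10091144), (nat_lit 6226787), (nat_lit 1879395), (nat_lit 3958115)]),
  ((nat_lit 0), [(nat_lit 16434824), (nat_lit 16434817), (nat_lit 14861910), (nat_lit 14861938)]),
  ((nat_lit 5), [(nat_lit 16434824), (nat_lit 12306056)]),
  ((nat_lit 2), [(nat_lit 16434824), (nat_lit 15386504)])]

def s8_D17 : List ℕ := [(nat_lit 0), (nat_lit 513), (nat_lit 1025), (nat_lit 1537), (nat_lit 72706), (nat_lit 80386), (nat_lit 99842), (nat_lit 134658), (nat_lit 0), (nat_lit 2561), (nat_lit 4756227), (nat_lit 307221252), (nat_lit 0), (nat_lit 3111171), (nat_lit 0), (nat_lit 14566659)]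

def s8_L18 : List (ℕ × List ℕ) := [((nat_lit 0), [(nat_lit 16434824), (nat_lit 16434705), (nat_lit 16434754)]),
  ((nat_lit 3), [(nat_lit 16434824), (nat_lit 16373896), (nat_lit 16398984), (nat_lit 12177032), (nat_lit 12467336)]),
  ((nat_lit 4), [(nat_lit 16434824), (nat_lit 12220040), (nat_lit 14571144), (nat_lit 10413704)]),
  ((nat_lit 5), [(nat_lit 16434824), (nat_lit 14141064), (nat_lit 12535432)])]

def s8_D18 : List ℕ := [(nat_lit 0), (nat_lit 513), (nat_lit 769), (nat_lit 0), (nat_lit 1025), (nat_lit 1281), (nat_lit 114690), (nat_lit 136706), (nat_lit 0), (nat_lit 131074), (nat_lit 50946), (nat_lit 7394051), (nat_lit 0), (nat_lit 10121219), (nat_lit 3519747)]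

def s8_L19 : List (ℕ × List ℕ) := [((nat_lit 3), [(nat_lit 16434824), (nat_lit 12302472), (nat_lit 8019592), (nat_lit 10091144)]),
  ((nat_lit 0), [(nat_lit 16434824), (nat_lit 16434705), (nat_lit 16434754)])]

def s8_D19 : List ℕ := [(nat_lit 0), (nat_lit 513), (nat_lit 1025), (nat_lit 36866), (nat_lit 0), (nat_lit 1537), (nat_lit 1793)]

def s8_L20 : List (ℕ × List ℕ) := [((nat_lit 0), [(nat_lit 16434824), (nat_lit 11254145), (nat_lit 3701411), (nat_lit 10064061), (nat_lit 581532), (nat_lit 6947759)])]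

def s8_D20 : List ℕ := [(nat_lit 0), (nat_lit 513), (nat_lit 1025), (nat_lit 1281), (nat_lit 29698), (nat_lit 34050)]

def s8_L21 : List (ℕ × List ℕ) := [((nat_lit 0), [(nat_lit 16434824), (nat_lit 16434705), (nat_lit 14487907), (nat_lit 16434754), (nat_lit 14487788), (nat_lit 14487837)]),
  ((nat_lit 3), [(nat_lit 16434824), (nat_lit 16325400), (nat_lit 14596232), (nat_lit 16360288), (nat_lit 16397416)]),
  ((nat_lit 4), [(nat_lit 16434824), (nat_lit 14472976), (nat_lit 14558824), (nat_lit 16324448)]),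
  ((nat_lit 1), [(nat_lit 16434824), (nat_lit 16336488), (nat_lit 14599760)]),
  ((nat_lit 6), [(nat_lit 16434824), (nat_lit 14599816)]),
  ((nat_lit 2), [(nat_lit 16434824), (nat_lit 16336712)])]

def s8_D21 : List ℕ := [(nat_lit 0), (nat_lit 513), (nat_lit 2561), (nat_lit 769), (nat_lit 113154), (nat_lit 134402), (nat_lit 0), (nat_lit 5181699), (nat_lit 1537), (nat_lit 6055171), (nat_lit 365751556), (nat_lit 0), (nat_lit 23959365893), (nat_lit 25877374725), (nat_lit 1723771526406), (nat_lit 0), (nat_lit 60647275269), (nat_lit 19284739), (nat_lit 0), (nat_lit 3073), (nat_lit 0), (nat_lit 8152549784838)]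

def s8_L22 : List (ℕ × List ℕ) := [((nat_lit 3), [(nat_lit 16434824), (nat_lit 12302472), (nat_lit 8019592), (nat_lit 10091144)]),
  ((nat_lit 0), [(nat_lit 16434824), (nat_lit 12306049)])]

def s8_D22 : List ℕ := [(nat_lit 0), (nat_lit 513), (nat_lit 1025), (nat_lit 36866), (nat_lit 0), (nat_lit 30466)]

def s8_L23 : List (ℕ × List ℕ) := [((nat_lit 0), [(nat_lit 16434824), (nat_lit 16434705), (nat_lit 16434754), (nat_lit 15386126), (nat_lit 13285391), (nat_lit 13354509), (nat_lit 13359115), (nat_lit 13351436)]),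
  ((nat_lit 3), [(nat_lit 16434824), (nat_lit 16373896), (nat_lit 16398984), (nat_lit 12205648), (nat_lit 12438608), (nat_lit 12436872), (nat_lit 12436144)]),
  ((nat_lit 4), [(nat_lit 16434824), (nat_lit 14571144), (nat_lit 14054992), (nat_lit 15918672), (nat_lit 15902600), (nat_lit 15898288)]),
  ((nat_lit 1), [(nat_lit 16434824), (nat_lit 15386224), (nat_lit 15124368), (nat_lit 6243944), (nat_lit 4671352)]),
  ((nat_lit 5), [(nat_lit 16434824), (nat_lit 6014792), (nat_lit 5720008), (nat_lit 12142536)]),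
  ((nat_lit 2), [(nat_lit 16434824), (nat_lit 13289416), (nat_lit 6211464)])]

def s8_D23 : List ℕ := [(nat_lit 0), (nat_lit 513), (nat_lit 769), (nat_lit 95234), (nat_lit 114178), (nat_lit 137730), (nat_lit 160770), (nat_lit 173314), (nat_lit 0), (nat_lit 1025), (nat_lit 1281), (nat_lit 414136580), (nat_lit 351746), (nat_lit 15731715), (nat_lit 17304323), (nat_lit 0), (nat_lit 79106), (nat_lit 1316591876), (nat_lit 30805251), (nat_lit 34827267), (nat_lit 37508867), (nat_lit 0), (nat_lit 240642), (nat_lit 204034), (nat_lit 222578100997), (nat_lit 261194544389), (nat_lit 0), (nat_lit 5009829636), (nat_lit 4574147332), (nat_lit 5941774084), (nat_lit 0), (nat_lit 45967956228870), (nat_lit 52327274706182)]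

def s8_L24 : List (ℕ × List ℕ) := [((nat_lit 3), [(nat_lit 16434824), (nat_lit 12302472), (nat_lit 8780338), (nat_lit 8019592)]),
  ((nat_lit 0), [(nat_lit 16434824), (nat_lit 15386497), (nat_lit 15124018), (nat_lit 14861910)])]

def s8_D24 : List ℕ := [(nat_lit 0), (nat_lit 513), (nat_lit 1025), (nat_lit 2049), (nat_lit 0), (nat_lit 34050), (nat_lit 1513731), (nat_lit 72577284)]

def s8 : PM :=
  ⟨(nat_lit 8), (nat_lit 3), [(nat_lit 16434705), (nat_lit 16373896), (nat_lit 14596232), (nat_lit 14599809), (nat_lit 12302472), (nat_lit 14487907), (nat_lit 14599816), (nat_lit 16322915)],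
    [[.l 1, .l 2, .l 3, .l 4, .l 5, .l 6, .l 7],
    [.l 1, .l 2, .l 3, .l 4, .l 5, .l 6],
    [.l 1, .l 2, .l 3, .l 4, .l 5],
    [.l 1, .l 2, .l 3, .l 4, .l 5, .l 7],
    [.l 1, .l 2],
    [.l 1, .l 2, .l 3, .l 4],
    [.l 1, .l 2, .l 3, .l 4, .l 7],
    [.l 1, .l 2, .l 3, .l 4, .l 6],
    [.l 1, .l 2, .l 3, .l 4, .l 6, .l 7],
    [.l 2, .l 3, .l 5],
    [.l 5, .mul (.mul (.l 2) (.l 5)) (.inv (.l 2))],
    [.l 5, .mul (.mul (.l 2) (.l 5)) (.inv (.l 2)), .mul (.mul (.l 6) (.l 5)) (.l 6), .mul (.mul (.mul (.mul (.l 1) (.l 6)) (.l 5)) (.l 6)) (.inv (.l 1))],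
    [.l 1, .l 2, .mul (.l 3) (.l 4), .l 5, .l 6],
    [.l 5, .mul (.mul (.l 2) (.l 5)) (.inv (.l 2)), .l 6, .mul (.l 3) (.l 4)],
    [.mul (.l 3) (.l 4), .l 5, .l 6, .mul (.mul (.mul (.mul (.mul (.mul (.mul (.inv (.l 1)) (.inv (.l 2))) (.l 5)) (.l 2)) (.l 6)) (.l 5)) (.l 2)) (.l 6), .mul (.mul (.mul (.l 5) (.l 6)) (.l 5)) (.l 6), .mul (.mul (.mul (.mul (.mul (.mul (.mul (.mul (.mul (.mul (.l 3) (.l 5)) (.l 6)) (.l 5)) (.l 2)) (.l 4)) (.l 5)) (.inv (.l 2))) (.l 6)) (.l 5)) (.l 6), .mul (.mul (.mul (.mul (.l 3) (.l 5)) (.l 6)) (.l 5)) (.l 4)],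
    [.mul (.l 3) (.l 4), .l 5, .l 6, .mul (.mul (.mul (.mul (.mul (.mul (.mul (.inv (.l 1)) (.inv (.l 2))) (.l 5)) (.l 2)) (.l 6)) (.l 5)) (.l 2)) (.l 6), .mul (.mul (.mul (.l 5) (.l 6)) (.l 5)) (.l 6)],
    [.mul (.l 3) (.l 4), .l 5, .l 6, .mul (.mul (.mul (.mul (.mul (.mul (.mul (.inv (.l 1)) (.inv (.l 2))) (.l 5)) (.l 2)) (.l 6)) (.l 5)) (.l 2)) (.l 6), .mul (.mul (.mul (.l 5) (.l 6)) (.l 5)) (.l 6), .mul (.mul (.mul (.l 2) (.l 5)) (.inv (.l 2))) (.mul (.mul (.mul (.mul (.mul (.mul (.mul (.mul (.mul (.mul (.mul (.mul (.l 3) (.l 5)) (.l 6)) (.l 5)) (.l 2)) (.l 4)) (.l 5)) (.inv (.l 2))) (.l 6)) (.l 5)) (.l 6)) (.mul (.mul (.l 2) (.l 5)) (.inv (.l 2)))) (.inv (.mul (.mul (.mul (.mul (.mul (.mul (.mul (.mul (.mul (.mul (.l 3) (.l 5)) (.l 6)) (.l 5)) (.l 2)) (.l 4)) (.l 5)) (.inv (.l 2))) (.l 6)) (.l 5)) (.l 6))))],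
    [.l 5, .mul (.mul (.l 2) (.l 5)) (.inv (.l 2)), .l 6, .mul (.l 3) (.l 4), .mul (.l 4) (.l 7)],
    [.l 1, .l 2, .l 3, .l 5],
    [.l 5, .mul (.mul (.l 2) (.l 5)) (.inv (.l 2)), .l 1],
    [.mul (.mul (.mul (.l 5) (.l 6)) (.l 5)) (.l 6), .mul (.mul (.mul (.mul (.mul (.mul (.mul (.mul (.mul (.mul (.l 3) (.l 5)) (.l 6)) (.l 5)) (.l 2)) (.l 4)) (.l 5)) (.inv (.l 2))) (.l 6)) (.l 5)) (.l 6)],
    [.l 1, .l 2, .l 3, .l 4, .l 6, .l 7, .mul (.mul (.mul (.mul (.mul (.mul (.mul (.mul (.mul (.l 2) (.l 3)) (.l 5)) (.l 3)) (.l 6)) (.l 5)) (.l 3)) (.l 6)) (.l 5)) (.inv (.l 2))],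
    [.l 5, .mul (.mul (.l 2) (.l 5)) (.inv (.l 2)), .mul (.l 3) (.l 4)],
    [.l 1, .l 2, .l 3, .l 4, .l 5, .mul (.mul (.l 6) (.l 5)) (.l 6)],
    [.l 5, .mul (.mul (.mul (.mul (.mul (.mul (.mul (.inv (.l 1)) (.inv (.l 2))) (.l 5)) (.l 2)) (.l 6)) (.l 5)) (.l 2)) (.l 6), .mul (.mul (.mul (.l 5) (.l 6)) (.l 5)) (.l 6), .mul (.mul (.l 2) (.l 5)) (.inv (.l 2))]],
    [s8_L0, s8_L1, s8_L2, s8_L3, s8_L4, s8_L5, s8_L6, s8_L7, s8_L8, s8_L9, s8_L10, s8_L11, s8_L12, s8_L13, s8_L14, s8_L15, s8_L16, s8_L17, s8_L18, s8_L19, s8_L20, s8_L21, s8_L22, s8_L23, s8_L24], [s8_D0, s8_D1, s8_D2, s8_D3, s8_D4, s8_D5, s8_D6, s8_D7, s8_D8, s8_D9, s8_D10, s8_D11, s8_D12, s8_D13, s8_D14, s8_D15, s8_D16, s8_D17, s8_D18, s8_D19, s8_D20, s8_D21, s8_D22, s8_D23, s8_D24]⟩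

instance s8_ne : NeZero s8.n := ⟨by decide⟩

theorem s8_ok0 : s8.ok0 = true := by decide +kernel

theorem s8_k0 : allFrom (nat_lit 0) (nat_lit 1) s8.okK = true := by decide +kernel

theorem s8_k1 : allFrom (nat_lit 1) (nat_lit 1) s8.okK = true := by decide +kernel

theorem s8_k2 : allFrom (nat_lit 2) (nat_lit 1) s8.okK = true := by decide +kernel

theorem s8_k3 : allFrom (nat_lit 3) (nat_lit 1) s8.okK = true := by decide +kernel

theorem s8_k4 : allFrom (nat_lit 4) (nat_lit 1) s8.okK = true := by decide +kernel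

theorem s8_k5 : allFrom (nat_lit 5) (nat_lit 1) s8.okK = true := by decide +kernel

theorem s8_k6 : allFrom (nat_lit 6) (nat_lit 1) s8.okK = true := by decide +kernel

theorem s8_k7 : allFrom (nat_lit 7) (nat_lit 1) s8.okK = true := by decide +kernel

theorem s8_k8 : allFrom (nat_lit 8) (nat_lit 1) s8.okK = true := by decide +kernel

theorem s8_k9 : allFrom (nat_lit 9) (nat_lit 1) s8.okK = true := by decide +kernel

theorem s8_k10 : allFrom (nat_lit 10) (nat_lit 1) s8.okK = true := by decide +kernel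

theorem s8_k11 : allFrom (nat_lit 11) (nat_lit 1) s8.okK = true := by decide +kernel

theorem s8_k12 : allFrom (nat_lit 12) (nat_lit 1) s8.okK = true := by decide +kernel

theorem s8_k13 : allFrom (nat_lit 13) (nat_lit 1) s8.okK = true := by decide +kernel

theorem s8_k14 : allFrom (nat_lit 14) (nat_lit 1) s8.okK = true := by decide +kernel

theorem s8_k15 : allFrom (nat_lit 15) (nat_lit 1) s8.okK = true := by decide +kernel

theorem s8_k16 : allFrom (nat_lit 16) (nat_lit 1) s8.okK = true := by decide +kernel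

theorem s8_k17 : allFrom (nat_lit 17) (nat_lit 1) s8.okK = true := by decide +kernel

theorem s8_k18 : allFrom (nat_lit 18) (nat_lit 1) s8.okK = true := by decide +kernel

theorem s8_k19 : allFrom (nat_lit 19) (nat_lit 1) s8.okK = true := by decide +kernel

theorem s8_k20 : allFrom (nat_lit 20) (nat_lit 1) s8.okK = true := by decide +kernel

theorem s8_k21 : allFrom (nat_lit 21) (nat_lit 1) s8.okK = true := by decide +kernel

theorem s8_k22 : allFrom (nat_lit 22) (nat_lit 1) s8.okK = true := by decide +kernel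

theorem s8_k23 : allFrom (nat_lit 23) (nat_lit 1) s8.okK = true := by decide +kernel

theorem s8_k24 : allFrom (nat_lit 24) (nat_lit 1) s8.okK = true := by decide +kernel

theorem s8_ok : s8.OK := PM.OK.of_check s8_ok0
  (of_allFrom_append (of_allFrom_append (of_allFrom_append (of_allFrom_append (of_allFrom_append (of_allFrom_append (of_allFrom_append (of_allFrom_append (of_allFrom_append (of_allFrom_append (of_allFrom_append (of_allFrom_append (of_allFrom_append (of_allFrom_append (of_allFrom_append (of_allFrom_append (of_allFrom_append (of_allFrom_append (of_allFrom_append (of_allFrom_append (of_allFrom_append (of_allFrom_append (of_allFrom_append (of_allFrom_append (of_allFrom_append of_lt_zero s8_k0) s8_k1) s8_k2) s8_k3) s8_k4) s8_k5) s8_k6) s8_k7) s8_k8) s8_k9) s8_k10) s8_k11) s8_k12) s8_k13) s8_k14) s8_k15) s8_k16) s8_k17) s8_k18) s8_k19) s8_k20) s8_k21) s8_k22) s8_k23) s8_k24)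

theorem s8_card0 : Nat.card (genW s8.gam (s8.ws 0)) = 40320 := (s8_ok.card 0).trans (by decide +kernel)

theorem s8_card1 : Nat.card (genW s8.gam (s8.ws 1)) = 20160 := (s8_ok.card 1).trans (by decide +kernel)

theorem s8_card2 : Nat.card (genW s8.gam (s8.ws 2)) = 360 := (s8_ok.card 2).trans (by decide +kernel)

theorem s8_card3 : Nat.card (genW s8.gam (s8.ws 3)) = 720 := (s8_ok.card 3).trans (by decide +kernel)

theorem s8_card4 : Nat.card (genW s8.gam (s8.ws 4)) = 9 := (s8_ok.card 4).trans (by decide +kernel)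

theorem s8_card5 : Nat.card (genW s8.gam (s8.ws 5)) = 36 := (s8_ok.card 5).trans (by decide +kernel)

theorem s8_card6 : Nat.card (genW s8.gam (s8.ws 6)) = 72 := (s8_ok.card 6).trans (by decide +kernel)

theorem s8_card7 : Nat.card (genW s8.gam (s8.ws 7)) = 72 := (s8_ok.card 7).trans (by decide +kernel)

theorem s8_card8 : Nat.card (genW s8.gam (s8.ws 8)) = 144 := (s8_ok.card 8).trans (by decide +kernel)

theorem s8_card9 : Nat.card (genW s8.gam (s8.ws 9)) = 60 := (s8_ok.card 9).trans (by decide +kernel)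

theorem s8_card10 : Nat.card (genW s8.gam (s8.ws 10)) = 4 := (s8_ok.card 10).trans (by decide +kernel)

theorem s8_card11 : Nat.card (genW s8.gam (s8.ws 11)) = 16 := (s8_ok.card 11).trans (by decide +kernel)

theorem s8_card12 : Nat.card (genW s8.gam (s8.ws 12)) = 576 := (s8_ok.card 12).trans (by decide +kernel)

theorem s8_card13 : Nat.card (genW s8.gam (s8.ws 13)) = 64 := (s8_ok.card 13).trans (by decide +kernel)

theorem s8_card14 : Nat.card (genW s8.gam (s8.ws 14)) = 192 := (s8_ok.card 14).trans (by decide +kernel)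

theorem s8_card15 : Nat.card (genW s8.gam (s8.ws 15)) = 32 := (s8_ok.card 15).trans (by decide +kernel)

theorem s8_card16 : Nat.card (genW s8.gam (s8.ws 16)) = 96 := (s8_ok.card 16).trans (by decide +kernel)

theorem s8_card17 : Nat.card (genW s8.gam (s8.ws 17)) = 128 := (s8_ok.card 17).trans (by decide +kernel)

theorem s8_card18 : Nat.card (genW s8.gam (s8.ws 18)) = 180 := (s8_ok.card 18).trans (by decide +kernel)

theorem s8_card19 : Nat.card (genW s8.gam (s8.ws 19)) = 12 := (s8_ok.card 19).trans (by decide +kernel)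

theorem s8_card20 : Nat.card (genW s8.gam (s8.ws 20)) = 6 := (s8_ok.card 20).trans (by decide +kernel)

theorem s8_card21 : Nat.card (genW s8.gam (s8.ws 21)) = 1440 := (s8_ok.card 21).trans (by decide +kernel)

theorem s8_card22 : Nat.card (genW s8.gam (s8.ws 22)) = 8 := (s8_ok.card 22).trans (by decide +kernel)

theorem s8_card23 : Nat.card (genW s8.gam (s8.ws 23)) = 20160 := (s8_ok.card 23).trans (by decide +kernel)

theorem s8_card24 : Nat.card (genW s8.gam (s8.ws 24)) = 16 := (s8_ok.card 24).trans (by decide +kernel)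

/-- inverse letters -/
def tcN_iv : ℕ := 69965290688

/-- inverse letters -/
def tcN_labs : List W := [.l 0, .l 1, .l 2, .l 3, .l 4, .l 5, .inv (.l 1), .inv (.l 2)]

def tcN_F : Tr := .node (.node (.leaf (nat_lit 0x93cc683994468399c46420a886731302670924c6618a8666398c46638ac465091cc6510a4e6431182640914c6338a046331102623984460310c2610980c42317c23f397c45c28a4a5e189465e30f425e209485d28a0a5d08f0c5d08ecc5c216c82818a465b30e825b08dcc5a1898659108ce59394845930d82593160235396045530cc25708c8c5628a8a5508c4c5530c025408b4c531880652388c45230b025228d4a4f391c44f307824e08acc4e313422a3934448307024d3930446207084c206c84b30a424b3128228186c64a187064939144493120227106ce4838784471068e463864445390c4423104217390442f2074841309824130942400858c4038fc43b30f82242850a3e2868a3d185863d205883c2864a3c20e8819186863a20508391854639308c23910e0e2e30e022218746381050e38185c6361048e3638b043638d443130d02212840a342870a3138bc415204082f308022f10b8e1430b821f184062e183862c38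4842c0878c2b30a821c38a842730682290864c280860c2738984202030826305c2263058225084cc24182862330482230844c221830622387c422083cc211028e2030382200834c1f382441f307420c3874410301c21d3870418306c20b2818a1b385c40e201c81720188153028215305020918186141810612181c611383441130402081018e101010e0e380c40d303020738304080814c0b301020a080cc090808c08381c4023018201159cf453d98544359433d0d90d3c2d8cb360d88d342d84b320d80d303d7c52c1578f2a1574f280d70d262d6cb240d68d222d64b200d60d1e155cf1b3d5851a25549141d507142d4cb0f2d48b0e2d44b0d2d40b0c3d3c5091538f081534f073d305062d2cb052d28b042d24b032d20b02151ceff3d184fe2d14afd2d10afc3d0c4fa1508ef81504ef435002f20cfccf10cf8cf024f48f01cf06f02cecaec0ce8cea2ce4ae80ce0ce62cdcae214d8ee10cd4cdf2cd0adf2cccadd34c82dd0cc4cdc2cc0adc14bced93cb84d93cb44d82cb0ad714aced50ca8cd514a4ed42ca0ad30c9ccd13c984d12c94acd1490ecc0c8ccca2c88aca2c84ac834802c80c7ccc72c78ac71474ec43c704c42c6cac32c68ac23c644c11460ec0145cebd24588bc1c546bc3c504bc2c4cab92c4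8ab82c44ab72c40ab6143ceb23c384b124348b01c306b0142ceaf3c284af2c24aae2c20aad2c1caac2c18aab1414ea73c104a6240c8a51c086a51404ea43c004a42bfcaa32bf8aa223f489f1bf069f3bec49e2be8a9d13e4e9b0be0c9b33dc2990bd8c9813d4e972bd0a960bccc9423c88941bc46943bc04943bbc4912bb8a8f2bb4a8d13b0e8c0bacc8a2ba8a8a2ba4a8833a02880b9cc872b98a871394e843b90484138ce821388e8133842810b80c803b7c4800b78c7f237487f1b7067f136ce7e3b6847e2b64a7d2b60a7b135ce7a0b58c782b54a782b50a76334c2760b48c752b44a751340e723b3c4721338e701334e6f333026f0b2cc6e3b2846e0b24c6d232086d1b1c66d1318e6c3b1446c2b10a6b230c8681b086682b04a672b00a6622fc8651af86652af4a642af0a633aec4622ae8a6012e4e5e3ae045d22dc85c1ad865c12d4e5b3ad045b12cce5a22c885a1ac465a3ac045a2abca5912b8e573ab445622b08551aac65512a8e543aa445412a0e53229c8531a986533a944532a90a52228c84f1a8864f228484e1a8064e3a7c44e2a78a4c1274e4b0a70c492a6ca490a68c4722648471a606472a5ca4632582460a54c452a50a453a4c4442a48a422a44a411240e403a3c4401238e3e1234e3d3230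23d0a2cc3c3a2843c0a24c3b222083b1a1c63b1218e3a3a1443a2a10a39120ce370a08c3722048371a0063739fc43729f8a3631f423611f0e3411ece3331e823309e4c3239e043209dcc3121d883119d463111d0e3039cc43029c8a2f11c4e2d09c0c2d21bc82d19b862d39b442d29b0a2c31ac22c21a882b19a462b39a042b119ce2939984282994a272190827198c6272988a261184e253980425117ce24217882419746243970424296ca232968a2221648221160e21215c821195862139544212950a20294ca1f214881f214481e194061e393c41e2938a1d1134e1b1130e1a312c21a0928c1939244190920c18291ca18211881819146182910a17110ce1639084161104e152900a1510fce1308f8c1320f481318f061338ec41328e8a1230e421208e0c1128dca1120d881110d4e0f08d0c0f20cc80f18c860f38c440f28c0a0e30bc20e08b8c0d28b4a0d20b080d28aca0c10a8e0b20a480b18a060b389c40b1098e0a2894a0a2890a09208c80938884092884a082080808187c6082878a071074e061070e05086cc05206880518646053860405105ce042858a0430542040850c03284ca03204880338444030840c02283ca02203880218346021030e01282ca01202880118246013820401101ce000818c002814a002010800180c600380840030042000000000))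
  (.leaf (nat_lit 0x2d9cb65359c3471d9c75f3d9c5632578967355c3670d98d462d90b66257c9660d58d661d787663d885663d9454024f89651d047653d84565355436525909411590f3f35903541cf87641580f64258c9583d8c5451d64763354c3630cdcd6325889591588f4435883522cd4b621d60762258493a1cec7613d0056135443610cccd61258093b35803502cc4b601ce876014fcf600d7cd4f2d74b5f0cb4d5f3d6455f2d78b5c357834e3d7855834ac35e35743291d747433d7455b250895d353435d25709431570f5a357034c1d0875c149cf5c256c9383d6c5281ce475b352c35b0c94d5b25689391568f27356834a2c8cb5a1ce075a3cb055935243590c84d5935603482c7cb5814a8f582d5cb551d5c74f3d5c5532538957351c3572d50b56253c9560d18d561d387563d485561c5c7551458f553d4455534f43553d50550245c9540cf0d543c54554254c9483d4c51b1d2475334dc35325249521d207523c685520cd0d5225449121c4c7513c5855134cc351244c9503d405151c487500cc0d500d3cd2d2d34b4f3d2454f2d38b4c353832b3d385481d347193d3454b246094d34a434d246494c0c98d4c1c6074c3d2854c252c9103d2c5071c4474b349434b244494a1c4074a3c1854a0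c88d4a3c2454934843493d205080c78d482d1cb3d1d1c72d3d1c53724ac9472cf0b4624b49461cac7463cd0546251492a1cb0745346c3450bfcd4524b09441ca874433f83440c68d440d0cd192d04b430becd433ce45432d08b3e35083183d0853833e434235042f53d0453b345c34123cc9402bdcb401bd0740345834024fc8f434fc3152bd8b3f1bcc73f14f8f3a34f831413ccf3e1bd473d13c8f3d3ccc53d3cf053023d493c3bc453c3cec4f4344c33b0bb4d3b14e8ef334e83122bacb3a3be853934443390ba4d3934e03102b9cb3813e0f3824dc91e3cdc4ff1c8473734d82e21cd86ef3cd8532238c936343c33624d48ef14d4f3134d430e1b8c7351380f3524849341c787343bf853424cc8ea1bb47333bc85333cc84e123789321bb8732343433224c48ee14c4ee034c430c1b7873123b49303cc04f11ba87302cbcb1c34bc2db1cbc6fd3cbc52e23f092f342c32f0cb8d0a2b94b2e23d892e0b68d2e1bdc72e2ca4b2d3c8452d342432c0b60d2c)))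
  (.leaf (nat_lit 0x2cacb263cac51e34a83082b58b2a1ca46fb3ca452523e492924a08f81be8728341c3280b50d28249c8fa349c3062b48b271be072723ec9261be47263c8852624948e63c944d41ba472534902cd1c906cf3c9052023389243414324248c8cf148cf1f348c3041b38723132cf2323a49221b987223b445223b605213c804cc23249201b40720340c320247c8d0147cecb347c3021b2471f3c784d52c74ae434742c61c746d33c7451c234891d340431d0c70d00235891c0b14d1c1b5c71c246c9081c2471b33fc31b242491a1c2071a0bf8d1a0c64cfb2c5cb193c445192c60b1434602f93c605103c5c51333d43172afcb161af471633c831622f49152af8b150bc4d150bc0d143c485143c4c4bd33b43133af05120ba8d123b0451133a43113c404c00b98d101c3c6bb3c3c50d22cc90f338830f22ec90e0b7cd0e1acc70e3c3050e1ae870d12c8f0d337430d22e890c0b70d0c3ac450c2c2cb001c2c6c33c2c50a230890b336c30b0c28cda2ad4b0a22f890a1afc70a33603090b54d08241c8c01b04707335030723049061b007060b44d061c146a93c1450322a0905333430522a49040b28d041aa07043c085041aa8703129cf03332030322a89020b1cd023a985022c04ab41c046ac3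c0450022ac90133183010c00cc522b49001ab870023fc8d51b606ff23608fe1b546fe33f42a31284efd3bdc4fd330c2fd3bf04f632882fc0b08cfc3a804fc2bd4afb3ba44fb33042fa0a78cfa2be4af03be44e633e02c02a70af822688f73a844f732fc2f733d82be1a686f61280ef63bd44ed32f42f40a5ccf433cc2bc2a54af32a64af21a5c6f2225c8f12a60af13ba84f00bbccbb2b40aef0a4ccef3bb84ef3a444ee32e82ee0a48cee3bb449733b028d1bb068f3bb04e822388ec32e42ec23ac88f13acee733ac2b81a386eb122ceeb3a504ea3a784e93ba048c22248e81a406e832dc2e8239c890139ce8b339c2b61a246e73b9849b33942861b946963b944e422548e532d42e50b90cb422708e40a14ce41a746e42b8cac9338c2b33b8c4de320c2e31b886933b884dd220c8e222088e12a84ae11a446e132c82e1238089133802b12a80ae01a086e0224c8df1a0c6df3b704df33782b02a38ade1208ede1a486dd1204edd22488dc3a004dc2b6cac51b6c6a33b6c4da22888db2a18ada22608da1a646da23648a01a846d932bc2d909f8cd9335c27b3b5c4d321f08d732b82d71358ed233582ad19f06d611e4ed6235089b1a786d43b4c47a21dc8d332b02d31348e7933482ab19dc6d222788d11a6c6d133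402743b404cf32a82d00b3cca92a40acf09ccccf2b38a8933382a83b384c931c42ce1b346733b344c821c48cd21c08cc29e8acc19c86cc329c2cc232c872332c2a629e4acb19c06cb21cc8ca19c46ca3b1c4ca33242a511c0ec919d06c811bcec8231c87439b84c72b18a851b186763b184c521d48c621e08c519ec6c5231087919e86c432902c409b0cc411a8ec33afc4c3328c2c33b084be0a88cc239a44c232782c10a6ccc039a84bf32642bf3af84690a60cbe325c2bd0a50cbc0aecc932aa8abb3ae84bb39884ba32482ba1ae46603ae44b7217c8b932342b921808b80a28cb8197c6b83ad84b819846b71178eb732202b721848b60a1ccb639744b61ad46643ad44b4218c8b532182b50ad0c8521988b4199c6b42accaa532cc2833acc4b029a8ab219886b232042b221888b129a4ab10a00cb1297cab009fccb022bc86919a86af31f82af3ab84ac21608ae31ec2ae09e0cad19606ad3aac4ad115ceac31d82ac09d4cab39584ab3aa84a931d02aa0aa4c732984aa92aa0a5c32a02713aa04a5295caa719506a731bc2a721508a62958aa609b8ca609b4ca52290856195c6a431b02a41144ea33a644a33a8849839404a2328425131a82a131402a009a4ca00a7cc4f29f0a9f09a0c9f3a6849f327424c3a7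4496213489d319c29d1270e953270266193469c1128e9c1268e4e32682652920a9a39444993a604503a5844b212089631902961254e4a3254263192069529d0a933a48493391049231882910910c9132402433a4048f31842900a3cc600908c8f323825f3a3848930fc28e1a346423a3448820fc88d20f888c292ca8c190068c317828c222c840322c25d2928a8b18f868b210888a18fc68a3a1c48a322425c10f8e89190c68810f4e88221c84338f04871a186463a18485211488621248851930685221084a192c684316c28408e8c842a0ca6d3a0c47f320825a28e0a822944a81191068121108802940a8028fca7f21f8850194467e39f443920e087d190467d39ac47d316427d31f025839f047730d427c39ec47620d487b20d087a315c27a31e425618d067918d467839d447831dc2552934a7710d0e7710cce7638c847539d0473290ca73315027208c0c7229c4a3b39c446d31c025328b8a7028cca6f18c066f20c086e28c8a6e21b083218cc66c20b886b18bc66b38e446b314826b314426a0940c692960a68))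
def tcN_T : Tr := .leaf (nat_lit 0xb3d9acb64b1d8ac360afd7abb5cadd6ab358abd5aab54a9d4aa350a7d3a9b4ca5d2a9348a3d1a8b44a1d0a83409fcfa7b3c9dcea73389bcda6b3499cca633097cba5b2c95caa532893c9a4b2491c8a43208fc7a3b1c8dc6a33188bc5a2b1489c4a231087c3a1b0c85c2a130883c1a0b0481c0a03007fbf9fafc7dbe9f2f87bbd9eaf479bc9e2f077bb9daec75ba9d2e873b99cae471b89c2e06fb79badc6db69b2d86bb59aad469b49a2d067b399acc65b2992c863b198ac461b0982c05faf97abc5dae972b85bad96ab459ac962b057ab95aac55aa952a853a994aa451a8942a04fa793a9c4da6932984ba592a9449a49229047a391a8c45a29128843a190a8441a0902803f9f8fa7c3d9e8f2783b9d8ea74399c8e270379b8da6c359a8d26833998ca6431988c2602f978ba5c2d968b2582b958aa5429948a250279389a4c259289248239188a442190882401f8f87a3c1d8e872381b8d86a34198c86230178b85a2c158a85228138984a241188842200f8783a1c0d86832180b8582a14098482210078381a0c058281208038180a04018080200)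
def tcN_P_0 : Tr := .node (.node (.node (.node (.leaf (nat_lit 0x422d501f00407040010015006090402d501d0020803e2d501b0040603e010013002010182d103b000052e503b0000003a00c00f00005030039000002db0370000403600a00d006072e302f0000002e00800f0000902a00800d0000802a2d8000042d70290000402800600d006060240060090000a02200600f000010222e0000002d50210000402000400d0060501c0040090060901a0040070020100e003019000050100190000001600200b0040701400200900208012002007004060100020050040500400f0000000200d00004))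
  (.leaf (nat_lit 0x2085051950040520814c151000012086fe000002062057030000a20614a14f00609206503191002087015b451a0000820450318f0040620414a14d002011680b63a6149203002025254fe203000012002030000020250051e000092024fd18d0000518a4fc2010040520050015b004092004ff15d000016e61fc6206241ff0020b1fe6256265a71b1000036e71aa5a85a71b10020b1fc1443a34361ab000031464eb1fb002081fa13e143006091fa4e56c4002091fa4e7187002086bd4e41f9002011f84ea145000061f84e7185004061f813e141002011f613c39412f1eb002021f667e000001f44dd18300007)))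
  (.node (.leaf (nat_lit 0x14e14d5075014ff0040b14e14d5090000a14e3ab0df0020814c0a60a53a90a90020b14c0a603e0430ad0020314c3ab0dd0040614a3ab0db004050ac0420413a81490020b1480a403e0430af0000b1483a50d90000714609e0a3006091463a1133002091303a01450020114409e0a1002010a239e1430020814239d0d50020814039f0a10000614039d0d30040609e39e13f0040513e09c3023420f90020213e39d0d10040513e4d30000009809713b000054c813b0000013a39109b0000913a38f0cf0000512a386139006053f513900004138389396006061380920950060539f380135006053ed13500004))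
  (.leaf (nat_lit 0x2a474d269004079002a07417462a30020b2a2747174577227000032a274554758c776000022a2743267000079027717670040976f58853e73c2a1000022a021853b56a225000032a073f2610040725a72829f0040529e21253020f29b0020229e8d00000029820c52621129d0020225672629d000058cc29d0000023272229b000018de29b0000029a7242310000929a7212530000529871f2330040929871b24d0040529871d231000012988d4000008d62947117192970020b20e52550e20b297000022967185175662230000329671324b000078d72205615662230020b29470d51416d2210000329420850751e20d0000229470f2450040729270750f15d21300002))))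
  (.node (.node (.leaf (nat_lit 0xd805801a01f0670000b0d605805d000080d633305f002060d6331073002050d63a4000040d432f0a3002080d232f0a1004060d00562dc0430b1002020d032f09f004050d03ee000003eb0cf000000ce052055000090ce329099000050cc327093004050cc050055000010cc3e4000000ca04e016019057000020ca32508f004070c804e053006090c832508d002080c632508b004060c604e051002010c431f089000070c00c3000000c231d0870000508431c0c10040507e31a0bf000050b80bf000000bc0bb3cf3c93c70040b0bc0bb3d10000a0bc31b07b002080ba04804731904b0020b))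
  (.leaf (nat_lit 0x25c1b24521091cb0020225c6186ba0040925c6131b50040525c6176c20000125a1b04421a92530020225a7ba0000025860b213000072586101b10040724c1a24341ab257002027a825700000727255000042541aa1ad006071f65fe253000017d8253000002526001f3000097e27e579e7a22510020b2507a37a665b1f5000032505f920f000072501a61a9004076cf5f024f0000871b24f0000424e1a21a50060724e5ef1f10060624c5f11f70040924c5ef1f30000124c7bc000007be2445c35d924b0020b1a842d41819b24b0000224a5d84274821d30000319a1992490000519e5ce249000017b824900000)))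
  (.node (.leaf (nat_lit 0x5fc1af000001ae43f0f9000091ae43d15d000051a44341ad0060552b1ad000041ac437444006061ac0f00f3006055ee1a25aa5ae1a90020b1a85af5b047313d000030f442c1a7002051a60ec0ef000081a6522000040f242a1a5006055211a5000041a40ea0ef006065ef13647447313d0020b1a20ea341388137000030e84221a10000519e1a1000001a04251550000515242419f0040519e0e433e0811210020219e4230e70040548536933941a19d0020215041d19d000055bb19d0000019c0e00e3000050e641619b000015b719b0000019a0de0e3000091980de0e1000081984190f500207))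
  (.leaf (nat_lit 0x1ff001ff001ff001ff001ff001ff001ff001ff001ff001ff001ff001ff001ff001ff001ff001ff001ff001ff001ff001ff001ff001ff001ff001ff001ff001ff001ff9c08916e028b2cf0020228e8b22cf000052be8b62cf000019aa2cf000002ce8b82bd00009)))))
  (.node (.node (.node (.leaf (nat_lit 0x963280000432709500004094032037006060920320390000109237c00000325091000040900300370060508e03000a00f03d0000208c0300350060908a030033002010840870000002e02b0830000533e083000000822f503b000090822f304d000050802f304b0000708002a02d0040707607f0000031b07d0000407c0260290060707a07936135f35d0040b07a0793630000a0780260252ed02d0020b07802600600b0330020303200a0092ec0750020b07402400600b0350000b072024029000080722ed02b002060723160000405c2e807100605315071000040702eb30000606))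
  (.leaf (nat_lit 0x2365991ff0000778b2106f06ef2130020b234184401528211000032345951fd004071f6590233004052321823fa17b22f0020223275e000002281783f0181231002021f258e2310000575a2310000076622f0000022e5851eb0000522c22b76f72c72b0040b22c22b7710000a22c5831e50020822a17855655a17b0020b22a1780c60cb17d0020322a5831e3004062285831e1004052287620000017a3eb3d6173227000022265711db000072241703cf3e41790000222456d1d5004072225653d70cf183000022225631d3000071800cc3ce55c2210000222055f1cd0040717654421f0000174521f0000021e1641670000921e5431c500005)))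
  (.node (.leaf (nat_lit 0x1803f51370040717e3ef0d50020917e3ed133002080d23ee17d0020117c3ed1310040617a3e912f000071783e7129004071263e2177004051760c43220a91550020217657a000001740c004a04d0c5000021743dc125000070c03d417300001565173000001720bc0bf000091723d311b000051703d10c1004091703cd115004051700ba0bf0000117055c0000016e16d5610000a16e0b80bd0060916e3cb1110020855f47e3de0000816c3cb10f0040616c0b80bb002013eb3c616b0000116816b0000016a3c83e40000916a3c510d0000510a3c4169004051683c80cd00409))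
  (.leaf (nat_lit 0x86d8222c1000088ff2c1000042c0260263006072c081f275006062c082027f0060529e8022bf004052be25860e2512bb002022be80125b004052be94c000009637e56097f82bd0020229c7fb2bd000059432bd000002bc254257000052527ea2bb000052867ee2bb0000195e2bb000002ba7f0285000092ba7ed29b000058a57e02b9000082b47dc2b9006058e72b9000042b87df89a006062b824c24f0060594e9517ca7d32b70020b2505fc5d02492b7000022b67d25e5678273000032b67cd297000072b67d424b004078617c02b50000824e7bc2b5006058d32b5000042b424424700607))))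
  (.node (.node (.leaf (nat_lit 0x11607807d006061143630850040911407807f0000111447c000003cb1130000411207607d0060511010f47e0000a11007607b0060908636247c0000910e0760790020137f35c10d0000110a10d0000010c35e37c0000910a35e0930040910a35d0990000138b2fb2f43581090020b10835b2ef2fa3900000b1083570b700007108072075004070da05a2e806f107002020fe107000003c31050000410406e0710060710210145b4574550040b10210145d0000a10006e06d34d0890020b10006e2eb03d0a1002030fe06e02202707f002020a003c2f634c0fd0020b0fc06c2eb03d0a30000b07234a0fb002050fa06c07100008))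
  (.leaf (nat_lit 0x2806ad6b400206280772000046b56aa27f0000876d27f0000427e6a91ed0060727e1e21e7006062746a627d0060576b27d0000427c1e01e70060527a2798750000a27a1e01e50060927a6a78390020981f6a6279002012786cd7f27f66d50020b2781e01e3002011e84c849a1d92770000227668d227000072766941db004071e668027500605761275000042741d41d70060727267c49b13b1f500002272677223000072721d01d300407759271000042701cc1cf0060727066c1f10060583c26863b65126f0020b1fe4fb4601c526f0000226e6504bd5b8243000031c41c326d000051de64626d00001)))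
  (.leaf (nat_lit 0x1d849d11d000091d8497173000054ab48c1d7000081ce4881d70060556d1d7000041d648b4a4006061d6114117006051d411436137c129000021d248136709913d000021184801d1002051d0110113000081d04834b3002061d0562000044b247f1cf0000811647c1cf0060555f1cf000041ce10e1130060613609236047c1cd0000210c46a1cb000054c846e1cb000011c81cb000001ca4704c3000091ca46d16b0000516846c1c9004051c84704d4004091c846b10b004051c846f13b000015bb41b3554621c7002021664651c7000056311c7000001c61041070000512645e1c500001))))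
def tcN_P_1 : Tr := .node (.node (.node (.node (.leaf (nat_lit 0x700220290060506c2eb2f60000a06c0220250060906c2e90590020906206b0000030f0690000406801e0210060706201e00400b0390020202a2e205f0020505e01c0210000805e30a000040282e005d0060530905d0000405c01a0210060605801a01d0000a0582e1025002090562de03d004070382da0550000504e055000000522db035002080502db0330040604e2db0310040530d04d0000004c0140190000904c2d902f0000504a2d902d000070482d7027004070460120150000a0462d7025002080442d7023004050440120190000104430600000))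
  (.leaf (nat_lit 0x21c5411770040921c53d1bf0040521c1621670000121c73c0000021a2197410000a21a1601650060921a5391bb0020821853b5725761750020b2185391b900406218160163002012001483bc15f2170020259d5342170000121421700000216536592000092165331b7000051b45322150040521415e3bf0b716b002022145365890040921453558c0000121252d1b10000721052b1ab0040771c20c6f66fa20f0020b20e6fb6fc54f1830000320e5231a90000771d18055054f1830020b20c1563b13f21810000320c5211a30040715250c20b0000170720b0000020a14e1510000920a50b19b0000520850915300409)))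
  (.node (.leaf (nat_lit 0x1683c70cf0000114a0a63100b5167002021063c2167000051601670000016416353f5375350040b1641635410000a1643c3103002081620b40b33c10c50020b1620b43130570d3002031623c3101004061600b40440490bf002021603c30ff004050d20563203c015f0020b15e0b23130570d50000b15e3bb0fd0000752515d0000015c0ae0b10000915c3b50f70000515a3b30f10040515a0ac0b10000115a51e000001580aa0af006091583af0ed002081563af0eb004061560aa0ad00201152155000001543ad0e9000050e63ac153004051520a830d04b0c3002020b80483060a7151002020e23aa1510000514a15100000))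
  (.leaf (nat_lit 0x2b47bf271006062b27b85d11af259000022b27b3293000072b2240243004078cb2b1000042b023c23f006072b07a82550060592b77759a2372af0020229e7902af0000191a2af000002ae79229d000092ae78f28f000052ac23459676e91e002022ac78d29f004092ac78928d004052ac78b29d000012ac910000002aa2a99230000a2aa22822d006092aa76990d002092aa76b27b002089017682a9002012a87818ec8f07850020b2a876b279004062a822822b002019122a474f7572a70020b23659d54621f2a7000022a675657f708293000032a675126f000079132907037082930020b2a474b54c205291000032a421c53f59223500002))))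
  (.node (.node (.leaf (nat_lit 0xfa34d379002060fa3490d7002050fa3ba000040b03450f90000542f0f9000000f806806b0000542d0f7000000f606606b000090f4066069000080f43b4000043b30f3000040f2064069006060f006406b000010f042a000003af0ef000040ee341396006070ee062069006050ec062067006090ea062065002010e60e9000000e60602e302d087002020e433b0a9000070e405e061004070760262e005b0e3002020da0e3000003ab0e1000040e005a05d006070de0dd41341140f0040b0de0dd4150000a0dc05a0593330610020b0dc05a01a01f0650020306401e01d3320d90020b))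
  (.leaf (nat_lit 0x83226d0000026c64b1c70000926c64521f000056a163a26b0000826263626b0060574d26b0000426a6396520060626a1be1c10060583d23c5b45b82430020b26863946818f23d000032681be45b4f41fd0000281e26062b62e2670020b26662f1244a31db0000326662d4614cc6ae000021c262c265002052641ba1bd0000826462f698002062647420000469962a263000081c06282630060573f263000042621b81bd006068206ab697004096a94ca45a628261000022601b845948a1d50000323818844c1b325f002021b661225f000056e361625f0000125c25f0000025e6186d60000925e6152170000521461425d00405)))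
  (.leaf (nat_lit 0x62d1c5000001c4102107000091c2102105000081c24614f3002071c245f4b4002061c2542000044b545c1c10000853d1c1000041c045b4ee006071c0100105006061be45d127004091be100107000011be628000005391bd000041bc4594a4006071bc0fe105006051ba1b962b0000a1ba0fe103006091b845949e4a21250020b1b80fe1010020118a0d83480fd1b7002024fb4541b7000011b41b7000001b64564f4000091b40fc34b07510d002021b44564cb004091b44554cc0000114009c37444e1b30020b1b245135109d1430000b1b244b15f000071b20fa0fd004070f60f51af00005))))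
  (.node (.node (.node (.leaf (nat_lit 0xba048012017051002030ba31b079004060b831b077004050500160153180b70020b0b60460120170530000b0b6317075000070b431506f004070b23133200000a0b2044047006090b23110a5002090b231506d0020806a30e0b1000050aa0b1000000ae30f067002080ac30f065004060aa042010017055002020aa30f063004050a830b061000070a630905b004070a403e0410000a0a4307047002090a43090590020809e03c2d201f06b0020209e3800000009c30103d0000709c304057004070542fd09b0000538309b0000009a0360390000537f099000000980340390000909603403700008))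
  (.leaf (nat_lit 0x2485d319d000092485cd20b000055e35c22470000823e5be2470060570f247000042465c15da00606246194197006057bf1cc47e4821d30020b2445c142010f1cd0000324419441342a1a3000022425b74190f71b1000021985b624100205240190193000082405b95ed00206240704000045ec5b523f000081965b223f0060570123f0000423e18e193006061aa0f04125b223d000021c810840818923b0020218c59e23b000055fc5a223b0000123823b0000023a5a45f70000923a5a1203000052005a0239004052385a46020040923859f18b004052385a31af0000178a2347347382370020b23673973a6ef21300003)))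
  (.node (.leaf (nat_lit 0x1984174220020619850a0000442341419700008505197000041964130f3006071960dc0e1006061944150e7004091940dc0e3000011945b200000503193000041920da0e10060519018f5b40000a1900da0df006090e84145b20000918e0da0dd0020110a0743300d918d0020242d40e18d0000118a18d0000018c41042a0000918a4100f10040918a40f0f70000143934333c40a1890020b18840d33534243e0000b188407149000071880d60d9004071860d00d5006091863fd17f002091863ff1470020817c3fc185002011843ff145004061840d00d3002011823f713d00007))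
  (.leaf (nat_lit 0x2ce8b52af0000528c8ac2cd004052cc2886dc8869b5002022cc8b12bf004092cc8ab2ad004052cc8af2bd000012cc9a10000028087a2cb002052ca27a27d000082ca87d899002062ca879990002052ca926000048988742c90000827e8722c9006059212c9000042c827827d006062c88762c10060599a99d8488512c70020b28a6e364826d2c7000022c68506a37b42b3000032c684b2a7000072c685226f0040794983e2c5000088ad83a2c50060590f2c5000042c426826b006072c483d2b10060698898b82a82e2c30020b2c282f1dc693277000032c28326496c2890000022c282d2a3000072c226426700407))))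
  (.node (.node (.leaf (nat_lit 0x13408e091006071323810a3002090a03801310020109637e12d0020512c08c0910000812c3e80000409437c12b006053e712b0000412a08a091006061260882f80610e9002021264b80000012408402c02f089000021223730c5000071223780890040708636e1210000511e121000001203710c3000050c037011f0040511e36f085004050be36b11d0000548511d0000011c07c07f0000508436411b0000148111b0000011a07a07f0000911807a07d000081183670970020711836536e002061183d20000436f362117000083cd1170000411636109500607))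
  (.leaf (nat_lit 0x2927052430000721015a5066fe2910000229070123d0040787b6af4f81ff28f0020225a6ea28f0000185628f0000028e6ec2570000928c1fc4f66a88720020228c6e925b0040928c6e72570000128c83a000008ae28881481828b0020b28a81981c7952590000328a6df2370000728a6e41ff004078af7f97987952590020b2881f84e96047f8000032886db1fd000072886d9235004072326d0287004052861f44e01e9283002022866cf1f7004052868640000087f6b14db6c6285002022306c92850000585b285000002841f01f3000051ea6b428300005870283000002826b722f000052801e41e7000082806af1ef00207)))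
  (.leaf (nat_lit 0x1f44e213d004071e01283861371f30020266c1f30000058f1f1000041f0136139006071ee132135000081ee4cd4f3002051ee58a000045871ed000041ec130135006061ec4ca4ee006056961eb000001e84c517b000071e812c12f004075831e7000041e612812b006071e41e36a961c61b0040b1e41e36ab0000a1e212847647a12f0020b1e212808a08f131002031e0680000001764b61df004051de1223760e51a1002021de4b5127004051de69c000001dc11e080083123000021dc4ac175000071dc4ab1250040712e37f36611b1db0000211a1191d90000511e4981d90000167c1d900000))))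
def tcN_P : Tr := .node tcN_P_0
  tcN_P_1
def tcN_N_0 : Tr := .node (.node (.node (.node (.leaf (nat_lit 2114))
  (.leaf (nat_lit 2055)))
  (.leaf (nat_lit 226)))
  (.node (.leaf (nat_lit 36900))
  (.leaf (nat_lit 165))))
  (.node (.node (.leaf (nat_lit 1057))
  (.leaf (nat_lit 3075)))
  (.node (.leaf (nat_lit 193))
  (.leaf (nat_lit 38))))
def tcN_N_1 : Tr := .node (.node (.node (.node (.leaf (nat_lit 170035362))
  (.leaf (nat_lit 0)))
  (.leaf (nat_lit 99)))
  (.node (.leaf (nat_lit 134275))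
  (.leaf (nat_lit 5125))))
  (.node (.node (.leaf (nat_lit 104545))
  (.leaf (nat_lit 132)))
  (.node (.leaf (nat_lit 6145))
  (.leaf (nat_lit 71))))
def tcN_N_2 : Tr := .node (.node (.node (.node (.leaf (nat_lit 68675))
  (.leaf (nat_lit 0)))
  (.leaf (nat_lit 7170)))
  (.node (.leaf (nat_lit 233540))
  (.leaf (nat_lit 165))))
  (.node (.node (.leaf (nat_lit 235585))
  (.leaf (nat_lit 132)))
  (.node (.leaf (nat_lit 193))
  (.leaf (nat_lit 1030))))
def tcN_N : Tr := .node (.node tcN_N_0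
  tcN_N_1)
  (.node tcN_N_2
  (.node (.node (.node (.leaf (nat_lit 171084963))
  (.leaf (nat_lit 99)))
  (.node (.leaf (nat_lit 172070019))
  (.leaf (nat_lit 38))))
  (.node (.node (.leaf (nat_lit 170145))
  (.leaf (nat_lit 4100)))
  (.node (.leaf (nat_lit 226))
  (.leaf (nat_lit 71))))))
noncomputable def tcN : TC :=
  ⟨[.l 0, .l 1, .l 2, .l 3, .l 4, .l 5, .l 6, .l 7],
    (nat_lit 9), (nat_lit 12), (nat_lit 69965290688), (nat_lit 1), (nat_lit 360), (nat_lit 0), (nat_lit 32), (nat_lit 29), (nat_lit 35),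
    get (nat_lit 10) (nat_lit 0x400c0400c02010030080400c02010030080400c02010030080400c02018040100401004010030180601003), Tr.get tcN_N, get (nat_lit 20) (nat_lit 0x3ff003ff003ff003ff003ff003ff003ff003ff003ff003ff003ff003ff003ff003ff003ff003ff003ff003ff003ff003ff003ff003ff003ff0000e0000d0000c0000b0000900008000070000600005000040000300000),
    Tr.get3 tcN_F (nat_lit 28) (nat_lit 5), Tr.get3 tcN_T (nat_lit 9) (nat_lit 6), Tr.get tcN_P⟩

theorem tcN_head : tcN.headOK relN tcN_iv = true := by decide +kernel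

theorem tcN_b0 : allFrom (nat_lit 0) (nat_lit 29) tcN.blockOK = true := by decide +kernel

def tcN_Q5 : Tr := .leaf (nat_lit 0x9d99ca9d89cb2c799c2c398a98297d98397c2b79502b39449419369409372a72a52a32a18fa8f78fb8f62972952932918c98c028b2898a68a18a78908868a08c88c127786627385c26f2c699d2692672c298b26181d80e8062597ff7f88072517e47fe24b2b69512452432b294523d7a781c23723578478178577676e7802272252232212a62a42a22a073b72e21321120f20d2962942922906fd73a1ff1fd28a2886d41f56cd6c68918876d51e96b06ae6a86cc6a21dd1db2768671d51d327285d1cd80f7a665926e64863e26863226626062761e1b31b12587f91ab1a92507e51a36a35e45e124a5d05c624465824223c5b162618923623418318177776f17b17957e17522622422222072f6fc54d54653e53a15f21221020e20c57f51651550e50654c1491fe1fc64963f4e813d1f46c71374ce6af6a912f1e86b11294bc1251235e51dc6331da49a4901d45e01d21cc61f5b010946946246045a4580fd1b24e91b05d15c71aa4301a81a24bd4260e542141a4184124680d918854753f4001821800cb17a1780c551717453b3d63ce5140b70b515e40150f5073b00a90a714846145b3a209d43113c49b4911364cf08f12e12808942712412208145936836636042007510846306f0fc3a33424194133400610e441b05b0d80573b13d73cf0ca0c404b0490b60b40430a80a603d09c3412fa36736108e08802d08036902707406e34301f06005a05601704a04804203c2fb00b02c02601e01600a)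
theorem tcN_f5_0 : allFrom (nat_lit 0) (nat_lit 360) (tcN.finOK (nat_lit 360) (Tr.get3 tcN_Q5 (nat_lit 12) (nat_lit 6)) (nat_lit 5)) = true := by
  decide +kernel

def tcN_Q4 : Tr := .leaf (nat_lit 0x9d09c89be9b79ad9a399998f9c99d196e96b9619579a29ac93a9342ab92291d91490d90493593b8ec8e88e18d891591c8c28be8b98b096a96f9b689288b9bf27b87498e99895696085984c84983e83983082b82281480c8bf8b18c38b87f27f17e97e07db7ce7cb7c083f7b67b185879e79879378c8e98ed92322d7702aa90590c8d98e075274e21b74073472c78d79272571e7147102077026f66f06ed6e81fb8157e17e87f37f06c480d87588a8931e56aa27a84882a82368e68b8387c167a6757da66465e84d64c64a64363a8311bb62a62061c6196e960c7996ec6015fa79f5f07b07ca7cf5d45d25cb5c27b71915b55aa5a85a518773571f72417f72d77122c74f74157256e16f56055655075316554021a53752e6f11596f770371171514f5082065011476211436181fa5f14de65f6006c513361d6ab4c66651e463b62b64267468a68f49e49c49548c67b11147f47647447164d64b10345c1ba45745060d44043e5a45a95fb0ed5ab5b45c35ca5d55d30df41419041140c0d55361863f855117e0c955754156156f5730bd3d016e3c91640b352f0af50015850914e0a50a34561461424df3923904704754c713208d47745d47e48d37449449f49d07b36211035f35a45110206d44143f0674100ec41533c40d0de0590d43f90533c80c83203d10bc0470b20ae0410a40a237539339103535e08c2f63632f435b07a02506c33d06601d0583210520150460402f72f503400902401c014008)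
theorem tcN_f4_0 : allFrom (nat_lit 0) (nat_lit 360) (tcN.finOK (nat_lit 360) (Tr.get3 tcN_Q4 (nat_lit 12) (nat_lit 6)) (nat_lit 4)) = true := by
  decide +kernel

def tcN_Q3 : Tr := .leaf (nat_lit 0x9d59c49bc9b09a899a9969889d49c597396495c94e9a999b93f93092c2a991891290a90093e9318f18e48dc8d69199138c78bc8b68ae9729659bd88e8849b187c27999798995d94f85485184283c83682e82481e8198088c68b78bd8af7f77ee7e27de7d67d37c47be8557b47aa83d7a379479078a8f08e592d77422b2a890b9018dd8d775774a74621973972a79178b72271c71970c7082056fb6ee6ea6e68181f97f67ef7df7e38096bc87d88f8856ac1e327885082f83769368481f7d767866e7bf66965a84365164663c63882562e1b962561a6166eb7956046e75fe7a25f25ee7b57d27c55d95ce5c45c07ab5b818f5af5a65a273818572371d72b17d77522a75674757756a56616d55b54e74b5441632185346ef5286fa15770971870d50c14d2044fe6241456171411f85ff65b4d65ef6bd61b1316ad6684be1e265062f6476796926854a349848e48a66f48210f47b47246e63963d45e1011b845444e6055a75a34384365f35ae0eb5b95d85cf5c15c54160dd18e40e40a5350d318454f3f217c55a0c754556757656b3d40bb16c3c61623c05294ff0ad15650d14c3a84550a11441404d747346f38a3884bf13047a08b45f4834a244f49948b48f36407910e35c35835010034c43743940f0650ea41740b3340dc3320d23f33c70510c63c13d50ba3183120ac3a903f0a035138938b35d03308a34d3653592ee0782ec2ea33506433301b31305031901303e2eb2ef0322ed00701a012006)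
theorem tcN_f3_0 : allFrom (nat_lit 0) (nat_lit 360) (tcN.finOK (nat_lit 360) (Tr.get3 tcN_Q3 (nat_lit 12) (nat_lit 6)) (nat_lit 3)) = true := by
  decide +kernel

def tcN_Q2 : Tr := .leaf (nat_lit 0x2cf9c29ba9b59d29a19949af97e2bd2bb96997095594c9782af92e92891e93c9109089248f829d29b8e28ee8d48d08f228f8ba9aa2cc8a22852839c098788387887289686b86489c8c426d84783a83484e82987625f8168042be25794325395e9637dc7f42497c97bc7ba7d07af7fc23b7a091a2ac78223122f92b90276877a76275e77c21f74875473c21773629e8cc8de29820b70a7166fe2036f885628c6e06d66d22861f385b6c26dc1eb87087f87b8206a669e69c6b81d968968067e6906736ca1cb6661c71c583284163665464e6281b762225c25a1af6097a87d860e5f724c1a15ea19d19b7b87c35be5dc5d65b218d5ac23859a59223275a58c59676622857c57a17356857455c16b55816774521c54821415d52653051e15551c1517072085102004f84f46e36bb4e41f613b4db66c4d34cc4f66964e04c31e04ba4b81de1214b011d11b67c6834884a64a047c10d4781c810763162d1be4661b444c0f90f75fc60343444644242a0e942819e0e35bb5b719441e18a40859d5883fc0cf3f03ee3fa3e41760c33e00bf5651703d81681603bc0b152515a3b615214a3a64fb4ca3a013e09b0994c84d538639838039437c12608737a08311e07f48548111436c10a4523550fe34806b42f42d0f03460e63763390da3300d00553eb0cc32a04d0c00b83bf3100aa32230609e03b03938337f0922fe02f08433e34f07634b2e83020622f82e001904e30d0442dc00f2e50302e30222d2010004)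
theorem tcN_f2_0 : allFrom (nat_lit 0) (nat_lit 360) (tcN.finOK (nat_lit 360) (Tr.get3 tcN_Q2 (nat_lit 12) (nat_lit 6)) (nat_lit 2)) = true := by
  decide +kernel

def tcN_Q1 : Tr := .leaf (nat_lit 0x9ce9cd9b82c99a62c59922c198597696c2b995a2b594a2b19389c79269b291699e90698c8fd97a8ea9668da9528ce9469d69338b48ac8a989a89488c27f27d2ca92186e2758622719a584a26b90f99182c2638ff8128119818028f42559747ec24f8e79597cc2478d39497b223f8cb79c79b78e8ab78789e77877288888076486875c85e7508447428267327317287fa7207e67127c67047ac6f46f38b37896de6da8a56d077e1f16c01ed8986b61e728076d76b6a569a86d68c1d77618616761cf7596626616528526441c174d1bd26473f81a80b61480160a1ad7277eb5f81a571b5e85e75da7d45cc19770f1932407017a47975a05986d95906c858a6be5846b258157857068656267055455365654264063453252c6065225f451a5195de50a5c85bc4fc6e45954f04ee4eb6cf4dc13958f1351ee5876b54c412b5836a16994b64ae4ad4a469449611756d1131d055f66a65d46c54a1051c253d53961344a44461043c0f352b0ef1a65215ec5e34245120e119850550359f4064044ed4e73f64d84d03e84c03e23de3dd4a83d24924863c44643ba4483b443a4323ac41c3a44f24033ff39e3964e238e0953f50913ed12c3e74b54b24ab3723703da07d1183cd3cb46b3560713c30fa3b80690f43b33af42333a05d3ab0d639d39a32838c38431e31c36a31635234430a33632f30032c03709632732537836f2f202931b07231502130f05e3093042fc2d82f02e62de00d2db02a2d72d52d0002)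
theorem tcN_f1_0 : allFrom (nat_lit 0) (nat_lit 360) (tcN.finOK (nat_lit 360) (Tr.get3 tcN_Q1 (nat_lit 12) (nat_lit 6)) (nat_lit 1)) = true := by
  decide +kernel

theorem tcN_blocks : ∀ t < tcN.k, tcN.blockOK t = true :=
  (of_allFrom_append of_lt_zero tcN_b0)

/-- index 360 max 360 total 360 facts 1261 | needed cosets 360 facts 1261 steps 2896 trivial 0 -/
theorem tcN_index {G : Type*} [Group G] {γ : ℕ → G} (hL : Lab γ tcN_iv) (hr : ∀ t ∈ relN, t.ev γ = 1) {K : Subgroup G}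
    (hK : ∀ t ∈ ([] : List W), t.ev γ ∈ K) :
    K.relIndex (genW γ [.l 1, .l 2, .l 3, .l 4, .l 5]) ≠ 0 ∧ K.relIndex (genW γ [.l 1, .l 2, .l 3, .l 4, .l 5]) ≤ 360 :=
  TC.relIndex_le (D := tcN) (gens := [1, 2, 3, 4, 5]) hL (List.forall_mem_cons.2 ⟨hL.zero_mem K, hK⟩) hr tcN_head tcN_blocks (by decide) (by decide)
   (List.forall_mem_cons.2 ⟨⟨_, (of_allFrom_append of_lt_zero tcN_f1_0)⟩,
    List.forall_mem_cons.2 ⟨⟨_, (of_allFrom_append of_lt_zero tcN_f2_0)⟩,
    List.forall_mem_cons.2 ⟨⟨_, (of_allFrom_append of_lt_zero tcN_f3_0)⟩,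
    List.forall_mem_cons.2 ⟨⟨_, (of_allFrom_append of_lt_zero tcN_f4_0)⟩,
    List.forall_mem_cons.2 ⟨⟨_, (of_allFrom_append of_lt_zero tcN_f5_0)⟩,
    fun _ h => absurd h List.not_mem_nil⟩⟩⟩⟩⟩)

theorem tcN_idx {G : Type*} [Group G] {γ : ℕ → G} (h0 : γ 0 = 1) (hr : ∀ t ∈ relN, t.ev γ = 1) {K : Subgroup G}
    (hK : ∀ t ∈ ([] : List W), t.ev γ ∈ K) :
    K.relIndex (genW γ [.l 1, .l 2, .l 3, .l 4, .l 5]) ≠ 0 ∧ K.relIndex (genW γ [.l 1, .l 2, .l 3, .l 4, .l 5]) ≤ 360 := by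
  have a := lab_of_rels h0 hr (iv := tcN_iv) (labs := tcN_labs) (by decide +kernel)
  have b := tcN_index a.1 a.2 (mems_fix (by decide +kernel) hK)
  rwa [genW_fix (by decide +kernel)] at b

theorem tcN_tb : TB relN [.l 1, .l 2, .l 3, .l 4, .l 5] 360 := fun _ _ _ h0 hr =>
  card_le_of_relIndex (N := 1) bot_le (tcN_idx h0 hr nil_all) card_bot_le

/-- inverse letters -/
def tcN2_iv : ℕ := 71715388499200

/-- inverse letters -/
def tcN2_labs : List W := [.l 0, .l 1, .l 2, .l 3, .l 4, .l 5, .l 0, .l 7, .inv (.l 1), .inv (.l 2)]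

def tcN2_F : Tr := .leaf (nat_lit 0x2cb2491c74c544328a2081864844023ce000)
def tcN2_T : Tr := .leaf (nat_lit 2)
def tcN2_P : Tr := .leaf (nat_lit 0xff800ff800ff800ff800ff800ff800ff800ff800ff800ff800ff800ff800ff800ff800ff800ff800ff800ff800ff800ff800ff800ff800ff800ff800ff800ff800ff82163419500410042c18010782120c00838107060041a082830020c)
def tcN2_N_0 : Tr := .node (.node (.node (.node (.leaf (nat_lit 2114))
  (.leaf (nat_lit 198)))
  (.leaf (nat_lit 175248612)))
  (.node (.node (.leaf (nat_lit 36900))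
  (.leaf (nat_lit 1032)))
  (.leaf (nat_lit 99))))
  (.node (.node (.node (.leaf (nat_lit 1057))
  (.leaf (nat_lit 231)))
  (.leaf (nat_lit 290)))
  (.node (.node (.leaf (nat_lit 269351))
  (.leaf (nat_lit 0)))
  (.leaf (nat_lit 4100))))
def tcN2_N_1 : Tr := .node (.node (.node (.node (.leaf (nat_lit 170035362))
  (.leaf (nat_lit 6150)))
  (.leaf (nat_lit 257)))
  (.node (.node (.leaf (nat_lit 134275))
  (.leaf (nat_lit 73)))
  (.leaf (nat_lit 132))))
  (.node (.node (.node (.leaf (nat_lit 106593))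
  (.leaf (nat_lit 40)))
  (.leaf (nat_lit 9218)))
  (.node (.leaf (nat_lit 105575))
  (.leaf (nat_lit 165))))
def tcN2_N_2 : Tr := .node (.node (.node (.node (.leaf (nat_lit 68675))
  (.leaf (nat_lit 198)))
  (.leaf (nat_lit 257)))
  (.node (.node (.leaf (nat_lit 299076))
  (.leaf (nat_lit 73)))
  (.leaf (nat_lit 3075))))
  (.node (.node (.node (.leaf (nat_lit 303169))
  (.leaf (nat_lit 7175)))
  (.leaf (nat_lit 290)))
  (.node (.node (.leaf (nat_lit 302151))
  (.leaf (nat_lit 0)))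
  (.leaf (nat_lit 165))))
def tcN2_N_3 : Tr := .node (.node (.node (.node (.leaf (nat_lit 171084963))
  (.leaf (nat_lit 231)))
  (.leaf (nat_lit 8193)))
  (.node (.node (.leaf (nat_lit 172070019))
  (.leaf (nat_lit 2057)))
  (.leaf (nat_lit 132))))
  (.node (.node (.node (.leaf (nat_lit 172193))
  (.leaf (nat_lit 40)))
  (.leaf (nat_lit 99)))
  (.node (.leaf (nat_lit 138375))
  (.leaf (nat_lit 5125))))
def tcN2_N : Tr := .node (.node tcN2_N_0
  tcN2_N_1)
  (.node tcN2_N_2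
  tcN2_N_3)
noncomputable def tcN2 : TC :=
  ⟨[.l 0, .l 1, .l 2, .l 3, .l 4, .l 5, .l 6, .l 7, .l 8, .l 9],
    (nat_lit 1), (nat_lit 7), (nat_lit 71715388499200), (nat_lit 63), (nat_lit 2), (nat_lit 5), (nat_lit 32), (nat_lit 1), (nat_lit 46),
    get (nat_lit 10) (nat_lit 0x1003010030080400c02010030080400c02010030080400c02010030080400c0201003008060100401004018040100401004010030180601003), Tr.get tcN2_N, get (nat_lit 20) (nat_lit 0x3ff003ff003ff003ff003ff003ff003ff003ff003ff003ff003ff003ff003ff003ff003ff003ff003ff003ff003ff003ff003ff003ff003ff003ff003ff003ff003ff003ff003ff00014000130001200011000100000e0000d0000c0000b0000900008000070000600005000040000300000),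
    Tr.get3 tcN2_F (nat_lit 12) (nat_lit 6), Tr.get3 tcN2_T (nat_lit 1) (nat_lit 9), Tr.get tcN2_P⟩

theorem tcN2_head : tcN2.headOK relN2 tcN2_iv = true := by decide +kernel

theorem tcN2_b0 : allFrom (nat_lit 0) (nat_lit 1) tcN2.blockOK = true := by decide +kernel

def tcN2_Q7 : Tr := .leaf (nat_lit 14)
theorem tcN2_f7_0 : allFrom (nat_lit 0) (nat_lit 2) (tcN2.finOK (nat_lit 2) (Tr.get3 tcN2_Q7 (nat_lit 2) (nat_lit 8)) (nat_lit 7)) = true := by
  decide +kernel

def tcN2_Q5 : Tr := .leaf (nat_lit 716)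
theorem tcN2_f5_0 : allFrom (nat_lit 0) (nat_lit 2) (tcN2.finOK (nat_lit 2) (Tr.get3 tcN2_Q5 (nat_lit 5) (nat_lit 7)) (nat_lit 5)) = true := by
  decide +kernel

def tcN2_Q4 : Tr := .leaf (nat_lit 650)
theorem tcN2_f4_0 : allFrom (nat_lit 0) (nat_lit 2) (tcN2.finOK (nat_lit 2) (Tr.get3 tcN2_Q4 (nat_lit 5) (nat_lit 7)) (nat_lit 4)) = true := by
  decide +kernel

def tcN2_Q3 : Tr := .leaf (nat_lit 584)
theorem tcN2_f3_0 : allFrom (nat_lit 0) (nat_lit 2) (tcN2.finOK (nat_lit 2) (Tr.get3 tcN2_Q3 (nat_lit 5) (nat_lit 7)) (nat_lit 3)) = true := by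
  decide +kernel

def tcN2_Q2 : Tr := .leaf (nat_lit 518)
theorem tcN2_f2_0 : allFrom (nat_lit 0) (nat_lit 2) (tcN2.finOK (nat_lit 2) (Tr.get3 tcN2_Q2 (nat_lit 5) (nat_lit 7)) (nat_lit 2)) = true := by
  decide +kernel

def tcN2_Q1 : Tr := .leaf (nat_lit 228)
theorem tcN2_f1_0 : allFrom (nat_lit 0) (nat_lit 2) (tcN2.finOK (nat_lit 2) (Tr.get3 tcN2_Q1 (nat_lit 4) (nat_lit 7)) (nat_lit 1)) = true := by
  decide +kernel

theorem tcN2_blocks : ∀ t < tcN2.k, tcN2.blockOK t = true :=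
  (of_allFrom_append of_lt_zero tcN2_b0)

/-- index 2 max 2 total 2 facts 12 | needed cosets 2 facts 12 steps 17 trivial 0 -/
theorem tcN2_index {G : Type*} [Group G] {γ : ℕ → G} (hL : Lab γ tcN2_iv) (hr : ∀ t ∈ relN2, t.ev γ = 1) {K : Subgroup G}
    (hK : ∀ t ∈ ([.l 1, .l 2, .l 3, .l 4, .l 5] : List W), t.ev γ ∈ K) :
    K.relIndex (genW γ [.l 1, .l 2, .l 3, .l 4, .l 5, .l 7]) ≠ 0 ∧ K.relIndex (genW γ [.l 1, .l 2, .l 3, .l 4, .l 5, .l 7]) ≤ 2 :=
  TC.relIndex_le (D := tcN2) (gens := [1, 2, 3, 4, 5, 7]) hL (List.forall_mem_cons.2 ⟨hL.zero_mem K, hK⟩) hr tcN2_head tcN2_blocks (by decide) (by decide)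
   (List.forall_mem_cons.2 ⟨⟨_, (of_allFrom_append of_lt_zero tcN2_f1_0)⟩,
    List.forall_mem_cons.2 ⟨⟨_, (of_allFrom_append of_lt_zero tcN2_f2_0)⟩,
    List.forall_mem_cons.2 ⟨⟨_, (of_allFrom_append of_lt_zero tcN2_f3_0)⟩,
    List.forall_mem_cons.2 ⟨⟨_, (of_allFrom_append of_lt_zero tcN2_f4_0)⟩,
    List.forall_mem_cons.2 ⟨⟨_, (of_allFrom_append of_lt_zero tcN2_f5_0)⟩,
    List.forall_mem_cons.2 ⟨⟨_, (of_allFrom_append of_lt_zero tcN2_f7_0)⟩,
    fun _ h => absurd h List.not_mem_nil⟩⟩⟩⟩⟩⟩)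

theorem tcN2_idx {G : Type*} [Group G] {γ : ℕ → G} (h0 : γ 0 = 1) (hr : ∀ t ∈ relN2, t.ev γ = 1) {K : Subgroup G}
    (hK : ∀ t ∈ ([.l 1, .l 2, .l 3, .l 4, .l 5] : List W), t.ev γ ∈ K) :
    K.relIndex (genW γ [.l 1, .l 2, .l 3, .l 4, .l 5, .l 7]) ≠ 0 ∧ K.relIndex (genW γ [.l 1, .l 2, .l 3, .l 4, .l 5, .l 7]) ≤ 2 := by
  have a := lab_of_rels h0 hr (iv := tcN2_iv) (labs := tcN2_labs) (by decide +kernel)
  have b := tcN2_index a.1 a.2 (mems_fix (by decide +kernel) hK)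
  rwa [genW_fix (by decide +kernel)] at b

/-- further relators of `A₈ × 2` -/
def relA0 : List W := [.mul (.l 6) (.l 6), .mul (.mul (.mul (.l 6) (.l 1)) (.l 6)) (.inv (.l 2)), .mul (.mul (.mul (.l 6) (.l 3)) (.l 6)) (.l 4), .pow (.mul (.mul (.mul (.l 5) (.l 6)) (.l 5)) (.l 6)) 2]

/-- relators of `A₈ × 2` -/
def relA : List W := relN ++ relA0

/-- relators of `A₈` -/
def relA1 : List W := .pow (.mul (.mul (.mul (.l 1) (.l 6)) (.l 3)) (.l 5)) 7 :: relA

/-- inverse letters -/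
def tcA_iv : ℕ := 2239997518048

/-- inverse letters -/
def tcA_labs : List W := [.l 0, .l 1, .l 2, .l 3, .l 4, .l 5, .l 6, .inv (.l 1), .inv (.l 2)]

def tcA_F : Tr := .leaf (nat_lit 0x2da2da1da1da15a45a3da0da2592591d91d94591590d93d91584572552581d51d81564583d80d82d72d61d21d71d31d62d52d524f2542d42d43d10d40d03d44541542ce2d32cc2d21cd1d124d25044f14f3cd0cf0cb3cf1cc1ce3ca0c414a44924a24a1ca1ca14844a3c60ca3493412c82c93c20c82452471c71c72442461c61c61c41c40c33c12c32c32432430bf3c31c31c343d1432c02c244113a43713f23323e1b21be23d23d1bb1bd43b13d1b31bc23b23b3ba0bb0b43bb23a23443a13533932e1af1b92b62b83b80ac1b41b74341373b60ad3333272b22b23b20a61a71b11254314301312302273ae0b00a83b04251302a12af1ae1a222022e2ad2ac19f1ad1a31ac22222b1a01ab3aa09f11e42941d1282a72a43a70a04271242a62a621b2252a52a50a43a209c3a429a2a32a029c29829f29e29e19919e21921d29d29d39909b09739b19819a39609221621619619611641639409621321519519509039521221419419419319319219211241229129121121109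139119119140e11138f08a20b20f18918f20e20e20c20c18c18e40c10e18b18d38a08d08c38c30b30628b28b18518a28928938908518618810440840710820720608738740410728628340610328528520220428428408338308238220120118118110140138108128028020020018018040010038008035a3592d92d835835435735135635035534f1d41cf35334d35234b25124b1d01cb2cf2ca34e3472cd2c634c3452cb2c434a3430c93c034833f2c72be34633d2c52bc34433b44313b34233714143534033543f13433e3312bd2b133c3302bb2b02ba2ae0b93ad33832b2b72ab3363292b52a92b42a80b33a63323242312241b01a40af39f12e41e32d31e32c31d42b11d32a31c22921c1a819c12741b32631b1a519b42411b3233194221190a139812041731f31721e21719d19741c11729b29631a31529929431831329729231631129528f31430e29328d31230c41110c29028a30f30828e28830d30728c28708b38530a304309303208203187183106402305302184182403102282281301300000000)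
def tcA_T : Tr := .leaf (nat_lit 0x16acd8af5aad4a74a8d09f3a6cc972a4c88f1a2c4870a0c07ef9ebc76e9cb86ed9ab466c98b05eb96ac56a94a84e992a446890a03e78e9c3668c982e58a9426488901e3868c16284880e182840608080)
def tcA_P : Tr := .node (.node (.node (.leaf (nat_lit 0x146f07c008303ce1758030687820130020d7a861b4e00e80105bd03810078640082c38e16a03c32000061c6fb35ac19000020d369d60041a1a6b8540083030d90c8020383016170000c0b3442e00c0e146782c00835c4d171801038280e130020c0803db40001410033380182420d36d801048319cd6000090732c1e0080c0e03024008040c04618141a0040406068000002808025f80c0a0b0000e040118ec5028010582008c5028240080c0cc90380202811800500407012ec0600c1a025e80c0083404b6018030600972030020c))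
  (.leaf (nat_lit 0x5a2c961db58acd6a0001cb4fbad40083569f15a803062d3e6b50020cfa2cbdbea5980105acbd7dff52cc0000d65e9f2fbd6600004b2f32cc0101d5dd858803062c150ab0060d58775560041ab0ebab40183161d55880106787a7c5e87880080d5ca25280106ab39aa70020d5527929a54aa7d560001ca84f6ff7a9f0020b5427b7a9f5480101aa393ce000065471d420080ca8e52a4008054c9a461e8fa8f4e800072912c883b1e516990000e512879a00014a04b6b3569b0020b4f6ef69c14f8000127b729b000074f7092e0080e9cd8a640083510874a801066db4e950060c)))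
  (.leaf (nat_lit 0x170b6730000c39554be00c0d78abdcc0081cb05738801061ba9f34289a40000cdc5695d20d2000045aa51b4008309c4d33800065b2836d0020726124ca004186230d9000028c4489f0030498a876500209a2562c400010609d56c00018c1392880203180904b002012f4cc8600c0e449717400004b83c2080004d4e6f25995500080cb43c1f801069625a470020d2b4b48a00812561d104000047c392a80106148703d00609280e07600402481b4746e4f00202204989e0000a4827800001306c2c848b46e4d0000e)))
  (.node (.leaf (nat_lit 0x1286d218f8dc0082c94368f8dc960040644941240101491271c8020291864280e07c56350000e1c0ba162f20801010f85c240c06c4e310000e1e0ee572d97002058f0772d0000a1d0ba251119801058e85d0d178ec0080c6d1b19800038da442f004071a464620041a24118b400830590316803068b20e2d0020d164145a00c182c808a4008322c2a7ebc04e004162a7db95f42b00003153f8420080e287a8940183450f91480106899e2e97809c0000c48f71280106891da250060c11061b81d8000101089ee2300409113b4460080a227a4000000444f200000))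
  (.leaf (nat_lit 0x94cfa540183529a34a80106a5342910060c4a6751a004188240a4c00031259ad900303a432e850020cd723b2b8a4580105a3b276fc923c0000d198f4480306a33228d0020d44625120041b98c321c010150c76b31ef380040486c4a1c010250d853f80202a1b1d9c000014363000001086e38decd86b408000760106000007eba000001f2d7710060d3e188ca0041b8f3b592d47b0020b3d5ae8c613b800019ead33daf1dc00008f164b880106e170786000083b58cea0000e76b09a40101eec6ea8d6cea004166aa5cc0ba7500002)))
def tcA_N_0 : Tr := .node (.node (.node (.node (.leaf (nat_lit 2114))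
  (.leaf (nat_lit 6150)))
  (.leaf (nat_lit 225)))
  (.node (.node (.leaf (nat_lit 36900))
  (.leaf (nat_lit 0)))
  (.leaf (nat_lit 132))))
  (.node (.node (.node (.leaf (nat_lit 1057))
  (.leaf (nat_lit 72)))
  (.leaf (nat_lit 8194)))
  (.node (.leaf (nat_lit 268326))
  (.leaf (nat_lit 165))))
def tcA_N_1 : Tr := .node (.node (.node (.node (.leaf (nat_lit 170035362))
  (.leaf (nat_lit 39)))
  (.leaf (nat_lit 258)))
  (.node (.leaf (nat_lit 134275))
  (.leaf (nat_lit 4100))))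
  (.node (.node (.node (.leaf (nat_lit 105569))
  (.leaf (nat_lit 2056)))
  (.leaf (nat_lit 99)))
  (.node (.leaf (nat_lit 211733910725))
  (.leaf (nat_lit 198))))
def tcA_N_2 : Tr := .node (.node (.node (.node (.leaf (nat_lit 68675))
  (.leaf (nat_lit 39)))
  (.leaf (nat_lit 7169)))
  (.node (.leaf (nat_lit 266308))
  (.leaf (nat_lit 132))))
  (.node (.node (.node (.leaf (nat_lit 269377))
  (.leaf (nat_lit 72)))
  (.leaf (nat_lit 99)))
  (.node (.leaf (nat_lit 137318))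
  (.leaf (nat_lit 5125))))
def tcA_N_3 : Tr := .node (.node (.node (.node (.leaf (nat_lit 171084963))
  (.leaf (nat_lit 1031)))
  (.leaf (nat_lit 258)))
  (.node (.leaf (nat_lit 172070019))
  (.leaf (nat_lit 165))))
  (.node (.node (.node (.leaf (nat_lit 171169))
  (.leaf (nat_lit 0)))
  (.leaf (nat_lit 3075)))
  (.node (.leaf (nat_lit 225))
  (.leaf (nat_lit 198))))
def tcA_N : Tr := .node (.node tcA_N_0
  tcA_N_1)
  (.node tcA_N_2
  tcA_N_3)
noncomputable def tcA : TC :=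
  ⟨[.l 0, .l 1, .l 2, .l 3, .l 4, .l 5, .l 6, .l 7, .l 8],
    (nat_lit 7), (nat_lit 9), (nat_lit 2239997518048), (nat_lit 63), (nat_lit 91), (nat_lit 5), (nat_lit 32), (nat_lit 5), (nat_lit 41),
    get (nat_lit 10) (nat_lit 0x400c0400c02010030080400c02010030080400c02010030080400c02010030080801004018040100401004010030180601003), Tr.get tcA_N, get (nat_lit 20) (nat_lit 0x3ff003ff003ff003ff003ff003ff003ff003ff003ff003ff003ff003ff003ff003ff003ff003ff003ff003ff003ff003ff003ff003ff003ff003ff003ff003ff0001200011000100000e0000d0000c0000b0000900008000070000600005000040000300000),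
    Tr.get3 tcA_F (nat_lit 24) (nat_lit 5), Tr.get3 tcA_T (nat_lit 7) (nat_lit 7), Tr.get tcA_P⟩

theorem tcA_head : tcA.headOK relA tcA_iv = true := by decide +kernel

theorem tcA_b0 : allFrom (nat_lit 0) (nat_lit 5) tcA.blockOK = true := by decide +kernel

theorem tcA_blocks : ∀ t < tcA.k, tcA.blockOK t = true :=
  (of_allFrom_append of_lt_zero tcA_b0)

theorem tcA_mem0 {G : Type*} [Group G] {γ : ℕ → G} (hL : Lab γ tcA_iv) (hr : ∀ t ∈ relA, t.ev γ = 1) {K : Subgroup G}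
    (hK : ∀ t ∈ ([.l 1, .l 2, .l 3, .l 4, .l 5] : List W), t.ev γ ∈ K) :
    W.ev γ (.mul (.mul (.mul (.pow (.mul (.mul (.mul (.l 1) (.l 6)) (.l 3)) (.l 5)) 7) (.l 1)) (.inv (.pow (.mul (.mul (.mul (.l 1) (.l 6)) (.l 3)) (.l 5)) 7))) (.inv (.l 1))) ∈ K :=
  TC.mem (D := tcA) hL (List.forall_mem_cons.2 ⟨hL.zero_mem K, hK⟩) hr tcA_head tcA_blocks
    (n := (nat_lit 58)) (w := (nat_lit 0xe730ca730ca730ca730ca730ca730ca730ca128cc128cc128cc128cc128cc128cc128cc1)) (st := (nat_lit 0x16eb701b100ac805b9843141ac96654d2a144d38444ea12fc655fa967f05aff3fdf8ff7f169f1597ad55c74b6a1118534140ab4c99c9069151039c14c90231004b6)) (by decide +kernel) (by decide +kernel)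

theorem tcA_mem1 {G : Type*} [Group G] {γ : ℕ → G} (hL : Lab γ tcA_iv) (hr : ∀ t ∈ relA, t.ev γ = 1) {K : Subgroup G}
    (hK : ∀ t ∈ ([.l 1, .l 2, .l 3, .l 4, .l 5] : List W), t.ev γ ∈ K) :
    W.ev γ (.mul (.mul (.mul (.pow (.mul (.mul (.mul (.l 1) (.l 6)) (.l 3)) (.l 5)) 7) (.l 3)) (.inv (.pow (.mul (.mul (.mul (.l 1) (.l 6)) (.l 3)) (.l 5)) 7))) (.inv (.l 3))) ∈ K :=
  TC.mem (D := tcA) hL (List.forall_mem_cons.2 ⟨hL.zero_mem K, hK⟩) hr tcA_head tcA_blocks
    (n := (nat_lit 58)) (w := (nat_lit 0x6730ca730ca730ca730ca730ca730ca730ca328cc128cc128cc128cc128cc128cc128cc1)) (st := (nat_lit 0x174b701b100ac805b9843141ac96654d2a144d38444ea12fc655fa967f05aff3fdfcff7f169f1597ad55c74b6a1118534140ab4c99c9069151039c14c90231004b6)) (by decide +kernel) (by decide +kernel)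

theorem tcA_mem2 {G : Type*} [Group G] {γ : ℕ → G} (hL : Lab γ tcA_iv) (hr : ∀ t ∈ relA, t.ev γ = 1) {K : Subgroup G}
    (hK : ∀ t ∈ ([.l 1, .l 2, .l 3, .l 4, .l 5] : List W), t.ev γ ∈ K) :
    W.ev γ (.mul (.mul (.mul (.pow (.mul (.mul (.mul (.l 1) (.l 6)) (.l 3)) (.l 5)) 7) (.l 5)) (.inv (.pow (.mul (.mul (.mul (.l 1) (.l 6)) (.l 3)) (.l 5)) 7))) (.inv (.l 5))) ∈ K :=
  TC.mem (D := tcA) hL (List.forall_mem_cons.2 ⟨hL.zero_mem K, hK⟩) hr tcA_head tcA_blocks
    (n := (nat_lit 56)) (w := (nat_lit 0x29cc329cc329cc329cc329cc329cc329cc328cc128cc128cc128cc128cc128cc128cc1)) (st := (nat_lit 0x5f2dc06c402b2016e610c506b2599534a85134e1113a84bf1957ea59fc16bfcff7f169f1597ad55c74b6a1118534140ab4c99c9069151039c14c90231004b6)) (by decide +kernel) (by decide +kernel)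

theorem tcA_mem3 {G : Type*} [Group G] {γ : ℕ → G} (hL : Lab γ tcA_iv) (hr : ∀ t ∈ relA, t.ev γ = 1) {K : Subgroup G}
    (hK : ∀ t ∈ ([.l 1, .l 2, .l 3, .l 4, .l 5] : List W), t.ev γ ∈ K) :
    W.ev γ (.mul (.mul (.mul (.pow (.mul (.mul (.mul (.l 1) (.l 6)) (.l 3)) (.l 5)) 7) (.l 2)) (.inv (.pow (.mul (.mul (.mul (.l 1) (.l 6)) (.l 3)) (.l 5)) 7))) (.inv (.l 2))) ∈ K :=
  TC.mem (D := tcA) hL (List.forall_mem_cons.2 ⟨hL.zero_mem K, hK⟩) hr tcA_head tcA_blocks
    (n := (nat_lit 58)) (w := (nat_lit 0x10730ca730ca730ca730ca730ca730ca730ca228cc128cc128cc128cc128cc128cc128cc1)) (st := (nat_lit 0x172b701b100ac805b9843141ac96654d2a144d38444ea12fc655fa967f05aff3fdfbff7f169f1597ad55c74b6a1118534140ab4c99c9069151039c14c90231004b6)) (by decide +kernel) (by decide +kernel)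

theorem tcA_mem4 {G : Type*} [Group G] {γ : ℕ → G} (hL : Lab γ tcA_iv) (hr : ∀ t ∈ relA, t.ev γ = 1) {K : Subgroup G}
    (hK : ∀ t ∈ ([.l 1, .l 2, .l 3, .l 4, .l 5] : List W), t.ev γ ∈ K) :
    W.ev γ (.mul (.pow (.mul (.mul (.mul (.l 1) (.l 6)) (.l 3)) (.l 5)) 7) (.pow (.mul (.mul (.mul (.l 1) (.l 6)) (.l 3)) (.l 5)) 7)) ∈ K :=
  TC.mem (D := tcA) hL (List.forall_mem_cons.2 ⟨hL.zero_mem K, hK⟩) hr tcA_head tcA_blocks
    (n := (nat_lit 56)) (w := (nat_lit 0x28cc128cc128cc128cc128cc128cc128cc128cc128cc128cc128cc128cc128cc128cc1)) (st := (nat_lit 0x5f2e806c0028242aee13c386243ae5f2fd623be391bb84faa563e659fd16bf8ff7f169f1597ad55c74b6a1118534140ab4c99c9069151039c14c90231004b6)) (by decide +kernel) (by decide +kernel)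

def tcA_loops : List W := [.mul (.mul (.mul (.pow (.mul (.mul (.mul (.l 1) (.l 6)) (.l 3)) (.l 5)) 7) (.l 1)) (.inv (.pow (.mul (.mul (.mul (.l 1) (.l 6)) (.l 3)) (.l 5)) 7))) (.inv (.l 1)), .mul (.mul (.mul (.pow (.mul (.mul (.mul (.l 1) (.l 6)) (.l 3)) (.l 5)) 7) (.l 3)) (.inv (.pow (.mul (.mul (.mul (.l 1) (.l 6)) (.l 3)) (.l 5)) 7))) (.inv (.l 3)), .mul (.mul (.mul (.pow (.mul (.mul (.mul (.l 1) (.l 6)) (.l 3)) (.l 5)) 7) (.l 5)) (.inv (.pow (.mul (.mul (.mul (.l 1) (.l 6)) (.l 3)) (.l 5)) 7))) (.inv (.l 5)), .mul (.mul (.mul (.pow (.mul (.mul (.mul (.l 1) (.l 6)) (.l 3)) (.l 5)) 7) (.l 2)) (.inv (.pow (.mul (.mul (.mul (.l 1) (.l 6)) (.l 3)) (.l 5)) 7))) (.inv (.l 2)), .mul (.pow (.mul (.mul (.mul (.l 1) (.l 6)) (.l 3)) (.l 5)) 7) (.pow (.mul (.mul (.mul (.l 1) (.l 6)) (.l 3)) (.l 5)) 7)]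

theorem tcA_mems {G : Type*} [Group G] {γ : ℕ → G} (hL : Lab γ tcA_iv) (hr : ∀ t ∈ relA, t.ev γ = 1) {K : Subgroup G}
    (hK : ∀ t ∈ ([.l 1, .l 2, .l 3, .l 4, .l 5] : List W), t.ev γ ∈ K) :
    ∀ t ∈ tcA_loops, t.ev γ ∈ K :=
  List.forall_mem_cons.2 ⟨tcA_mem0 hL hr hK,
    List.forall_mem_cons.2 ⟨tcA_mem1 hL hr hK,
    List.forall_mem_cons.2 ⟨tcA_mem2 hL hr hK,
    List.forall_mem_cons.2 ⟨tcA_mem3 hL hr hK,
    List.forall_mem_cons.2 ⟨tcA_mem4 hL hr hK,
    fun _ h => absurd h List.not_mem_nil⟩⟩⟩⟩⟩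

theorem tcA_in {G : Type*} [Group G] {γ : ℕ → G} (h0 : γ 0 = 1) (hr : ∀ t ∈ relA, t.ev γ = 1) {K : Subgroup G}
    (hK : ∀ t ∈ ([.l 1, .l 2, .l 3, .l 4, .l 5] : List W), t.ev γ ∈ K) :
    ∀ t ∈ tcA_loops, t.ev γ ∈ K := by
  have a := lab_of_rels h0 hr (iv := tcA_iv) (labs := tcA_labs) (by decide +kernel)
  exact mems_unfix (by decide +kernel) (tcA_mems a.1 a.2 (mems_fix (by decide +kernel) hK))

/-- inverse letters -/
def tcA1_iv : ℕ := 2239997518048

/-- inverse letters -/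
def tcA1_labs : List W := [.l 0, .l 1, .l 2, .l 3, .l 4, .l 5, .l 6, .inv (.l 1), .inv (.l 2)]

def tcA1_F : Tr := .leaf (nat_lit 0xdb9ae0ee7b4b81772584dc3a9f71d23dd1a0b73ec1a05b2272d45d8949361d83d85aa363e81d8d61b53ea1b4b79751dc3d453a353686a49a12e2e85acf407444c2d0b99713e61a4798ed4662c4d31b32504ccf70731e23a0969311648b45423236269cd91a42484c8b91723ce1c8331f20e27b0329f13606849812f1608acf806f1d63c051a303de18057a2a1d43bc5122f2dc5b1170ac3d21b856a282c05b4361e53566749592a15688cf586a3d4170552222d2595148a52b85a0b39671bc39cf306723c498b31663bc1902d1e4346660919223c6188b19631c638cb11623c415c710e22c257cf08581c237d1089f23a484ee861140870901201b83804ba200be76c8d91f0ac77ced05e2ba56c6e8db43a26cec05d13885c8e11c0b6758ec8522324646c8d9132864ea0592b05586c0d64302588c1182ae55c8b9171ae35c8b1162264546a8d53a6154281d52244506a0d4128850e90541a634ce80531a4348492122a2544889110a2744688d141c244881101a0340e784a21643c648cf11e83ce684f21c4388610c1983390608e09c738849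0d19633446a0d394134261cc316618e584929652c45a0b20a428628ca114828a494939211444a0918c3204220840e220e404820e418239c740821ca314340c20ce304628a51442a05204410a2144088710219c30847088090118230440a01382104a0140200400600c0400200e004046e298db1a526a4947a0e5166890790e4462290381e035e67c5721e35a6791609e0d6770d519b152868d419a24e468730da44a268b21590c675cd1196142854d019543e254af15413a84cce19343624cad1523326444c21032e6410b0902aa53cca18e2a6534c918c422230a814a31e620a714831a61ca6147096714c518431260c8410318e30c4320230a608620c2406208a114130260000000)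
def tcA1_T : Tr := .leaf (nat_lit 0xdf6d74cf2c70beeb6caeaa689e69648e28607de75c6da6585d65544d24503ce34c2ca2481c61440c2040)
def tcA1_P : Tr := .node (.node (.node (.leaf (nat_lit 0xc26432008100c0585c000354c17000050b23c2e00c10164685c0181828080580307051160b0020e0a21c2a00c1aa647a9c00820140709801068490a130060d0803d340001610032280182820934d801050410a1100209062292c000140e4283c0101c1c060480101018087d028340080c0c0d00001062081a0000c0a02008f2030282c0003c1483058030682008813f8140083010043f814120040808418240101c0c830380203010f40500408011d40600c1c023b80c0083804700180306808e6030020d))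
  (.leaf (nat_lit 0x346434c0000e682513400808c44887924ce0040652a819c0001b46643380001188ce0000266cee5400034cd9ad08000519aa65d00006afc625d72d20000618b35a20040a2d54b3a00c1b9ca8944018372d9c3180206d4468e6122e4300e09a991cac0a21d10080585d64be0d26432c614c30926500200321222711248010619091112499400810c953ad00003992a24d004072c548c60080c62a892c0101884413080006e0a6061000092b4ccc200c0d8230800029825e5700607304b48e00c0c401f97c00834a92b2f8030697a52550020e2f49c8a00c1a581e3bc7a5d00203)))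
  (.leaf (nat_lit 0xf88600002427d8ec0002884f71d800030e1ec410060d203e48200c1c407d8e40083880f517803068d9ec3f004061f3ec6e008143e7a8b40101878ed1a800040d84cbd138ec0080c6cea1d800010d876000023a748c4000185ce81c803068e1d6390060e163a06e0080c24118cc0083464dd19803070c9c2330020e1937c6600c1a326d8a40083458205588462004062c6b0c4000085831000011836462000142e100511215108bc0003c5cd717803070b9b22f0020e163645a00814f81534d7c270020c)))
  (.node (.node (.leaf (nat_lit 0x2a68aa5a02b00004153344e000102a6a0840102050c712803070a196290020e1430c5200c1a2862894008344cbf59af84e00008265d8840002048c9128010709172250060d110613c1d6d0010188992230040a112e4460080c22633680000844c4000016b0815eac10801060815a8f560840001028a00f8010687946b70060e0f040260041c1e4e07c018343c9f0d80106b1c309a51074008318c1c0803c32004181c51a501e19000040e28512960c80001871381d004080d0382600c1c1a4d2dc0083834990d803068692e150020d))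
  (.leaf (nat_lit 0x3fe003fe003fe003fe003fe003fe003fe003fe003fe003ffa8d69bc01037479537802031baabb6dd62c0080cdd572c802051bab1c00040637130a6000046edb00000940966d0020dcfe44da00c1a6cb1eff756e911540003cd869df003071b0d7c90020e365c79000c1a6cb0efc008378c5a2c80206e93226b00209351a7756cbf002061a8d3bc0000b351289e00c145228ee00003751abdc0000495abdb800608)))
  (.leaf (nat_lit 0xb05d000012e494a60000c509216c01834b43c140703e2b208000792a4859004061d0e4ae0001b668c15c000248d1b2b80303598ae0000a381b9540083489172a8030692868e51a94c0080c945300001280d048180d89c720001e4e26d56af5a0040c27136ae000164e92558008249834793c47a004184c1a39c6a4d00204244347a00010488a0d401020602f2380006d0a004700009a111c000148d032380304119fe4700607a140e86004102e169140083488fd22801070f854cf1590c0080c60f421800030f9f04300002)))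
def tcA1_N_0 : Tr := .node (.node (.node (.node (.leaf (nat_lit 0x28cc128cc128cc128cc128cc128cc128cc1))
  (.leaf (nat_lit 198)))
  (.leaf (nat_lit 225)))
  (.node (.node (.leaf (nat_lit 171169))
  (.leaf (nat_lit 0)))
  (.leaf (nat_lit 3075))))
  (.node (.node (.node (.leaf (nat_lit 171084963))
  (.leaf (nat_lit 1031)))
  (.leaf (nat_lit 258)))
  (.node (.leaf (nat_lit 172070019))
  (.leaf (nat_lit 165))))
def tcA1_N_1 : Tr := .node (.node (.node (.node (.leaf (nat_lit 68675))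
  (.leaf (nat_lit 39)))
  (.leaf (nat_lit 7169)))
  (.node (.leaf (nat_lit 266308))
  (.leaf (nat_lit 132))))
  (.node (.node (.node (.leaf (nat_lit 269377))
  (.leaf (nat_lit 72)))
  (.leaf (nat_lit 99)))
  (.node (.leaf (nat_lit 137318))
  (.leaf (nat_lit 5125))))
def tcA1_N_2 : Tr := .node (.node (.node (.node (.leaf (nat_lit 2114))
  (.leaf (nat_lit 6150)))
  (.leaf (nat_lit 225)))
  (.node (.node (.leaf (nat_lit 36900))
  (.leaf (nat_lit 0)))
  (.leaf (nat_lit 132))))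
  (.node (.node (.node (.leaf (nat_lit 1057))
  (.leaf (nat_lit 72)))
  (.leaf (nat_lit 8194)))
  (.node (.leaf (nat_lit 268326))
  (.leaf (nat_lit 165))))
def tcA1_N_3 : Tr := .node (.node (.node (.node (.leaf (nat_lit 170035362))
  (.leaf (nat_lit 39)))
  (.leaf (nat_lit 258)))
  (.node (.leaf (nat_lit 134275))
  (.leaf (nat_lit 4100))))
  (.node (.node (.node (.leaf (nat_lit 105569))
  (.leaf (nat_lit 2056)))
  (.leaf (nat_lit 99)))
  (.node (.leaf (nat_lit 211733910725))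
  (.leaf (nat_lit 198))))
def tcA1_N : Tr := .node (.node tcA1_N_0
  tcA1_N_1)
  (.node tcA1_N_2
  tcA1_N_3)
noncomputable def tcA1 : TC :=
  ⟨[.l 0, .l 1, .l 2, .l 3, .l 4, .l 5, .l 6, .l 7, .l 8],
    (nat_lit 6), (nat_lit 9), (nat_lit 2239997518048), (nat_lit 63), (nat_lit 56), (nat_lit 5), (nat_lit 32), (nat_lit 6), (nat_lit 42),
    get (nat_lit 10) (nat_lit 0x1003010030080400c02010030080400c02010030080400c02010030080400c02020040100601004010040100400c060180400c1c), Tr.get tcA1_N, get (nat_lit 20) (nat_lit 0x3ff003ff003ff003ff003ff003ff003ff003ff003ff003ff003ff003ff003ff003ff003ff003ff003ff003ff003ff003ff003ff003ff003ff003ff003ff003ff0001300012000110000f0000e0000d0000c0000a0000900008000070000600005000040000100000),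
    Tr.get3 tcA1_F (nat_lit 22) (nat_lit 5), Tr.get3 tcA1_T (nat_lit 6) (nat_lit 7), Tr.get tcA1_P⟩

theorem tcA1_head : tcA1.headOK relA1 tcA1_iv = true := by decide +kernel

theorem tcA1_b0 : allFrom (nat_lit 0) (nat_lit 6) tcA1.blockOK = true := by decide +kernel

def tcA1_Q6 : Tr := .leaf (nat_lit 0xf29b791bfd66773f8f2ff90b7c9b79577c51cf6b4d99ca79171c412f16adc392a140674e1791080291c094642e0f8a036245b854261e0d2d81614090280602)
theorem tcA1_f6_0 : allFrom (nat_lit 0) (nat_lit 56) (tcA1.finOK (nat_lit 56) (Tr.get3 tcA1_Q6 (nat_lit 9) (nat_lit 6)) (nat_lit 6)) = true := by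
  decide +kernel

def tcA1_Q5 : Tr := .leaf (nat_lit 0xf074b89bbdae6369e1e2deee57add74ec75eae552c449a45127f739f0f6475f910d4910b81428563c138d1c421150744c1959081501c0c2551c884a0140878)
theorem tcA1_f5_0 : allFrom (nat_lit 0) (nat_lit 56) (tcA1.finOK (nat_lit 56) (Tr.get3 tcA1_Q5 (nat_lit 9) (nat_lit 6)) (nat_lit 5)) = true := by
  decide +kernel

def tcA1_Q4 : Tr := .leaf (nat_lit 0xef740d7bdd566b498dc66f34bdfb6db3a3ab27d58d59ba6d326d309455e6f189493a2504803f1f4f27dbcdc0d86932980c869ab982114da695e8a0822d0076)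
theorem tcA1_f4_0 : allFrom (nat_lit 0) (nat_lit 56) (tcA1.finOK (nat_lit 56) (Tr.get3 tcA1_Q4 (nat_lit 9) (nat_lit 6)) (nat_lit 4)) = true := by
  decide +kernel

def tcA1_Q3 : Tr := .leaf (nat_lit 0xed73b8469d89974f86bf70f61cfc3dffb7a6ad134d064a3502772e9d56e432f9013221097f421f0f075399b8d6683197cc75fab1a2a207a8d5a0907020fc74)
theorem tcA1_f3_0 : allFrom (nat_lit 0) (nat_lit 56) (tcA1.finOK (nat_lit 56) (Tr.get3 tcA1_Q3 (nat_lit 9) (nat_lit 6)) (nat_lit 3)) = true := by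
  decide +kernel

def tcA1_Q2 : Tr := .leaf (nat_lit 0xec7579bb633e8f5d8bc0976eb78b5d94a7a1e09bac062c2df487339c160771b8f12a1e3196c187cef1b395b42c67b117a2258aad4a9e4b0351aa149018fa72)
theorem tcA1_f2_0 : allFrom (nat_lit 0) (nat_lit 56) (tcA1.finOK (nat_lit 56) (Tr.get3 tcA1_Q2 (nat_lit 9) (nat_lit 6)) (nat_lit 2)) = true := by
  decide +kernel

def tcA1_Q1 : Tr := .leaf (nat_lit 0xf1f2bbbb8d465b2661c45db8d712bda365d6ac657235223d2a698295c9239668bd46193ca149decec74451bef56630d74b90bb51689c4ca414c8742a0cf470)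
theorem tcA1_f1_0 : allFrom (nat_lit 0) (nat_lit 56) (tcA1.finOK (nat_lit 56) (Tr.get3 tcA1_Q1 (nat_lit 9) (nat_lit 6)) (nat_lit 1)) = true := by
  decide +kernel

theorem tcA1_blocks : ∀ t < tcA1.k, tcA1.blockOK t = true :=
  (of_allFrom_append of_lt_zero tcA1_b0)

/-- index 56 max 56 total 56 facts 243 | needed cosets 56 facts 243 steps 631 trivial 0 -/
theorem tcA1_index {G : Type*} [Group G] {γ : ℕ → G} (hL : Lab γ tcA1_iv) (hr : ∀ t ∈ relA1, t.ev γ = 1) {K : Subgroup G}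
    (hK : ∀ t ∈ ([.l 1, .l 2, .l 3, .l 4, .l 5] : List W), t.ev γ ∈ K) :
    K.relIndex (genW γ [.l 1, .l 2, .l 3, .l 4, .l 5, .l 6]) ≠ 0 ∧ K.relIndex (genW γ [.l 1, .l 2, .l 3, .l 4, .l 5, .l 6]) ≤ 56 :=
  TC.relIndex_le (D := tcA1) (gens := [1, 2, 3, 4, 5, 6]) hL (List.forall_mem_cons.2 ⟨hL.zero_mem K, hK⟩) hr tcA1_head tcA1_blocks (by decide) (by decide)
   (List.forall_mem_cons.2 ⟨⟨_, (of_allFrom_append of_lt_zero tcA1_f1_0)⟩,
    List.forall_mem_cons.2 ⟨⟨_, (of_allFrom_append of_lt_zero tcA1_f2_0)⟩,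
    List.forall_mem_cons.2 ⟨⟨_, (of_allFrom_append of_lt_zero tcA1_f3_0)⟩,
    List.forall_mem_cons.2 ⟨⟨_, (of_allFrom_append of_lt_zero tcA1_f4_0)⟩,
    List.forall_mem_cons.2 ⟨⟨_, (of_allFrom_append of_lt_zero tcA1_f5_0)⟩,
    List.forall_mem_cons.2 ⟨⟨_, (of_allFrom_append of_lt_zero tcA1_f6_0)⟩,
    fun _ h => absurd h List.not_mem_nil⟩⟩⟩⟩⟩⟩)

theorem tcA1_idx {G : Type*} [Group G] {γ : ℕ → G} (h0 : γ 0 = 1) (hr : ∀ t ∈ relA1, t.ev γ = 1) {K : Subgroup G}
    (hK : ∀ t ∈ ([.l 1, .l 2, .l 3, .l 4, .l 5] : List W), t.ev γ ∈ K) :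
    K.relIndex (genW γ [.l 1, .l 2, .l 3, .l 4, .l 5, .l 6]) ≠ 0 ∧ K.relIndex (genW γ [.l 1, .l 2, .l 3, .l 4, .l 5, .l 6]) ≤ 56 := by
  have a := lab_of_rels h0 hr (iv := tcA1_iv) (labs := tcA1_labs) (by decide +kernel)
  have b := tcA1_index a.1 a.2 (mems_fix (by decide +kernel) hK)
  rwa [genW_fix (by decide +kernel)] at b

/-- further relators of `S₈` -/
def relB0 : List W := [.mul (.l 8) (.l 8), .mul (.mul (.mul (.l 8) (.l 1)) (.l 8)) (.inv (.l 2)), .mul (.mul (.mul (.l 8) (.l 3)) (.l 8)) (.l 4), .pow (.mul (.mul (.mul (.mul (.mul (.l 5) (.l 8)) (.l 3)) (.l 5)) (.l 3)) (.l 8)) 2]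

/-- relators of `S₈` -/
def relB : List W := relN ++ relB0

/-- inverse letters -/
def tcB_iv : ℕ := 2296027411491104

/-- inverse letters -/
def tcB_labs : List W := [.l 0, .l 1, .l 2, .l 3, .l 4, .l 5, .l 0, .l 0, .l 8, .inv (.l 1), .inv (.l 2)]

def tcB_F : Tr := .leaf (nat_lit 0x2e42e41e41e41645644e40e42632631e31e35631630e34e316255f2602621e01e215e5624e20e246146025b2612e12e14dd0e12e02e056015a2df2de1da1df1d91de45d4591d81dd45a45c25825c55b15b4d80db0d74db55a1594d60d01565552562561d61d61545564d10d645544d2d42d54ce0d41d31d255315244a4531495522502511d11d11d01d00cf4cd24f24f0cb4cf1cf1cf54714f2ce2cc1cc1ce54d14554414b2c12ca1ca1ca2c92c91c91c91c81c80c04c82472471c61c75461472462464c50c60c24c62452425451432432441c21c45421441bc1c12402401c01c04bf0b31bb1bf43b43e4be0b81b41be13253e43d43c23d2344b90bd0b54bd53213d4af0bc2bb2bb53b1302b72ba4ba0ab1b01ba1b91aa42e43922923943843022a2381a91b84b70a81ad1b743642d1ac1b612753623522c5261352b42b14b40a922f2331af1b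343242f2242322b22b24a70b20b14aa0a54b153012d0a34b02af2af52f1230a14ad2ab2a81a31ab2a92a51a11a84274212a72a719f1a742342621f2262a62a649f0a409e4a45231214a209c52212041b4224a009911a52049d09621d21d19d19d11d51d49709d19c19951c11941441c11451b29a29a49a09311351909249821621719719719619611651621521509549519519550f11528c29419419429329319319319119108b49129029018919020f20f20d20d18d18f50d10f28e28e18c18e48a08e08d48d40c40620b20b18b18b28a28a20520a18518a4890851861881045082072060874875041072862832022042842840834830824822012011811811015014810812802802002001801805001004800804644632e32e246245b1e11db16055945f45845e45725d2571dc1d72db2d62da2d32d92d22d82d12d72d045644f0d54cc45444b15354945244845144745044654f14644e44414d54344c44354b1420ca4c04494402c82bf2c72be2c62bd2c52b92c42b82c32b62c22b50c14b32c02b343f43123e2311bd1b113c52e13b52d43a42a1395275381264374252362251b51a51345244334241b21a45311242b02a212f5210ae4a12ad2a012c51f42b41f52a11f12951e42841e22721e1a619e52511e2a429d2a329c12251a2a129942041829f29729e29641d41511c51309b49241a41241941151811141740f41640d51510d09448b41340b51210b29128941040828f28840e40728d28708c48528b28540a404409403208203187183106502405402184182503102282281401400000000)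
def tcB_T : Tr := .leaf (nat_lit 0x64c78b0e0bf7aedcb76acd8af5aad4a74a8d09f3a6cc972a4c88f1a2c4870a0c07ef9ebc76e9cb86ed9ab466c98b05eb96ac56a94a84e992a446890a03e78e9c3668c982e58a9426488901e3868c16284880e182840608080)
def tcB_P : Tr := .node (.node (.node (.leaf (nat_lit 0x88f005c0101c203bce403c1d4141c038e53b8210000e0801004c0083509068ea3b81f0020b4201e0400f06c0082c1e3bce403c1b00003078ed384e606c00009013d90000607070ea3f4008341c39c150020c068e906c0101c0c02c190000c3e0163d0f305c0082c163c8f73cc170000305008010d9008d300cd90140905400038140200b0060d050e302c008340a01c130020c0400f3a80002810018e200609030e2398000240e37c0f00406038060240080406010d70140d002020200436cd90140082c08010d90140900203018dd01c01014043500500407008cf00c0183402344030020d008ca00c0183002334030020c))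
  (.leaf (nat_lit 0x268992ac00030aa7d60e006072a1ef2740083207798a70000181ca7000002989225400030a478c930060c289df28401834a2784a30020d281db28400835f07609f00405279db27c010249e75c9700405279de7d8000049e77000001f227088671a46a59564c87265f20060e271d126400835d226c000009673000000942008300607251c725401819e624880198655f46419c8124de70060e249c924c008349070dad7089100003241c42040101ddf231b66f08f0020b239bd6207b2340000c8e6ed7d6c08d0000275dd5760000208c6d48b00007231b32140101dce2219b68c8b0020b)))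
  (.node (.leaf (nat_lit 0x16d58d8e0040c1b06b630000286c1284f006091615a628000246a1284d0020118848504491a4008085255069000051986560001834665f9800020d179635e800030641214550c490020b1904850c491940080c6455d5e000061515618c01014625544b00405169494d045184000086054047004075b8464e84317c008095217c000005a5284300407594424f4475a00080c565695d0020d1283c49c3d14c008085013d620020d10832450224382007c2f4a83f578008384e1355956d5e0040b1384d56c000284c0f1290b01a075034711b4e04700a0e1303c4b12b0fc0082c4c0f1290f44d002031213f0fc0001c485183d00407))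
  (.leaf (nat_lit 0x1ff001ff001ff001ff001ff001ff001ff001ff001ff001ff001ff001ff001ff001ff001ff001ff001ff001ff001ff001ff001ff001ff001ff001ff001ff001ff001ff001ff960c8318c430e3d308c531cc996401838c894cc90020d3224d32401830c893cc90020c))))
  (.node (.node (.leaf (nat_lit 0x424c5180e447000020e133114000154911400000440d0370000c0c83110400830404bc350060c0b02b0ec008303a4843b0060d0e9250ec008343a48c3b0060c0e91f0bc008313145839000014c439000000e0260a4000303609029006054c9194cc0081c26094350020c0c91309c018303044c25004050b9090b4018342e4342f0020d0b10b0b4008342c3fc2d0060c0a90b0ac010242a3fc2b004050a908478000042a418000002805819006070a0f90a4018191609816028093840802c1709d170060e098fb09c00834224391143c2300003))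
  (.leaf (nat_lit 0x25031a49918c70020b31a478e64631c0000cc69163592cc70000231a4231c0101cbe890c50060c310c390001834c48fa400020d312232f401830c489cc50020c3022f8e800030c22da1b864b70020b308b6864b730c0080cc28962c000068d8b4828b33040080a2030400002312ca0d2d632002032fa288ac00834bc2ee2e0020d2c8a47909070dc023ca3808b18b000838ba2e6290000a2e0ae804a0231b8729ec7ae082d402838b82ba0480cb10020b2da178421d2dc00008b6854b1000072da1e2bc0101cb281de829cb5000022809f2b400832127fcad0060c2b1f92b401834ac7f4ad0020d2b1fb2a401830ac7dca30020c)))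
  (.leaf (nat_lit 0x8663d601cc8b0000273c846319021c0082c88665661ac8500003220705658a214000088260dae0060671880615822040082c8060d716088100003198631fc008307e1f5c10020d6f99c6ac010319b5e47d002081f07b6d8000287c1897e006091e1a06d00003186679b4000081e97868c000187a5dc6b004061e86219400804781705f000056a8605385b1dc00809741dc00001a65a99700207158551d400830746699c0020d1515e1cc00004725885d0000c1c84e14c0002573570710040c1c15b154010247013053000011404b1bc008306e1b5920020d)))
def tcB_N_0 : Tr := .node (.node (.node (.node (.leaf (nat_lit 2114))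
  (.leaf (nat_lit 6150)))
  (.leaf (nat_lit 289)))
  (.node (.node (.leaf (nat_lit 36900))
  (.leaf (nat_lit 41)))
  (.leaf (nat_lit 132))))
  (.node (.node (.node (.leaf (nat_lit 1057))
  (.leaf (nat_lit 264)))
  (.leaf (nat_lit 10242)))
  (.node (.node (.leaf (nat_lit 335912))
  (.leaf (nat_lit 2058)))
  (.leaf (nat_lit 165))))
def tcB_N_1 : Tr := .node (.node (.node (.node (.leaf (nat_lit 170035362))
  (.leaf (nat_lit 231)))
  (.leaf (nat_lit 322)))
  (.node (.node (.leaf (nat_lit 134275))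
  (.leaf (nat_lit 74)))
  (.leaf (nat_lit 4100))))
  (.node (.node (.node (.leaf (nat_lit 107617))
  (.leaf (nat_lit 8200)))
  (.leaf (nat_lit 99)))
  (.node (.node (.leaf (nat_lit 0x40ca34150328d05))
  (.leaf (nat_lit 0)))
  (.leaf (nat_lit 198))))
def tcB_N_2 : Tr := .node (.node (.node (.node (.leaf (nat_lit 68675))
  (.leaf (nat_lit 231)))
  (.leaf (nat_lit 9217)))
  (.node (.node (.leaf (nat_lit 331844))
  (.leaf (nat_lit 1033)))
  (.leaf (nat_lit 132))))
  (.node (.node (.node (.leaf (nat_lit 336961))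
  (.leaf (nat_lit 264)))
  (.leaf (nat_lit 99)))
  (.node (.node (.leaf (nat_lit 139368))
  (.leaf (nat_lit 0)))
  (.leaf (nat_lit 5125))))
def tcB_N_3 : Tr := .node (.node (.node (.node (.leaf (nat_lit 171084963))
  (.leaf (nat_lit 7175)))
  (.leaf (nat_lit 322)))
  (.node (.node (.leaf (nat_lit 172070019))
  (.leaf (nat_lit 74)))
  (.leaf (nat_lit 165))))
  (.node (.node (.node (.leaf (nat_lit 173217))
  (.leaf (nat_lit 41)))
  (.leaf (nat_lit 3075)))
  (.node (.leaf (nat_lit 289))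
  (.leaf (nat_lit 198))))
def tcB_N : Tr := .node (.node tcB_N_0
  tcB_N_1)
  (.node tcB_N_2
  tcB_N_3)
noncomputable def tcB : TC :=
  ⟨[.l 0, .l 1, .l 2, .l 3, .l 4, .l 5, .l 6, .l 7, .l 8, .l 9, .l 10],
    (nat_lit 7), (nat_lit 10), (nat_lit 0x828398a41a920), (nat_lit 63), (nat_lit 101), (nat_lit 5), (nat_lit 32), (nat_lit 7), (nat_lit 47),
    get (nat_lit 10) (nat_lit 0x400c0400c02010030080400c02010030080400c02010030080400c02010030080400c02010030080c01004018040100401004010030180601003), Tr.get tcB_N, get (nat_lit 20) (nat_lit 0x3ff003ff003ff003ff003ff003ff003ff003ff003ff003ff003ff003ff003ff003ff003ff003ff003ff003ff003ff003ff003ff003ff003ff003ff003ff003ff003ff003ff003ff003ff003ff003ff0001200011000100000e0000d0000c0000b0000900008000070000600005000040000300000),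
    Tr.get3 tcB_F (nat_lit 24) (nat_lit 5), Tr.get3 tcB_T (nat_lit 7) (nat_lit 7), Tr.get tcB_P⟩

theorem tcB_head : tcB.headOK relB tcB_iv = true := by decide +kernel

theorem tcB_b0 : allFrom (nat_lit 0) (nat_lit 7) tcB.blockOK = true := by decide +kernel

theorem tcB_blocks : ∀ t < tcB.k, tcB.blockOK t = true :=
  (of_allFrom_append of_lt_zero tcB_b0)

theorem tcB_mem0 {G : Type*} [Group G] {γ : ℕ → G} (hL : Lab γ tcB_iv) (hr : ∀ t ∈ relB, t.ev γ = 1) {K : Subgroup G}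
    (hK : ∀ t ∈ ([.l 1, .l 2, .l 3, .l 4, .l 5] : List W), t.ev γ ∈ K) :
    W.ev γ (.mul (.mul (.mul (.mul (.mul (.mul (.mul (.mul (.mul (.mul (.mul (.mul (.mul (.mul (.mul (.mul (.mul (.mul (.mul (.mul (.mul (.mul (.mul (.mul (.l 1) (.l 2)) (.l 3)) (.l 8)) (.l 5)) (.inv (.l 2))) (.l 8)) (.l 5)) (.l 2)) (.l 8)) (.l 5)) (.l 2)) (.l 8)) (.l 5)) (.inv (.l 2))) (.l 8)) (.l 5)) (.inv (.l 2))) (.l 8)) (.l 5)) (.l 8)) (.l 5)) (.l 1)) (.inv (.mul (.mul (.mul (.mul (.mul (.mul (.mul (.mul (.mul (.mul (.mul (.mul (.mul (.mul (.mul (.mul (.mul (.mul (.mul (.mul (.mul (.l 1) (.l 2)) (.l 3)) (.l 8)) (.l 5)) (.inv (.l 2))) (.l 8)) (.l 5)) (.l 2)) (.l 8)) (.l 5)) (.l 2)) (.l 8)) (.l 5)) (.inv (.l 2))) (.l 8)) (.l 5)) (.inv (.l 2))) (.l 8)) (.l 5)) (.l 8)) (.l 5)))) (.inv (.l 1))) ∈ K :=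
  TC.mem (D := tcB) hL (List.forall_mem_cons.2 ⟨hL.zero_mem K, hK⟩) hr tcB_head tcB_blocks
    (n := (nat_lit 46)) (w := (nat_lit 0x12950d05120aa4154828905120a8284a82a145428a8115022a14540c41)) (st := (nat_lit 0x32ccb334ce00c05034fd47136530616adc023df62b4b7898c531cc996a54968c8318c489cb62b1f7239c16a86053537474fc03004008ce330ca)) (by decide +kernel) (by decide +kernel)

theorem tcB_mem1 {G : Type*} [Group G] {γ : ℕ → G} (hL : Lab γ tcB_iv) (hr : ∀ t ∈ relB, t.ev γ = 1) {K : Subgroup G}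
    (hK : ∀ t ∈ ([.l 1, .l 2, .l 3, .l 4, .l 5] : List W), t.ev γ ∈ K) :
    W.ev γ (.mul (.mul (.mul (.mul (.mul (.mul (.mul (.mul (.mul (.mul (.mul (.mul (.mul (.mul (.mul (.mul (.mul (.mul (.mul (.mul (.mul (.mul (.mul (.mul (.l 1) (.l 2)) (.l 3)) (.l 8)) (.l 5)) (.inv (.l 2))) (.l 8)) (.l 5)) (.l 2)) (.l 8)) (.l 5)) (.l 2)) (.l 8)) (.l 5)) (.inv (.l 2))) (.l 8)) (.l 5)) (.inv (.l 2))) (.l 8)) (.l 5)) (.l 8)) (.l 5)) (.l 2)) (.inv (.mul (.mul (.mul (.mul (.mul (.mul (.mul (.mul (.mul (.mul (.mul (.mul (.mul (.mul (.mul (.mul (.mul (.mul (.mul (.mul (.mul (.l 1) (.l 2)) (.l 3)) (.l 8)) (.l 5)) (.inv (.l 2))) (.l 8)) (.l 5)) (.l 2)) (.l 8)) (.l 5)) (.l 2)) (.l 8)) (.l 5)) (.inv (.l 2))) (.l 8)) (.l 5)) (.inv (.l 2))) (.l 8)) (.l 5)) (.l 8)) (.l 5)))) (.inv (.l 2))) ∈ K :=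
  TC.mem (D := tcB) hL (List.forall_mem_cons.2 ⟨hL.zero_mem K, hK⟩) hr tcB_head tcB_blocks
    (n := (nat_lit 46)) (w := (nat_lit 0x14950d05120aa4154828905120a8288a82a145428a8115022a14540c41)) (st := (nat_lit 0x334cb334ce00c05034fd47136530616adc023df62b4b7898c531cc996a57968c8318c489cb62b1f7239c16a86053537474fc03004008ce330ca)) (by decide +kernel) (by decide +kernel)

theorem tcB_mem2 {G : Type*} [Group G] {γ : ℕ → G} (hL : Lab γ tcB_iv) (hr : ∀ t ∈ relB, t.ev γ = 1) {K : Subgroup G}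
    (hK : ∀ t ∈ ([.l 1, .l 2, .l 3, .l 4, .l 5] : List W), t.ev γ ∈ K) :
    W.ev γ (.mul (.mul (.mul (.mul (.mul (.mul (.mul (.mul (.mul (.mul (.mul (.mul (.mul (.mul (.mul (.mul (.mul (.mul (.mul (.mul (.mul (.mul (.mul (.mul (.l 1) (.l 2)) (.l 3)) (.l 8)) (.l 5)) (.inv (.l 2))) (.l 8)) (.l 5)) (.l 2)) (.l 8)) (.l 5)) (.l 2)) (.l 8)) (.l 5)) (.inv (.l 2))) (.l 8)) (.l 5)) (.inv (.l 2))) (.l 8)) (.l 5)) (.l 8)) (.l 5)) (.l 5)) (.inv (.mul (.mul (.mul (.mul (.mul (.mul (.mul (.mul (.mul (.mul (.mul (.mul (.mul (.mul (.mul (.mul (.mul (.mul (.mul (.mul (.mul (.l 1) (.l 2)) (.l 3)) (.l 8)) (.l 5)) (.inv (.l 2))) (.l 8)) (.l 5)) (.l 2)) (.l 8)) (.l 5)) (.l 2)) (.l 8)) (.l 5)) (.inv (.l 2))) (.l 8)) (.l 5)) (.inv (.l 2))) (.l 8)) (.l 5)) (.l 8)) (.l 5)))) (.inv (.mul (.mul (.l 3) (.l 5)) (.inv (.l 3))))) ∈ K :=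
  TC.mem (D := tcB) hL (List.forall_mem_cons.2 ⟨hL.zero_mem K, hK⟩) hr tcB_head tcB_blocks
    (n := (nat_lit 46)) (w := (nat_lit 0x651a543414482a905520a2414482a0a82a145428a8115022a14540c41)) (st := (nat_lit 0x338d2338cb334ce00c05034fd47136530616adc023df62b4b7898c531cc9968c8318c489cb62b1f7239c16a86053537474fc03004008ce330ca)) (by decide +kernel) (by decide +kernel)

def tcB_loops : List W := [.mul (.mul (.mul (.mul (.mul (.mul (.mul (.mul (.mul (.mul (.mul (.mul (.mul (.mul (.mul (.mul (.mul (.mul (.mul (.mul (.mul (.mul (.mul (.mul (.l 1) (.l 2)) (.l 3)) (.l 8)) (.l 5)) (.inv (.l 2))) (.l 8)) (.l 5)) (.l 2)) (.l 8)) (.l 5)) (.l 2)) (.l 8)) (.l 5)) (.inv (.l 2))) (.l 8)) (.l 5)) (.inv (.l 2))) (.l 8)) (.l 5)) (.l 8)) (.l 5)) (.l 1)) (.inv (.mul (.mul (.mul (.mul (.mul (.mul (.mul (.mul (.mul (.mul (.mul (.mul (.mul (.mul (.mul (.mul (.mul (.mul (.mul (.mul (.mul (.l 1) (.l 2)) (.l 3)) (.l 8)) (.l 5)) (.inv (.l 2))) (.l 8)) (.l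 5)) (.l 2)) (.l 8)) (.l 5)) (.l 2)) (.l 8)) (.l 5)) (.inv (.l 2))) (.l 8)) (.l 5)) (.inv (.l 2))) (.l 8)) (.l 5)) (.l 8)) (.l 5)))) (.inv (.l 1)), .mul (.mul (.mul (.mul (.mul (.mul (.mul (.mul (.mul (.mul (.mul (.mul (.mul (.mul (.mul (.mul (.mul (.mul (.mul (.mul (.mul (.mul (.mul (.mul (.l 1) (.l 2)) (.l 3)) (.l 8)) (.l 5)) (.inv (.l 2))) (.l 8)) (.l 5)) (.l 2)) (.l 8)) (.l 5)) (.l 2)) (.l 8)) (.l 5)) (.inv (.l 2))) (.l 8)) (.l 5)) (.inv (.l 2))) (.l 8)) (.l 5)) (.l 8)) (.l 5)) (.l 2)) (.inv (.mul (.mul (.mul (.mul (.mul (.mul (.mul (.mul (.mul (.mul (.mul (.mul (.mul (.mul (.mul (.mul (.mul (.mul (.mul (.mul (.mul (.l 1) (.l 2)) (.l 3)) (.l 8)) (.l 5)) (.inv (.l 2))) (.l 8)) (.l 5)) (.l 2)) (.l 8)) (.l 5)) (.l 2)) (.l 8)) (.l 5)) (.inv (.l 2))) (.l 8)) (.l 5)) (.inv (.l 2))) (.l 8)) (.l 5)) (.l 8)) (.l 5)))) (.inv (.l 2)), .mul (.mul (.mul (.mul (.mul (.mul (.mul (.mul (.mul (.mul (.mul (.mul (.mul (.mul (.mul (.mul (.mul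 (.mul (.mul (.mul (.mul (.mul (.mul (.mul (.l 1) (.l 2)) (.l 3)) (.l 8)) (.l 5)) (.inv (.l 2))) (.l 8)) (.l 5)) (.l 2)) (.l 8)) (.l 5)) (.l 2)) (.l 8)) (.l 5)) (.inv (.l 2))) (.l 8)) (.l 5)) (.inv (.l 2))) (.l 8)) (.l 5)) (.l 8)) (.l 5)) (.l 5)) (.inv (.mul (.mul (.mul (.mul (.mul (.mul (.mul (.mul (.mul (.mul (.mul (.mul (.mul (.mul (.mul (.mul (.mul (.mul (.mul (.mul (.mul (.l 1) (.l 2)) (.l 3)) (.l 8)) (.l 5)) (.inv (.l 2))) (.l 8)) (.l 5)) (.l 2)) (.l 8)) (.l 5)) (.l 2)) (.l 8)) (.l 5)) (.inv (.l 2))) (.l 8)) (.l 5)) (.inv (.l 2))) (.l 8)) (.l 5)) (.l 8)) (.l 5)))) (.inv (.mul (.mul (.l 3) (.l 5)) (.inv (.l 3))))]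

theorem tcB_mems {G : Type*} [Group G] {γ : ℕ → G} (hL : Lab γ tcB_iv) (hr : ∀ t ∈ relB, t.ev γ = 1) {K : Subgroup G}
    (hK : ∀ t ∈ ([.l 1, .l 2, .l 3, .l 4, .l 5] : List W), t.ev γ ∈ K) :
    ∀ t ∈ tcB_loops, t.ev γ ∈ K :=
  List.forall_mem_cons.2 ⟨tcB_mem0 hL hr hK,
    List.forall_mem_cons.2 ⟨tcB_mem1 hL hr hK,
    List.forall_mem_cons.2 ⟨tcB_mem2 hL hr hK,
    fun _ h => absurd h List.not_mem_nil⟩⟩⟩

theorem tcB_in {G : Type*} [Group G] {γ : ℕ → G} (h0 : γ 0 = 1) (hr : ∀ t ∈ relB, t.ev γ = 1) {K : Subgroup G}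
    (hK : ∀ t ∈ ([.l 1, .l 2, .l 3, .l 4, .l 5] : List W), t.ev γ ∈ K) :
    ∀ t ∈ tcB_loops, t.ev γ ∈ K := by
  have a := lab_of_rels h0 hr (iv := tcB_iv) (labs := tcB_labs) (by decide +kernel)
  exact mems_unfix (by decide +kernel) (tcB_mems a.1 a.2 (mems_fix (by decide +kernel) hK))

/-- the swap -/
def relS1 : List W := [.mul (.l 6) (.l 6), .mul (.mul (.mul (.l 6) (.l 1)) (.l 6)) (.inv (.l 2)), .pow (.mul (.l 6) (.l 7)) 2]

/-- relators -/
def relS8 : List W := relN2 ++ relS1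

/-- inverse letters -/
def tcS_iv : ℕ := 71715388499200

/-- inverse letters -/
def tcS_labs : List W := [.l 0, .l 1, .l 2, .l 3, .l 4, .l 5, .l 6, .l 7, .inv (.l 1), .inv (.l 2)]

def tcS_F : Tr := .leaf (nat_lit 0x2cb34d2491c74c544330c28a2081864844023ce000)
def tcS_T : Tr := .leaf (nat_lit 2)
def tcS_P : Tr := .leaf (nat_lit 0x1ff001ff001ff001ff001ff001ff001ff001ff001ff001ff001ff001ff001ff001ff001ff001ff001ff001ff001ff001ff001ff001ff001ff001ff001ff001ff042c6832e008200878300012042c18010782120c00838107060041a082830020c)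
def tcS_N_0 : Tr := .node (.node (.node (.node (.leaf (nat_lit 2114))
  (.leaf (nat_lit 165)))
  (.leaf (nat_lit 175248612)))
  (.node (.node (.leaf (nat_lit 36900))
  (.leaf (nat_lit 40)))
  (.leaf (nat_lit 9218))))
  (.node (.node (.node (.leaf (nat_lit 1057))
  (.leaf (nat_lit 6150)))
  (.leaf (nat_lit 257)))
  (.node (.node (.leaf (nat_lit 269351))
  (.leaf (nat_lit 73)))
  (.leaf (nat_lit 132))))
def tcS_N_1 : Tr := .node (.node (.node (.node (.leaf (nat_lit 170035362))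
  (.leaf (nat_lit 198)))
  (.leaf (nat_lit 235750)))
  (.node (.node (.leaf (nat_lit 134275))
  (.leaf (nat_lit 1032)))
  (.leaf (nat_lit 99))))
  (.node (.node (.node (.leaf (nat_lit 106593))
  (.leaf (nat_lit 231)))
  (.leaf (nat_lit 290)))
  (.node (.node (.leaf (nat_lit 105575))
  (.leaf (nat_lit 0)))
  (.leaf (nat_lit 4100))))
def tcS_N_2 : Tr := .node (.node (.node (.node (.leaf (nat_lit 68675))
  (.leaf (nat_lit 5125)))
  (.leaf (nat_lit 301094)))
  (.node (.node (.leaf (nat_lit 299076))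
  (.leaf (nat_lit 40)))
  (.leaf (nat_lit 99))))
  (.node (.node (.node (.leaf (nat_lit 303169))
  (.leaf (nat_lit 231)))
  (.leaf (nat_lit 8193)))
  (.node (.node (.leaf (nat_lit 302151))
  (.leaf (nat_lit 2057)))
  (.leaf (nat_lit 132))))
def tcS_N_3 : Tr := .node (.node (.node (.node (.leaf (nat_lit 171084963))
  (.leaf (nat_lit 198)))
  (.leaf (nat_lit 257)))
  (.node (.node (.leaf (nat_lit 172070019))
  (.leaf (nat_lit 73)))
  (.leaf (nat_lit 3075))))
  (.node (.node (.node (.leaf (nat_lit 172193))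
  (.leaf (nat_lit 7175)))
  (.leaf (nat_lit 290)))
  (.node (.node (.leaf (nat_lit 138375))
  (.leaf (nat_lit 0)))
  (.leaf (nat_lit 165))))
def tcS_N : Tr := .node (.node tcS_N_0
  tcS_N_1)
  (.node tcS_N_2
  tcS_N_3)
noncomputable def tcS : TC :=
  ⟨[.l 0, .l 1, .l 2, .l 3, .l 4, .l 5, .l 6, .l 7, .l 8, .l 9],
    (nat_lit 1), (nat_lit 7), (nat_lit 71715388499200), (nat_lit 127), (nat_lit 2), (nat_lit 6), (nat_lit 32), (nat_lit 1), (nat_lit 48),
    get (nat_lit 10) (nat_lit 0x1003010030080400c02010030080400c02010030080400c02010030080400c020100300804010060100401004018040100401004010030180601003), Tr.get tcS_N, get (nat_lit 20) (nat_lit 0x3ff003ff003ff003ff003ff003ff003ff003ff003ff003ff003ff003ff003ff003ff003ff003ff003ff003ff003ff003ff003ff003ff003ff003ff003ff003ff003ff003ff003ff000170001600014000130001200011000100000e0000d0000c0000b0000900008000070000600005000040000300000),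
    Tr.get3 tcS_F (nat_lit 12) (nat_lit 6), Tr.get3 tcS_T (nat_lit 1) (nat_lit 9), Tr.get tcS_P⟩

theorem tcS_head : tcS.headOK relS8 tcS_iv = true := by decide +kernel

theorem tcS_b0 : allFrom (nat_lit 0) (nat_lit 1) tcS.blockOK = true := by decide +kernel

def tcS_Q7 : Tr := .leaf (nat_lit 14)
theorem tcS_f7_0 : allFrom (nat_lit 0) (nat_lit 2) (tcS.finOK (nat_lit 2) (Tr.get3 tcS_Q7 (nat_lit 2) (nat_lit 8)) (nat_lit 7)) = true := by
  decide +kernel

def tcS_Q6 : Tr := .leaf (nat_lit 782)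
theorem tcS_f6_0 : allFrom (nat_lit 0) (nat_lit 2) (tcS.finOK (nat_lit 2) (Tr.get3 tcS_Q6 (nat_lit 5) (nat_lit 7)) (nat_lit 6)) = true := by
  decide +kernel

def tcS_Q5 : Tr := .leaf (nat_lit 844)
theorem tcS_f5_0 : allFrom (nat_lit 0) (nat_lit 2) (tcS.finOK (nat_lit 2) (Tr.get3 tcS_Q5 (nat_lit 5) (nat_lit 7)) (nat_lit 5)) = true := by
  decide +kernel

def tcS_Q4 : Tr := .leaf (nat_lit 714)
theorem tcS_f4_0 : allFrom (nat_lit 0) (nat_lit 2) (tcS.finOK (nat_lit 2) (Tr.get3 tcS_Q4 (nat_lit 5) (nat_lit 7)) (nat_lit 4)) = true := by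
  decide +kernel

def tcS_Q3 : Tr := .leaf (nat_lit 648)
theorem tcS_f3_0 : allFrom (nat_lit 0) (nat_lit 2) (tcS.finOK (nat_lit 2) (Tr.get3 tcS_Q3 (nat_lit 5) (nat_lit 7)) (nat_lit 3)) = true := by
  decide +kernel

def tcS_Q2 : Tr := .leaf (nat_lit 582)
theorem tcS_f2_0 : allFrom (nat_lit 0) (nat_lit 2) (tcS.finOK (nat_lit 2) (Tr.get3 tcS_Q2 (nat_lit 5) (nat_lit 7)) (nat_lit 2)) = true := by
  decide +kernel

def tcS_Q1 : Tr := .leaf (nat_lit 516)
theorem tcS_f1_0 : allFrom (nat_lit 0) (nat_lit 2) (tcS.finOK (nat_lit 2) (Tr.get3 tcS_Q1 (nat_lit 5) (nat_lit 7)) (nat_lit 1)) = true := by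
  decide +kernel

theorem tcS_blocks : ∀ t < tcS.k, tcS.blockOK t = true :=
  (of_allFrom_append of_lt_zero tcS_b0)

/-- index 2 max 2 total 2 facts 14 | needed cosets 2 facts 14 steps 20 trivial 0 -/
theorem tcS_index {G : Type*} [Group G] {γ : ℕ → G} (hL : Lab γ tcS_iv) (hr : ∀ t ∈ relS8, t.ev γ = 1) {K : Subgroup G}
    (hK : ∀ t ∈ ([.l 1, .l 2, .l 3, .l 4, .l 5, .l 6] : List W), t.ev γ ∈ K) :
    K.relIndex (genW γ [.l 1, .l 2, .l 3, .l 4, .l 5, .l 6, .l 7]) ≠ 0 ∧ K.relIndex (genW γ [.l 1, .l 2, .l 3, .l 4, .l 5, .l 6, .l 7]) ≤ 2 :=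
  TC.relIndex_le (D := tcS) (gens := [1, 2, 3, 4, 5, 6, 7]) hL (List.forall_mem_cons.2 ⟨hL.zero_mem K, hK⟩) hr tcS_head tcS_blocks (by decide) (by decide)
   (List.forall_mem_cons.2 ⟨⟨_, (of_allFrom_append of_lt_zero tcS_f1_0)⟩,
    List.forall_mem_cons.2 ⟨⟨_, (of_allFrom_append of_lt_zero tcS_f2_0)⟩,
    List.forall_mem_cons.2 ⟨⟨_, (of_allFrom_append of_lt_zero tcS_f3_0)⟩,
    List.forall_mem_cons.2 ⟨⟨_, (of_allFrom_append of_lt_zero tcS_f4_0)⟩,
    List.forall_mem_cons.2 ⟨⟨_, (of_allFrom_append of_lt_zero tcS_f5_0)⟩,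
    List.forall_mem_cons.2 ⟨⟨_, (of_allFrom_append of_lt_zero tcS_f6_0)⟩,
    List.forall_mem_cons.2 ⟨⟨_, (of_allFrom_append of_lt_zero tcS_f7_0)⟩,
    fun _ h => absurd h List.not_mem_nil⟩⟩⟩⟩⟩⟩⟩)

theorem tcS_idx {G : Type*} [Group G] {γ : ℕ → G} (h0 : γ 0 = 1) (hr : ∀ t ∈ relS8, t.ev γ = 1) {K : Subgroup G}
    (hK : ∀ t ∈ ([.l 1, .l 2, .l 3, .l 4, .l 5, .l 6] : List W), t.ev γ ∈ K) :
    K.relIndex (genW γ [.l 1, .l 2, .l 3, .l 4, .l 5, .l 6, .l 7]) ≠ 0 ∧ K.relIndex (genW γ [.l 1, .l 2, .l 3, .l 4, .l 5, .l 6, .l 7]) ≤ 2 := by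
  have a := lab_of_rels h0 hr (iv := tcS_iv) (labs := tcS_labs) (by decide +kernel)
  have b := tcS_index a.1 a.2 (mems_fix (by decide +kernel) hK)
  rwa [genW_fix (by decide +kernel)] at b

/-- relators of `(A₄ × A₄) : 2²` -/
def relW : List W := [.pow (.l 1) 3, .pow (.l 2) 3, .mul (.l 3) (.l 3), .mul (.l 5) (.l 5), .mul (.l 6) (.l 6), .mul (.mul (.mul (.l 1) (.l 2)) (.inv (.l 1))) (.inv (.l 2)), .pow (.mul (.l 3) (.l 1)) 2, .pow (.mul (.l 3) (.l 2)) 2, .mul (.mul (.mul (.l 6) (.l 1)) (.l 6)) (.inv (.l 2)), .pow (.mul (.l 3) (.l 6)) 2, .pow (.mul (.l 3) (.l 5)) 2, .pow (.mul (.l 2) (.l 5)) 3, .mul (.mul (.mul (.l 1) (.l 5)) (.inv (.l 1))) (.l 5), .pow (.mul (.mul (.mul (.l 5) (.l 6)) (.l 5)) (.l 6)) 2]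

/-- inverse letters -/
def tcW0_iv : ℕ := 2239997518048

/-- inverse letters -/
def tcW0_labs : List W := [.l 0, .l 1, .l 2, .l 3, .l 0, .l 5, .l 6, .inv (.l 1), .inv (.l 2)]

def tcW0_F : Tr := .leaf (nat_lit 0x1d1c451433353d0d12443c0c1b193b0913431a1a3a0a411118184010154234310b38323039080000)
def tcW0_T : Tr := .leaf (nat_lit 181896)
def tcW0_P : Tr := .leaf (nat_lit 0x7fc007fc007fc007fc007fc007fc007fc007fc007fc007fc007fc007fc007fc007fc007fc007fc007fc007fc007fc007fcf9416000087c5800008a081c00014513160000420105006051044480102821c1c0000c107000000c30380301041e140001820d0a0040a0868300202)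
def tcW0_N_0 : Tr := .node (.node (.node (.node (.leaf (nat_lit 1057))
  (.leaf (nat_lit 72)))
  (.leaf (nat_lit 8194)))
  (.node (.leaf (nat_lit 170035362))
  (.leaf (nat_lit 165))))
  (.node (.node (.node (.leaf (nat_lit 68675))
  (.leaf (nat_lit 0)))
  (.leaf (nat_lit 132)))
  (.node (.leaf (nat_lit 225))
  (.leaf (nat_lit 6150))))
def tcW0_N_1 : Tr := .node (.node (.node (.node (.leaf (nat_lit 269377))
  (.leaf (nat_lit 2056)))
  (.leaf (nat_lit 99)))
  (.node (.leaf (nat_lit 211733910725))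
  (.leaf (nat_lit 198))))
  (.node (.node (.leaf (nat_lit 199875))
  (.leaf (nat_lit 4100)))
  (.node (.leaf (nat_lit 258))
  (.leaf (nat_lit 39))))
def tcW0_N_2 : Tr := .node (.node (.node (.node (.leaf (nat_lit 2114))
  (.leaf (nat_lit 72)))
  (.leaf (nat_lit 99)))
  (.node (.leaf (nat_lit 171169))
  (.leaf (nat_lit 5125))))
  (.node (.node (.leaf (nat_lit 268326))
  (.leaf (nat_lit 132)))
  (.node (.leaf (nat_lit 7169))
  (.leaf (nat_lit 39))))
def tcW0_N_3 : Tr := .node (.node (.node (.node (.leaf (nat_lit 35875))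
  (.leaf (nat_lit 0)))
  (.leaf (nat_lit 3075)))
  (.node (.leaf (nat_lit 225))
  (.leaf (nat_lit 198))))
  (.node (.node (.leaf (nat_lit 167075))
  (.leaf (nat_lit 165)))
  (.node (.leaf (nat_lit 258))
  (.leaf (nat_lit 1031))))
def tcW0_N : Tr := .node (.node tcW0_N_0
  tcW0_N_1)
  (.node tcW0_N_2
  tcW0_N_3)
noncomputable def tcW0 : TC :=
  ⟨[.l 0, .l 1, .l 2, .l 3, .l 4, .l 5, .l 6, .l 7, .l 8],
    (nat_lit 3), (nat_lit 7), (nat_lit 2239997518048), (nat_lit 13), (nat_lit 6), (nat_lit 2), (nat_lit 32), (nat_lit 1), (nat_lit 37),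
    get (nat_lit 10) (nat_lit 0x400c0400c02010030080400c02010030080400c02010030080400c0201003008080100601004010040100400c03), Tr.get tcW0_N, get (nat_lit 20) (nat_lit 0x3ff003ff003ff003ff003ff003ff003ff003ff003ff003ff003ff003ff003ff003ff003ff003ff003ff003ff003ff003ff003ff003ff003ff003ff003ff003ff0000d0000c0000b0000a00009000080000700006000050000100000),
    Tr.get3 tcW0_F (nat_lit 16) (nat_lit 5), Tr.get3 tcW0_T (nat_lit 3) (nat_lit 8), Tr.get tcW0_P⟩

theorem tcW0_head : tcW0.headOK relW tcW0_iv = true := by decide +kernel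

theorem tcW0_b0 : allFrom (nat_lit 0) (nat_lit 1) tcW0.blockOK = true := by decide +kernel

def tcW0_Q6 : Tr := .leaf (nat_lit 36667412996)
theorem tcW0_f6_0 : allFrom (nat_lit 0) (nat_lit 6) (tcW0.finOK (nat_lit 6) (Tr.get3 tcW0_Q6 (nat_lit 6) (nat_lit 7)) (nat_lit 6)) = true := by
  decide +kernel

def tcW0_Q3 : Tr := .leaf (nat_lit 42520626830)
theorem tcW0_f3_0 : allFrom (nat_lit 0) (nat_lit 6) (tcW0.finOK (nat_lit 6) (Tr.get3 tcW0_Q3 (nat_lit 6) (nat_lit 7)) (nat_lit 3)) = true := by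
  decide +kernel

def tcW0_Q2 : Tr := .leaf (nat_lit 12421297164)
theorem tcW0_f2_0 : allFrom (nat_lit 0) (nat_lit 6) (tcW0.finOK (nat_lit 6) (Tr.get3 tcW0_Q2 (nat_lit 6) (nat_lit 7)) (nat_lit 2)) = true := by
  decide +kernel

def tcW0_Q1 : Tr := .leaf (nat_lit 34831410690)
theorem tcW0_f1_0 : allFrom (nat_lit 0) (nat_lit 6) (tcW0.finOK (nat_lit 6) (Tr.get3 tcW0_Q1 (nat_lit 6) (nat_lit 7)) (nat_lit 1)) = true := by
  decide +kernel

theorem tcW0_blocks : ∀ t < tcW0.k, tcW0.blockOK t = true :=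
  (of_allFrom_append of_lt_zero tcW0_b0)

/-- index 6 max 6 total 6 facts 20 | needed cosets 6 facts 20 steps 34 trivial 0 -/
theorem tcW0_index {G : Type*} [Group G] {γ : ℕ → G} (hL : Lab γ tcW0_iv) (hr : ∀ t ∈ relW, t.ev γ = 1) {K : Subgroup G}
    (hK : ∀ t ∈ ([.l 2, .l 3] : List W), t.ev γ ∈ K) :
    K.relIndex (genW γ [.l 1, .l 2, .l 3, .l 6]) ≠ 0 ∧ K.relIndex (genW γ [.l 1, .l 2, .l 3, .l 6]) ≤ 6 :=
  TC.relIndex_le (D := tcW0) (gens := [1, 2, 3, 6]) hL (List.forall_mem_cons.2 ⟨hL.zero_mem K, hK⟩) hr tcW0_head tcW0_blocks (by decide) (by decide)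
   (List.forall_mem_cons.2 ⟨⟨_, (of_allFrom_append of_lt_zero tcW0_f1_0)⟩,
    List.forall_mem_cons.2 ⟨⟨_, (of_allFrom_append of_lt_zero tcW0_f2_0)⟩,
    List.forall_mem_cons.2 ⟨⟨_, (of_allFrom_append of_lt_zero tcW0_f3_0)⟩,
    List.forall_mem_cons.2 ⟨⟨_, (of_allFrom_append of_lt_zero tcW0_f6_0)⟩,
    fun _ h => absurd h List.not_mem_nil⟩⟩⟩⟩)

theorem tcW0_idx {G : Type*} [Group G] {γ : ℕ → G} (h0 : γ 0 = 1) (hr : ∀ t ∈ relW, t.ev γ = 1) {K : Subgroup G}
    (hK : ∀ t ∈ ([.l 2, .l 3] : List W), t.ev γ ∈ K) :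
    K.relIndex (genW γ [.l 1, .l 2, .l 3, .l 6]) ≠ 0 ∧ K.relIndex (genW γ [.l 1, .l 2, .l 3, .l 6]) ≤ 6 := by
  have a := lab_of_rels h0 hr (iv := tcW0_iv) (labs := tcW0_labs) (by decide +kernel)
  have b := tcW0_index a.1 a.2 (mems_fix (by decide +kernel) hK)
  rwa [genW_fix (by decide +kernel)] at b

/-- inverse letters -/
def tcW_iv : ℕ := 2239997518048

/-- inverse letters -/
def tcW_labs : List W := [.l 0, .l 1, .l 2, .l 3, .l 0, .l 5, .l 6, .inv (.l 1), .inv (.l 2)]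

def tcW_F : Tr := .leaf (nat_lit 0xbe5e1f8f0fe1d478b8de6f3d87cdc6d1f0f4fc1c15238ba5c3e86d1a2c361b0327c2d9647639458a4d46b1d0e0f4182b968d2680b1e0ce641b8d4ee1513a1ccc661b0d8ea1312a14a8521a0c908223a050663311a0c2472089c4623130180603040080e01017a283c7916a21182815a18347644898b0550b9ccac53329884881319850421289400000)
def tcW_T : Tr := .leaf (nat_lit 0xfedcba9876543210)
def tcW_P : Tr := .node (.leaf (nat_lit 0x1c12150060218103b111b00208164a1b00002181b000015d4c1900405184b1300402120c2f0d1700208123e1700004121700001164115000054b3e15000034b1500000140c0f006094b401300405103c0d0040908070f000053c300f000033c0f000000e2f0f006020c06022703070d0020a0c310d0000706050b002050a2d0b0060504022203090020804280900004040900001082a090000206290700006062b0700605042b05004020220030040902250300007))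
  (.leaf (nat_lit 0x1ff001ff001ff001ff001ff001ff001ff001ff001ff001ff001ff001ff001ff001ff001ff001ff001ff001ff001ff001ff001ff001ff001ff674f434e1f0020818531f000041a511f00002671f000011e546e000051e1417000021a4d1d0000562581d000035d1d00000))
def tcW_N_0 : Tr := .node (.node (.node (.node (.leaf (nat_lit 1057))
  (.leaf (nat_lit 72)))
  (.leaf (nat_lit 8194)))
  (.node (.leaf (nat_lit 170035362))
  (.leaf (nat_lit 165))))
  (.node (.node (.node (.leaf (nat_lit 68675))
  (.leaf (nat_lit 0)))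
  (.leaf (nat_lit 132)))
  (.node (.leaf (nat_lit 225))
  (.leaf (nat_lit 6150))))
def tcW_N_1 : Tr := .node (.node (.node (.node (.leaf (nat_lit 269377))
  (.leaf (nat_lit 2056)))
  (.leaf (nat_lit 99)))
  (.node (.leaf (nat_lit 211733910725))
  (.leaf (nat_lit 198))))
  (.node (.node (.leaf (nat_lit 199875))
  (.leaf (nat_lit 4100)))
  (.node (.leaf (nat_lit 258))
  (.leaf (nat_lit 39))))
def tcW_N_2 : Tr := .node (.node (.node (.node (.leaf (nat_lit 2114))
  (.leaf (nat_lit 72)))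
  (.leaf (nat_lit 99)))
  (.node (.leaf (nat_lit 171169))
  (.leaf (nat_lit 5125))))
  (.node (.node (.leaf (nat_lit 268326))
  (.leaf (nat_lit 132)))
  (.node (.leaf (nat_lit 7169))
  (.leaf (nat_lit 39))))
def tcW_N_3 : Tr := .node (.node (.node (.node (.leaf (nat_lit 35875))
  (.leaf (nat_lit 0)))
  (.leaf (nat_lit 3075)))
  (.node (.leaf (nat_lit 225))
  (.leaf (nat_lit 198))))
  (.node (.node (.leaf (nat_lit 167075))
  (.leaf (nat_lit 165)))
  (.node (.leaf (nat_lit 258))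
  (.leaf (nat_lit 1031))))
def tcW_N : Tr := .node (.node tcW_N_0
  tcW_N_1)
  (.node tcW_N_2
  tcW_N_3)
noncomputable def tcW : TC :=
  ⟨[.l 0, .l 1, .l 2, .l 3, .l 4, .l 5, .l 6, .l 7, .l 8],
    (nat_lit 4), (nat_lit 8), (nat_lit 2239997518048), (nat_lit 79), (nat_lit 16), (nat_lit 4), (nat_lit 32), (nat_lit 2), (nat_lit 37),
    get (nat_lit 10) (nat_lit 0x400c0400c02010030080400c02010030080400c02010030080400c0201003008080100601004010040100400c03), Tr.get tcW_N, get (nat_lit 20) (nat_lit 0x3ff003ff003ff003ff003ff003ff003ff003ff003ff003ff003ff003ff003ff003ff003ff003ff003ff003ff003ff003ff003ff003ff003ff003ff003ff003ff0000d0000c0000b0000a00009000080000700006000050000100000),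
    Tr.get3 tcW_F (nat_lit 18) (nat_lit 5), Tr.get3 tcW_T (nat_lit 4) (nat_lit 7), Tr.get tcW_P⟩

theorem tcW_head : tcW.headOK relW tcW_iv = true := by decide +kernel

theorem tcW_b0 : allFrom (nat_lit 0) (nat_lit 2) tcW.blockOK = true := by decide +kernel

def tcW_Q6 : Tr := .leaf (nat_lit 0xe1b765ea9566cc93005c80e28326)
theorem tcW_f6_0 : allFrom (nat_lit 0) (nat_lit 16) (tcW.finOK (nat_lit 16) (Tr.get3 tcW_Q6 (nat_lit 7) (nat_lit 7)) (nat_lit 6)) = true := by
  decide +kernel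

def tcW_Q5 : Tr := .leaf (nat_lit 0xf3e32e4b73ad119e3483918e0182)
theorem tcW_f5_0 : allFrom (nat_lit 0) (nat_lit 16) (tcW.finOK (nat_lit 16) (Tr.get3 tcW_Q5 (nat_lit 7) (nat_lit 7)) (nat_lit 5)) = true := by
  decide +kernel

def tcW_Q3 : Tr := .leaf (nat_lit 0xefaf576b34ec528efa33760d9424)
theorem tcW_f3_0 : allFrom (nat_lit 0) (nat_lit 16) (tcW.finOK (nat_lit 16) (Tr.get3 tcW_Q3 (nat_lit 7) (nat_lit 7)) (nat_lit 3)) = true := by
  decide +kernel

def tcW_Q2 : Tr := .leaf (nat_lit 0x3fc8de02f9eb188649d895ed0222)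
theorem tcW_f2_0 : allFrom (nat_lit 0) (nat_lit 16) (tcW.finOK (nat_lit 16) (Tr.get3 tcW_Q2 (nat_lit 7) (nat_lit 7)) (nat_lit 2)) = true := by
  decide +kernel

def tcW_Q1 : Tr := .leaf (nat_lit 0xdc77a68c456ed01f2e23278b55a0)
theorem tcW_f1_0 : allFrom (nat_lit 0) (nat_lit 16) (tcW.finOK (nat_lit 16) (Tr.get3 tcW_Q1 (nat_lit 7) (nat_lit 7)) (nat_lit 1)) = true := by
  decide +kernel

theorem tcW_blocks : ∀ t < tcW.k, tcW.blockOK t = true :=
  (of_allFrom_append of_lt_zero tcW_b0)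

/-- index 16 max 16 total 16 facts 61 | needed cosets 16 facts 61 steps 128 trivial 0 -/
theorem tcW_index {G : Type*} [Group G] {γ : ℕ → G} (hL : Lab γ tcW_iv) (hr : ∀ t ∈ relW, t.ev γ = 1) {K : Subgroup G}
    (hK : ∀ t ∈ ([.l 1, .l 2, .l 3, .l 6] : List W), t.ev γ ∈ K) :
    K.relIndex (genW γ [.l 1, .l 2, .l 3, .l 5, .l 6]) ≠ 0 ∧ K.relIndex (genW γ [.l 1, .l 2, .l 3, .l 5, .l 6]) ≤ 16 :=
  TC.relIndex_le (D := tcW) (gens := [1, 2, 3, 5, 6]) hL (List.forall_mem_cons.2 ⟨hL.zero_mem K, hK⟩) hr tcW_head tcW_blocks (by decide) (by decide)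
   (List.forall_mem_cons.2 ⟨⟨_, (of_allFrom_append of_lt_zero tcW_f1_0)⟩,
    List.forall_mem_cons.2 ⟨⟨_, (of_allFrom_append of_lt_zero tcW_f2_0)⟩,
    List.forall_mem_cons.2 ⟨⟨_, (of_allFrom_append of_lt_zero tcW_f3_0)⟩,
    List.forall_mem_cons.2 ⟨⟨_, (of_allFrom_append of_lt_zero tcW_f5_0)⟩,
    List.forall_mem_cons.2 ⟨⟨_, (of_allFrom_append of_lt_zero tcW_f6_0)⟩,
    fun _ h => absurd h List.not_mem_nil⟩⟩⟩⟩⟩)

theorem tcW_idx {G : Type*} [Group G] {γ : ℕ → G} (h0 : γ 0 = 1) (hr : ∀ t ∈ relW, t.ev γ = 1) {K : Subgroup G}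
    (hK : ∀ t ∈ ([.l 1, .l 2, .l 3, .l 6] : List W), t.ev γ ∈ K) :
    K.relIndex (genW γ [.l 1, .l 2, .l 3, .l 5, .l 6]) ≠ 0 ∧ K.relIndex (genW γ [.l 1, .l 2, .l 3, .l 5, .l 6]) ≤ 16 := by
  have a := lab_of_rels h0 hr (iv := tcW_iv) (labs := tcW_labs) (by decide +kernel)
  have b := tcW_index a.1 a.2 (mems_fix (by decide +kernel) hK)
  rwa [genW_fix (by decide +kernel)] at b

/-- inverse letters -/
def tcW1_iv : ℕ := 2239997518048

/-- inverse letters -/
def tcW1_labs : List W := [.l 0, .l 1, .l 2, .l 3, .l 0, .l 5, .l 6, .inv (.l 1), .inv (.l 2)]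

def tcW1_F : Tr := .leaf (nat_lit 0x1b1d44154214431145121c1913401a1841100000)
def tcW1_T : Tr := .leaf (nat_lit 181896)
def tcW1_P : Tr := .leaf (nat_lit 0x7fc007fc007fc007fc007fc007fc007fc007fc007fc007fc007fc007fc007fc007fc007fc007fc007fc007fc007fc007fc007fc007fc007fc007fc007fc007fc007fc007fc5040e00008287000008804140081010700001)
def tcW1_N_0 : Tr := .node (.node (.node (.node (.leaf (nat_lit 1057))
  (.leaf (nat_lit 72)))
  (.leaf (nat_lit 8194)))
  (.node (.leaf (nat_lit 170035362))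
  (.leaf (nat_lit 165))))
  (.node (.node (.node (.leaf (nat_lit 68675))
  (.leaf (nat_lit 0)))
  (.leaf (nat_lit 132)))
  (.node (.leaf (nat_lit 225))
  (.leaf (nat_lit 6150))))
def tcW1_N_1 : Tr := .node (.node (.node (.node (.leaf (nat_lit 269377))
  (.leaf (nat_lit 2056)))
  (.leaf (nat_lit 99)))
  (.node (.leaf (nat_lit 211733910725))
  (.leaf (nat_lit 198))))
  (.node (.node (.leaf (nat_lit 199875))
  (.leaf (nat_lit 4100)))
  (.node (.leaf (nat_lit 258))
  (.leaf (nat_lit 39))))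
def tcW1_N_2 : Tr := .node (.node (.node (.node (.leaf (nat_lit 2114))
  (.leaf (nat_lit 72)))
  (.leaf (nat_lit 99)))
  (.node (.leaf (nat_lit 171169))
  (.leaf (nat_lit 5125))))
  (.node (.node (.leaf (nat_lit 268326))
  (.leaf (nat_lit 132)))
  (.node (.leaf (nat_lit 7169))
  (.leaf (nat_lit 39))))
def tcW1_N_3 : Tr := .node (.node (.node (.node (.leaf (nat_lit 35875))
  (.leaf (nat_lit 0)))
  (.leaf (nat_lit 3075)))
  (.node (.leaf (nat_lit 225))
  (.leaf (nat_lit 198))))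
  (.node (.node (.leaf (nat_lit 167075))
  (.leaf (nat_lit 165)))
  (.node (.leaf (nat_lit 258))
  (.leaf (nat_lit 1031))))
def tcW1_N : Tr := .node (.node tcW1_N_0
  tcW1_N_1)
  (.node tcW1_N_2
  tcW1_N_3)
noncomputable def tcW1 : TC :=
  ⟨[.l 0, .l 1, .l 2, .l 3, .l 4, .l 5, .l 6, .l 7, .l 8],
    (nat_lit 3), (nat_lit 7), (nat_lit 2239997518048), (nat_lit 1), (nat_lit 6), (nat_lit 0), (nat_lit 32), (nat_lit 1), (nat_lit 37),
    get (nat_lit 10) (nat_lit 0x400c0400c02010030080400c02010030080400c02010030080400c0201003008080100601004010040100400c03), Tr.get tcW1_N, get (nat_lit 20) (nat_lit 0x3ff003ff003ff003ff003ff003ff003ff003ff003ff003ff003ff003ff003ff003ff003ff003ff003ff003ff003ff003ff003ff003ff003ff003ff003ff003ff0000d0000c0000b0000a00009000080000700006000050000100000),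
    Tr.get3 tcW1_F (nat_lit 16) (nat_lit 5), Tr.get3 tcW1_T (nat_lit 3) (nat_lit 8), Tr.get tcW1_P⟩

theorem tcW1_head : tcW1.headOK relW tcW1_iv = true := by decide +kernel

theorem tcW1_b0 : allFrom (nat_lit 0) (nat_lit 1) tcW1.blockOK = true := by decide +kernel

def tcW1_Q3 : Tr := .leaf (nat_lit 614044932)
theorem tcW1_f3_0 : allFrom (nat_lit 0) (nat_lit 6) (tcW1.finOK (nat_lit 6) (Tr.get3 tcW1_Q3 (nat_lit 5) (nat_lit 7)) (nat_lit 3)) = true := by
  decide +kernel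

def tcW1_Q2 : Tr := .leaf (nat_lit 551790978)
theorem tcW1_f2_0 : allFrom (nat_lit 0) (nat_lit 6) (tcW1.finOK (nat_lit 6) (Tr.get3 tcW1_Q2 (nat_lit 5) (nat_lit 7)) (nat_lit 2)) = true := by
  decide +kernel

theorem tcW1_blocks : ∀ t < tcW1.k, tcW1.blockOK t = true :=
  (of_allFrom_append of_lt_zero tcW1_b0)

/-- index 6 max 6 total 6 facts 10 | needed cosets 6 facts 10 steps 10 trivial 0 -/
theorem tcW1_index {G : Type*} [Group G] {γ : ℕ → G} (hL : Lab γ tcW1_iv) (hr : ∀ t ∈ relW, t.ev γ = 1) {K : Subgroup G}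
    (hK : ∀ t ∈ ([] : List W), t.ev γ ∈ K) :
    K.relIndex (genW γ [.l 2, .l 3]) ≠ 0 ∧ K.relIndex (genW γ [.l 2, .l 3]) ≤ 6 :=
  TC.relIndex_le (D := tcW1) (gens := [2, 3]) hL (List.forall_mem_cons.2 ⟨hL.zero_mem K, hK⟩) hr tcW1_head tcW1_blocks (by decide) (by decide)
   (List.forall_mem_cons.2 ⟨⟨_, (of_allFrom_append of_lt_zero tcW1_f2_0)⟩,
    List.forall_mem_cons.2 ⟨⟨_, (of_allFrom_append of_lt_zero tcW1_f3_0)⟩,
    fun _ h => absurd h List.not_mem_nil⟩⟩)

theorem tcW1_idx {G : Type*} [Group G] {γ : ℕ → G} (h0 : γ 0 = 1) (hr : ∀ t ∈ relW, t.ev γ = 1) {K : Subgroup G}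
    (hK : ∀ t ∈ ([] : List W), t.ev γ ∈ K) :
    K.relIndex (genW γ [.l 2, .l 3]) ≠ 0 ∧ K.relIndex (genW γ [.l 2, .l 3]) ≤ 6 := by
  have a := lab_of_rels h0 hr (iv := tcW1_iv) (labs := tcW1_labs) (by decide +kernel)
  have b := tcW1_index a.1 a.2 (mems_fix (by decide +kernel) hK)
  rwa [genW_fix (by decide +kernel)] at b

theorem tcW1_tb : TB relW [.l 2, .l 3] 6 := fun _ _ _ h0 hr =>
  card_le_of_relIndex (N := 1) bot_le (tcW1_idx h0 hr nil_all) card_bot_le

/-- a formula -/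
def s8_D_f : Fm := .all 4 40 [] (.or (.one (.l 40)) (.or (.eq (.l 40) (.l 1)) (.or (.eq (.l 40) (.inv (.l 1))) (.or (.eq (.l 40) (.l 2)) (.or (.eq (.l 40) (.inv (.l 2))) (.ex 5 41 [(.mul (.l 1) (.l 2), .l 40)] (.tt)))))))

theorem s8_D_ev : s8.eval s8_D_f = true := by decide +kernel

theorem s8_D {G : Type*} [Group G] {γ : ℕ → G} {k : ℕ} {N : List W} (g : Gf s8 γ k N)
    (e : tyB s8 k N s8_D_f = true := by decide +kernel) :
    ∀ d ∈ genW γ (s8.ws 4), d = 1 ∨ d = γ 1 ∨ d = (γ 1)⁻¹ ∨ d = γ 2 ∨ d = (γ 2)⁻¹ ∨ (∃ k ∈ genW γ (s8.ws 5), k * (γ 1 * γ 2) = d * k ∧ True) :=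
  g.transfer e s8_D_ev

/-- a formula -/
def s8_Dc_f : Fm := .all 4 40 [] (.and (.one (.pow (.l 40) 3)) (.all 4 41 [] (.eq (.mul (.l 40) (.l 41)) (.mul (.l 41) (.l 40)))))

theorem s8_Dc_ev : s8.eval s8_Dc_f = true := by decide +kernel

theorem s8_Dc {G : Type*} [Group G] {γ : ℕ → G} {k : ℕ} {N : List W} (g : Gf s8 γ k N)
    (e : tyB s8 k N s8_Dc_f = true := by decide +kernel) :
    ∀ d ∈ genW γ (s8.ws 4), d ^ 3 = 1 ∧ (∀ q ∈ genW γ (s8.ws 4), d * q = q * d) :=
  g.transfer e s8_Dc_ev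

/-- a formula -/
def s8_iv_f : Fm := .all 4 40 [] (.eq (.mul (.mul (.mul (.l 3) (.l 4)) (.l 40)) (.inv (.mul (.l 3) (.l 4)))) (.inv (.l 40)))

theorem s8_iv_ev : s8.eval s8_iv_f = true := by decide +kernel

theorem s8_iv {G : Type*} [Group G] {γ : ℕ → G} {k : ℕ} {N : List W} (g : Gf s8 γ k N)
    (e : tyB s8 k N s8_iv_f = true := by decide +kernel) :
    ∀ d ∈ genW γ (s8.ws 4), γ 3 * γ 4 * d * (γ 3 * γ 4)⁻¹ = d⁻¹ :=
  g.transfer e s8_iv_ev

/-- a formula -/
def s8_e1_f : Fm := .all 12 40 [(.l 1, .l 1), (.l 2, .l 2)] (.mem 4 (.l 40))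

theorem s8_e1_ev : s8.eval s8_e1_f = true := by decide +kernel

theorem s8_e1 {G : Type*} [Group G] {γ : ℕ → G} {k : ℕ} {N : List W} (g : Gf s8 γ k N)
    (e : tyB s8 k N s8_e1_f = true := by decide +kernel) :
    ∀ n ∈ genW γ (s8.ws 12), n * γ 1 = γ 1 * n → n * γ 2 = γ 2 * n → n ∈ genW γ (s8.ws 4) :=
  g.transfer e s8_e1_ev

/-- a formula -/
def s8_e2_f : Fm := .all 12 40 [] (.imp (.mem 4 (.mul (.mul (.l 40) (.l 1)) (.inv (.l 40)))) (.imp (.mem 4 (.mul (.mul (.l 40) (.l 2)) (.inv (.l 40)))) (.mem 4 (.pow (.l 40) 2))))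

theorem s8_e2_ev : s8.eval s8_e2_f = true := by decide +kernel

theorem s8_e2 {G : Type*} [Group G] {γ : ℕ → G} {k : ℕ} {N : List W} (g : Gf s8 γ k N)
    (e : tyB s8 k N s8_e2_f = true := by decide +kernel) :
    ∀ n ∈ genW γ (s8.ws 12), n * γ 1 * n⁻¹ ∈ genW γ (s8.ws 4) → n * γ 2 * n⁻¹ ∈ genW γ (s8.ws 4) → n ^ 2 ∈ genW γ (s8.ws 4) :=
  g.transfer e s8_e2_ev

/-- a formula -/
def s8_e3_f : Fm := .all 13 40 [] (.all 13 41 [] (.mem 11 (.mul (.mul (.mul (.l 40) (.l 41)) (.inv (.l 40))) (.inv (.l 41)))))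

theorem s8_e3_ev : s8.eval s8_e3_f = true := by decide +kernel

theorem s8_e3 {G : Type*} [Group G] {γ : ℕ → G} {k : ℕ} {N : List W} (g : Gf s8 γ k N)
    (e : tyB s8 k N s8_e3_f = true := by decide +kernel) :
    ∀ p ∈ genW γ (s8.ws 13), ∀ q ∈ genW γ (s8.ws 13), p * q * p⁻¹ * q⁻¹ ∈ genW γ (s8.ws 11) :=
  g.transfer e s8_e3_ev

/-- a formula -/
def s8_e4_f : Fm := .all 13 40 [(.mul (.mul (.mul (.mul (.mul (.l 2) (.l 5)) (.inv (.l 2))) (.mul (.l 3) (.l 4))) (.inv (.mul (.mul (.l 2) (.l 5)) (.inv (.l 2))))) (.inv (.mul (.l 3) (.l 4))), .mul (.mul (.mul (.mul (.mul (.l 2) (.l 5)) (.inv (.l 2))) (.mul (.l 3) (.l 4))) (.inv (.mul (.mul (.l 2) (.l 5)) (.inv (.l 2))))) (.inv (.mul (.l 3) (.l 4)))), (.mul (.mul (.mul (.mul (.mul (.l 2) (.l 5)) (.inv (.l 2))) (.l 6)) (.inv (.mul (.mul (.l 2) (.l 5)) (.inv (.l 2))))) (.inv (.l 6)), .mul (.mul (.mul (.mul (.mul (.l 2) (.l 5)) (.inv (.l 2))) (.l 6)) (.inv (.mul (.mul (.l 2) (.l 5)) (.inv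 (.l 2))))) (.inv (.l 6)))] (.mem 11 (.l 40))

theorem s8_e4_ev : s8.eval s8_e4_f = true := by decide +kernel

theorem s8_e4 {G : Type*} [Group G] {γ : ℕ → G} {k : ℕ} {N : List W} (g : Gf s8 γ k N)
    (e : tyB s8 k N s8_e4_f = true := by decide +kernel) :
    ∀ t ∈ genW γ (s8.ws 13), t * (γ 2 * γ 5 * (γ 2)⁻¹ * (γ 3 * γ 4) * (γ 2 * γ 5 * (γ 2)⁻¹)⁻¹ * (γ 3 * γ 4)⁻¹) = γ 2 * γ 5 * (γ 2)⁻¹ * (γ 3 * γ 4) * (γ 2 * γ 5 * (γ 2)⁻¹)⁻¹ * (γ 3 * γ 4)⁻¹ * t → t * (γ 2 * γ 5 * (γ 2)⁻¹ * γ 6 * (γ 2 * γ 5 * (γ 2)⁻¹)⁻¹ * (γ 6)⁻¹) = γ 2 * γ 5 * (γ 2)⁻¹ * γ 6 * (γ 2 * γ 5 * (γ 2)⁻¹)⁻¹ * (γ 6)⁻¹ * t → t ∈ genW γ (s8.ws 11) :=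
  g.transfer e s8_e4_ev

/-- a formula -/
def s8_e5_f : Fm := .all 11 40 [] (.all 11 41 [] (.eq (.mul (.l 40) (.l 41)) (.mul (.l 41) (.l 40))))

theorem s8_e5_ev : s8.eval s8_e5_f = true := by decide +kernel

theorem s8_e5 {G : Type*} [Group G] {γ : ℕ → G} {k : ℕ} {N : List W} (g : Gf s8 γ k N)
    (e : tyB s8 k N s8_e5_f = true := by decide +kernel) :
    ∀ p ∈ genW γ (s8.ws 11), ∀ q ∈ genW γ (s8.ws 11), p * q = q * p :=
  g.transfer e s8_e5_ev

/-- a formula -/
def s8_cs_f : Fm := .all 0 40 [(.mul (.l 1) (.l 2), .mul (.l 1) (.l 2))] (.and (.imp (.eq (.mul (.l 40) (.l 6)) (.mul (.l 6) (.l 40))) (.or (.one (.pow (.l 40) 2)) (.or (.eq (.pow (.l 40) 2) (.mul (.l 1) (.l 2))) (.eq (.pow (.l 40) 2) (.inv (.mul (.l 1) (.l 2))))))) (.imp (.eq (.mul (.l 40) (.mul (.l 6) (.l 7))) (.mul (.mul (.l 6) (.l 7)) (.l 40))) (.or (.one (.pow (.l 40) 2)) (.or (.eq (.pow (.l 40) 2) (.mul (.l 1) (.l 2))) (.eq (.pow (.l 40) 2) (.inv (.mul (.l 1) (.l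 2))))))))

theorem s8_cs_ev : s8.eval s8_cs_f = true := by decide +kernel

theorem s8_cs {G : Type*} [Group G] {γ : ℕ → G} {k : ℕ} {N : List W} (g : Gf s8 γ k N)
    (e : tyB s8 k N s8_cs_f = true := by decide +kernel) :
    ∀ n ∈ genW γ (s8.ws 0), n * (γ 1 * γ 2) = γ 1 * γ 2 * n → (n * γ 6 = γ 6 * n → n ^ 2 = 1 ∨ n ^ 2 = γ 1 * γ 2 ∨ n ^ 2 = (γ 1 * γ 2)⁻¹) ∧ (n * (γ 6 * γ 7) = γ 6 * γ 7 * n → n ^ 2 = 1 ∨ n ^ 2 = γ 1 * γ 2 ∨ n ^ 2 = (γ 1 * γ 2)⁻¹) :=
  g.transfer e s8_cs_ev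

/-- a formula -/
def s8_z2_f : Fm := .all 2 40 [] (.imp (.one (.pow (.l 40) 3)) (.imp (.eq (.mul (.l 40) (.mul (.mul (.l 5) (.l 40)) (.inv (.l 5)))) (.mul (.mul (.mul (.l 5) (.l 40)) (.inv (.l 5))) (.l 40))) (.imp (.eq (.mul (.l 40) (.mul (.mul (.l 2) (.l 40)) (.inv (.l 2)))) (.mul (.mul (.mul (.l 2) (.l 40)) (.inv (.l 2))) (.l 40))) (.imp (.eq (.mul (.l 40) (.mul (.mul (.l 3) (.l 40)) (.inv (.l 3)))) (.mul (.mul (.mul (.l 3) (.l 40)) (.inv (.l 3))) (.l 40))) (.or (.one (.l 40)) (.or (.eq (.l 40) (.l 1)) (.eq (.l 40) (.inv (.l 1)))))))))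

theorem s8_z2_ev : s8.eval s8_z2_f = true := by decide +kernel

theorem s8_z2 {G : Type*} [Group G] {γ : ℕ → G} {k : ℕ} {N : List W} (g : Gf s8 γ k N)
    (e : tyB s8 k N s8_z2_f = true := by decide +kernel) :
    ∀ n ∈ genW γ (s8.ws 2), n ^ 3 = 1 → n * (γ 5 * n * (γ 5)⁻¹) = γ 5 * n * (γ 5)⁻¹ * n → n * (γ 2 * n * (γ 2)⁻¹) = γ 2 * n * (γ 2)⁻¹ * n → n * (γ 3 * n * (γ 3)⁻¹) = γ 3 * n * (γ 3)⁻¹ * n → n = 1 ∨ n = γ 1 ∨ n = (γ 1)⁻¹ :=
  g.transfer e s8_z2_ev

/-- a formula -/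
def s8_cv2_f : Fm := .all 2 40 [(.l 1, .l 1), (.l 5, .l 5), (.mul (.mul (.l 2) (.l 5)) (.inv (.l 2)), .mul (.mul (.l 2) (.l 5)) (.inv (.l 2)))] (.mem 19 (.l 40))

theorem s8_cv2_ev : s8.eval s8_cv2_f = true := by decide +kernel

theorem s8_cv2 {G : Type*} [Group G] {γ : ℕ → G} {k : ℕ} {N : List W} (g : Gf s8 γ k N)
    (e : tyB s8 k N s8_cv2_f = true := by decide +kernel) :
    ∀ n ∈ genW γ (s8.ws 2), n * γ 1 = γ 1 * n → n * γ 5 = γ 5 * n → n * (γ 2 * γ 5 * (γ 2)⁻¹) = γ 2 * γ 5 * (γ 2)⁻¹ * n → n ∈ genW γ (s8.ws 19) :=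
  g.transfer e s8_cv2_ev

/-- a formula -/
def s8_fp2_f : Fm := .all 2 40 [(.l 1, .l 1)] (.imp (.eq (.mul (.l 40) (.mul (.mul (.l 2) (.l 40)) (.inv (.l 2)))) (.mul (.mul (.mul (.l 2) (.l 40)) (.inv (.l 2))) (.l 40))) (.imp (.one (.mul (.mul (.l 40) (.mul (.mul (.l 2) (.l 40)) (.inv (.l 2)))) (.mul (.mul (.inv (.l 2)) (.l 40)) (.l 2)))) (.or (.mem 10 (.l 40)) (.or (.mem 10 (.mul (.mul (.l 3) (.l 40)) (.inv (.l 3)))) (.and (.not (.one (.pow (.l 40) 2))) (.one (.pow (.pow (.l 40) 2) 3)))))))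

theorem s8_fp2_ev : s8.eval s8_fp2_f = true := by decide +kernel

theorem s8_fp2 {G : Type*} [Group G] {γ : ℕ → G} {k : ℕ} {N : List W} (g : Gf s8 γ k N)
    (e : tyB s8 k N s8_fp2_f = true := by decide +kernel) :
    ∀ r ∈ genW γ (s8.ws 2), r * γ 1 = γ 1 * r → r * (γ 2 * r * (γ 2)⁻¹) = γ 2 * r * (γ 2)⁻¹ * r → r * (γ 2 * r * (γ 2)⁻¹) * ((γ 2)⁻¹ * r * γ 2) = 1 → r ∈ genW γ (s8.ws 10) ∨ γ 3 * r * (γ 3)⁻¹ ∈ genW γ (s8.ws 10) ∨ r ^ 2 ≠ 1 ∧ (r ^ 2) ^ 3 = 1 :=
  g.transfer e s8_fp2_ev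

/-- a formula -/
def s8_nd2_f : Fm := .all 2 40 [] (.imp (.mem 4 (.mul (.mul (.l 40) (.l 2)) (.inv (.l 40)))) (.mem 5 (.l 40)))

theorem s8_nd2_ev : s8.eval s8_nd2_f = true := by decide +kernel

theorem s8_nd2 {G : Type*} [Group G] {γ : ℕ → G} {k : ℕ} {N : List W} (g : Gf s8 γ k N)
    (e : tyB s8 k N s8_nd2_f = true := by decide +kernel) :
    ∀ n ∈ genW γ (s8.ws 2), n * γ 2 * n⁻¹ ∈ genW γ (s8.ws 4) → n ∈ genW γ (s8.ws 5) :=
  g.transfer e s8_nd2_ev

/-- a formula -/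
def s8_b2_f : Fm := .all 4 40 [] (.all 5 41 [(.l 40, .l 40)] (.or (.or (.one (.l 40)) (.or (.eq (.l 40) (.l 1)) (.eq (.l 40) (.inv (.l 1))))) (.or (.eq (.l 40) (.l 2)) (.or (.eq (.l 40) (.inv (.l 2))) (.and (.eq (.mul (.l 41) (.l 1)) (.mul (.l 1) (.l 41))) (.eq (.mul (.l 41) (.l 2)) (.mul (.l 2) (.l 41))))))))

theorem s8_b2_ev : s8.eval s8_b2_f = true := by decide +kernel

theorem s8_b2 {G : Type*} [Group G] {γ : ℕ → G} {k : ℕ} {N : List W} (g : Gf s8 γ k N)
    (e : tyB s8 k N s8_b2_f = true := by decide +kernel) :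
    ∀ d ∈ genW γ (s8.ws 4), ∀ n ∈ genW γ (s8.ws 5), n * d = d * n → (d = 1 ∨ d = γ 1 ∨ d = (γ 1)⁻¹) ∨ d = γ 2 ∨ d = (γ 2)⁻¹ ∨ n * γ 1 = γ 1 * n ∧ n * γ 2 = γ 2 * n :=
  g.transfer e s8_b2_ev

/-- a formula -/
def s8_ca2_f : Fm := .all 2 40 [(.l 1, .l 1), (.l 3, .l 3)] (.or (.one (.pow (.l 40) 4)) (.or (.eq (.pow (.l 40) 4) (.l 1)) (.eq (.pow (.l 40) 4) (.inv (.l 1)))))

theorem s8_ca2_ev : s8.eval s8_ca2_f = true := by decide +kernel

theorem s8_ca2 {G : Type*} [Group G] {γ : ℕ → G} {k : ℕ} {N : List W} (g : Gf s8 γ k N)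
    (e : tyB s8 k N s8_ca2_f = true := by decide +kernel) :
    ∀ n ∈ genW γ (s8.ws 2), n * γ 1 = γ 1 * n → n * γ 3 = γ 3 * n → n ^ 4 = 1 ∨ n ^ 4 = γ 1 ∨ n ^ 4 = (γ 1)⁻¹ :=
  g.transfer e s8_ca2_ev

/-- a formula -/
def s8_ct2_f : Fm := .all 2 40 [(.l 1, .l 1), (.l 3, .l 3), (.l 5, .l 5), (.l 2, .l 2)] (.imp (.one (.mul (.l 40) (.l 40))) (.one (.l 40)))

theorem s8_ct2_ev : s8.eval s8_ct2_f = true := by decide +kernel

theorem s8_ct2 {G : Type*} [Group G] {γ : ℕ → G} {k : ℕ} {N : List W} (g : Gf s8 γ k N)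
    (e : tyB s8 k N s8_ct2_f = true := by decide +kernel) :
    ∀ n ∈ genW γ (s8.ws 2), n * γ 1 = γ 1 * n → n * γ 3 = γ 3 * n → n * γ 5 = γ 5 * n → n * γ 2 = γ 2 * n → n * n = 1 → n = 1 :=
  g.transfer e s8_ct2_ev

/-- a formula -/
def s8_z3_f : Fm := .all 3 40 [] (.imp (.one (.pow (.l 40) 3)) (.imp (.eq (.mul (.l 40) (.mul (.mul (.l 5) (.l 40)) (.inv (.l 5)))) (.mul (.mul (.mul (.l 5) (.l 40)) (.inv (.l 5))) (.l 40))) (.imp (.eq (.mul (.l 40) (.mul (.mul (.l 2) (.l 40)) (.inv (.l 2)))) (.mul (.mul (.mul (.l 2) (.l 40)) (.inv (.l 2))) (.l 40))) (.imp (.eq (.mul (.l 40) (.mul (.mul (.l 3) (.l 40)) (.inv (.l 3)))) (.mul (.mul (.mul (.l 3) (.l 40)) (.inv (.l 3))) (.l 40))) (.or (.one (.l 40)) (.or (.eq (.l 40) (.l 1)) (.eq (.l 40) (.inv (.l 1)))))))))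

theorem s8_z3_ev : s8.eval s8_z3_f = true := by decide +kernel

theorem s8_z3 {G : Type*} [Group G] {γ : ℕ → G} {k : ℕ} {N : List W} (g : Gf s8 γ k N)
    (e : tyB s8 k N s8_z3_f = true := by decide +kernel) :
    ∀ n ∈ genW γ (s8.ws 3), n ^ 3 = 1 → n * (γ 5 * n * (γ 5)⁻¹) = γ 5 * n * (γ 5)⁻¹ * n → n * (γ 2 * n * (γ 2)⁻¹) = γ 2 * n * (γ 2)⁻¹ * n → n * (γ 3 * n * (γ 3)⁻¹) = γ 3 * n * (γ 3)⁻¹ * n → n = 1 ∨ n = γ 1 ∨ n = (γ 1)⁻¹ :=
  g.transfer e s8_z3_ev

/-- a formula -/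
def s8_cv3_f : Fm := .all 3 40 [(.l 1, .l 1), (.l 5, .l 5), (.mul (.mul (.l 2) (.l 5)) (.inv (.l 2)), .mul (.mul (.l 2) (.l 5)) (.inv (.l 2)))] (.mem 19 (.l 40))

theorem s8_cv3_ev : s8.eval s8_cv3_f = true := by decide +kernel

theorem s8_cv3 {G : Type*} [Group G] {γ : ℕ → G} {k : ℕ} {N : List W} (g : Gf s8 γ k N)
    (e : tyB s8 k N s8_cv3_f = true := by decide +kernel) :
    ∀ n ∈ genW γ (s8.ws 3), n * γ 1 = γ 1 * n → n * γ 5 = γ 5 * n → n * (γ 2 * γ 5 * (γ 2)⁻¹) = γ 2 * γ 5 * (γ 2)⁻¹ * n → n ∈ genW γ (s8.ws 19) :=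
  g.transfer e s8_cv3_ev

/-- a formula -/
def s8_fp3_f : Fm := .all 3 40 [(.l 1, .l 1)] (.imp (.eq (.mul (.l 40) (.mul (.mul (.l 2) (.l 40)) (.inv (.l 2)))) (.mul (.mul (.mul (.l 2) (.l 40)) (.inv (.l 2))) (.l 40))) (.imp (.one (.mul (.mul (.l 40) (.mul (.mul (.l 2) (.l 40)) (.inv (.l 2)))) (.mul (.mul (.inv (.l 2)) (.l 40)) (.l 2)))) (.or (.mem 10 (.l 40)) (.or (.mem 10 (.mul (.mul (.l 3) (.l 40)) (.inv (.l 3)))) (.and (.not (.one (.pow (.l 40) 2))) (.one (.pow (.pow (.l 40) 2) 3)))))))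

theorem s8_fp3_ev : s8.eval s8_fp3_f = true := by decide +kernel

theorem s8_fp3 {G : Type*} [Group G] {γ : ℕ → G} {k : ℕ} {N : List W} (g : Gf s8 γ k N)
    (e : tyB s8 k N s8_fp3_f = true := by decide +kernel) :
    ∀ r ∈ genW γ (s8.ws 3), r * γ 1 = γ 1 * r → r * (γ 2 * r * (γ 2)⁻¹) = γ 2 * r * (γ 2)⁻¹ * r → r * (γ 2 * r * (γ 2)⁻¹) * ((γ 2)⁻¹ * r * γ 2) = 1 → r ∈ genW γ (s8.ws 10) ∨ γ 3 * r * (γ 3)⁻¹ ∈ genW γ (s8.ws 10) ∨ r ^ 2 ≠ 1 ∧ (r ^ 2) ^ 3 = 1 :=
  g.transfer e s8_fp3_ev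

/-- a formula -/
def s8_nd3_f : Fm := .all 3 40 [] (.imp (.mem 4 (.mul (.mul (.l 40) (.l 2)) (.inv (.l 40)))) (.mem 6 (.l 40)))

theorem s8_nd3_ev : s8.eval s8_nd3_f = true := by decide +kernel

theorem s8_nd3 {G : Type*} [Group G] {γ : ℕ → G} {k : ℕ} {N : List W} (g : Gf s8 γ k N)
    (e : tyB s8 k N s8_nd3_f = true := by decide +kernel) :
    ∀ n ∈ genW γ (s8.ws 3), n * γ 2 * n⁻¹ ∈ genW γ (s8.ws 4) → n ∈ genW γ (s8.ws 6) :=
  g.transfer e s8_nd3_ev

/-- a formula -/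
def s8_b3_f : Fm := .all 4 40 [] (.all 6 41 [(.l 40, .l 40)] (.or (.or (.one (.l 40)) (.or (.eq (.l 40) (.l 1)) (.eq (.l 40) (.inv (.l 1))))) (.or (.eq (.l 40) (.l 2)) (.or (.eq (.l 40) (.inv (.l 2))) (.and (.eq (.mul (.l 41) (.l 1)) (.mul (.l 1) (.l 41))) (.eq (.mul (.l 41) (.l 2)) (.mul (.l 2) (.l 41))))))))

theorem s8_b3_ev : s8.eval s8_b3_f = true := by decide +kernel

theorem s8_b3 {G : Type*} [Group G] {γ : ℕ → G} {k : ℕ} {N : List W} (g : Gf s8 γ k N)
    (e : tyB s8 k N s8_b3_f = true := by decide +kernel) :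
    ∀ d ∈ genW γ (s8.ws 4), ∀ n ∈ genW γ (s8.ws 6), n * d = d * n → (d = 1 ∨ d = γ 1 ∨ d = (γ 1)⁻¹) ∨ d = γ 2 ∨ d = (γ 2)⁻¹ ∨ n * γ 1 = γ 1 * n ∧ n * γ 2 = γ 2 * n :=
  g.transfer e s8_b3_ev

/-- a formula -/
def s8_ca3_f : Fm := .all 3 40 [(.l 1, .l 1), (.l 3, .l 3)] (.or (.one (.pow (.l 40) 4)) (.or (.eq (.pow (.l 40) 4) (.l 1)) (.eq (.pow (.l 40) 4) (.inv (.l 1)))))

theorem s8_ca3_ev : s8.eval s8_ca3_f = true := by decide +kernel

theorem s8_ca3 {G : Type*} [Group G] {γ : ℕ → G} {k : ℕ} {N : List W} (g : Gf s8 γ k N)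
    (e : tyB s8 k N s8_ca3_f = true := by decide +kernel) :
    ∀ n ∈ genW γ (s8.ws 3), n * γ 1 = γ 1 * n → n * γ 3 = γ 3 * n → n ^ 4 = 1 ∨ n ^ 4 = γ 1 ∨ n ^ 4 = (γ 1)⁻¹ :=
  g.transfer e s8_ca3_ev

/-- a formula -/
def s8_ct3_f : Fm := .all 3 40 [(.l 1, .l 1), (.l 3, .l 3), (.l 5, .l 5), (.l 2, .l 2)] (.imp (.one (.mul (.l 40) (.l 40))) (.one (.l 40)))

theorem s8_ct3_ev : s8.eval s8_ct3_f = true := by decide +kernel

theorem s8_ct3 {G : Type*} [Group G] {γ : ℕ → G} {k : ℕ} {N : List W} (g : Gf s8 γ k N)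
    (e : tyB s8 k N s8_ct3_f = true := by decide +kernel) :
    ∀ n ∈ genW γ (s8.ws 3), n * γ 1 = γ 1 * n → n * γ 3 = γ 3 * n → n * γ 5 = γ 5 * n → n * γ 2 = γ 2 * n → n * n = 1 → n = 1 :=
  g.transfer e s8_ct3_ev

/-- a formula -/
def s8_vz_f : Fm := .all 19 40 [] (.or (.mem 10 (.l 40)) (.and (.not (.one (.pow (.l 40) 2))) (.one (.pow (.pow (.l 40) 2) 3))))

theorem s8_vz_ev : s8.eval s8_vz_f = true := by decide +kernel

theorem s8_vz {G : Type*} [Group G] {γ : ℕ → G} {k : ℕ} {N : List W} (g : Gf s8 γ k N)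
    (e : tyB s8 k N s8_vz_f = true := by decide +kernel) :
    ∀ k ∈ genW γ (s8.ws 19), k ∈ genW γ (s8.ws 10) ∨ k ^ 2 ≠ 1 ∧ (k ^ 2) ^ 3 = 1 :=
  g.transfer e s8_vz_ev

/-- a formula -/
def s8_V_f : Fm := .all 10 40 [] (.or (.one (.l 40)) (.or (.eq (.l 40) (.l 5)) (.or (.eq (.mul (.mul (.l 2) (.l 40)) (.inv (.l 2))) (.l 5)) (.eq (.mul (.mul (.inv (.l 2)) (.l 40)) (.l 2)) (.l 5)))))

theorem s8_V_ev : s8.eval s8_V_f = true := by decide +kernel

theorem s8_V {G : Type*} [Group G] {γ : ℕ → G} {k : ℕ} {N : List W} (g : Gf s8 γ k N)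
    (e : tyB s8 k N s8_V_f = true := by decide +kernel) :
    ∀ r ∈ genW γ (s8.ws 10), r = 1 ∨ r = γ 5 ∨ γ 2 * r * (γ 2)⁻¹ = γ 5 ∨ (γ 2)⁻¹ * r * γ 2 = γ 5 :=
  g.transfer e s8_V_ev

/-- a formula -/
def s8_sw2_f : Fm := .all 2 40 [(.l 2, .l 2), (.l 1, .inv (.l 1))] (.imp (.one (.mul (.l 40) (.l 40))) (.ex 4 41 [(.l 40, .l 4), (.l 3, .l 3)] (.tt)))

theorem s8_sw2_ev : s8.eval s8_sw2_f = true := by decide +kernel

theorem s8_sw2 {G : Type*} [Group G] {γ : ℕ → G} {k : ℕ} {N : List W} (g : Gf s8 γ k N)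
    (e : tyB s8 k N s8_sw2_f = true := by decide +kernel) :
    ∀ n ∈ genW γ (s8.ws 2), n * γ 2 = γ 2 * n → n * γ 1 = (γ 1)⁻¹ * n → n * n = 1 → ∃ d ∈ genW γ (s8.ws 4), d * n = γ 4 * d ∧ d * γ 3 = γ 3 * d ∧ True :=
  g.transfer e s8_sw2_ev

/-- a formula -/
def s8_sw3_f : Fm := .all 3 40 [(.l 2, .l 2), (.l 1, .inv (.l 1))] (.imp (.one (.mul (.l 40) (.l 40))) (.or (.ex 4 41 [(.l 40, .l 4), (.l 3, .l 3)] (.tt)) (.ex 4 41 [(.l 40, .mul (.l 4) (.l 7)), (.l 3, .l 3)] (.tt))))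

theorem s8_sw3_ev : s8.eval s8_sw3_f = true := by decide +kernel

theorem s8_sw3 {G : Type*} [Group G] {γ : ℕ → G} {k : ℕ} {N : List W} (g : Gf s8 γ k N)
    (e : tyB s8 k N s8_sw3_f = true := by decide +kernel) :
    ∀ n ∈ genW γ (s8.ws 3), n * γ 2 = γ 2 * n → n * γ 1 = (γ 1)⁻¹ * n → n * n = 1 → (∃ d ∈ genW γ (s8.ws 4), d * n = γ 4 * d ∧ d * γ 3 = γ 3 * d ∧ True) ∨ (∃ d ∈ genW γ (s8.ws 4), d * n = γ 4 * γ 7 * d ∧ d * γ 3 = γ 3 * d ∧ True) :=
  g.transfer e s8_sw3_ev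

/-- a formula -/
def s8_cd2_f : Fm := .all 2 40 [(.l 1, .l 1), (.l 2, .l 2)] (.mem 4 (.l 40))

theorem s8_cd2_ev : s8.eval s8_cd2_f = true := by decide +kernel

theorem s8_cd2 {G : Type*} [Group G] {γ : ℕ → G} {k : ℕ} {N : List W} (g : Gf s8 γ k N)
    (e : tyB s8 k N s8_cd2_f = true := by decide +kernel) :
    ∀ n ∈ genW γ (s8.ws 2), n * γ 1 = γ 1 * n → n * γ 2 = γ 2 * n → n ∈ genW γ (s8.ws 4) :=
  g.transfer e s8_cd2_ev

/-- a formula -/
def s8_cd3_f : Fm := .all 3 40 [(.l 1, .l 1), (.l 2, .l 2)] (.and (.or (.mem 4 (.l 40)) (.mem 4 (.mul (.l 40) (.l 7)))) (.imp (.one (.mul (.l 40) (.l 40))) (.or (.one (.l 40)) (.eq (.l 40) (.l 7)))))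

theorem s8_cd3_ev : s8.eval s8_cd3_f = true := by decide +kernel

theorem s8_cd3 {G : Type*} [Group G] {γ : ℕ → G} {k : ℕ} {N : List W} (g : Gf s8 γ k N)
    (e : tyB s8 k N s8_cd3_f = true := by decide +kernel) :
    ∀ n ∈ genW γ (s8.ws 3), n * γ 1 = γ 1 * n → n * γ 2 = γ 2 * n → (n ∈ genW γ (s8.ws 4) ∨ n * γ 7 ∈ genW γ (s8.ws 4)) ∧ (n * n = 1 → n = 1 ∨ n = γ 7) :=
  g.transfer e s8_cd3_ev

/-- a formula -/
def s8_dv_f : Fm := .all 4 40 [(.l 5, .mul (.mul (.l 3) (.l 5)) (.inv (.l 3)))] (.not (.tt))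

theorem s8_dv_ev : s8.eval s8_dv_f = true := by decide +kernel

theorem s8_dv {G : Type*} [Group G] {γ : ℕ → G} {k : ℕ} {N : List W} (g : Gf s8 γ k N)
    (e : tyB s8 k N s8_dv_f = true := by decide +kernel) :
    ∀ d ∈ genW γ (s8.ws 4), d * γ 5 = γ 3 * γ 5 * (γ 3)⁻¹ * d → ¬ True :=
  g.transfer e s8_dv_ev

/-- a formula -/
def s8_da_f : Fm := .all 4 40 [(.l 3, .l 3)] (.or (.one (.l 40)) (.or (.eq (.l 40) (.l 1)) (.eq (.l 40) (.inv (.l 1)))))

theorem s8_da_ev : s8.eval s8_da_f = true := by decide +kernel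

theorem s8_da {G : Type*} [Group G] {γ : ℕ → G} {k : ℕ} {N : List W} (g : Gf s8 γ k N)
    (e : tyB s8 k N s8_da_f = true := by decide +kernel) :
    ∀ d ∈ genW γ (s8.ws 4), d * γ 3 = γ 3 * d → d = 1 ∨ d = γ 1 ∨ d = (γ 1)⁻¹ :=
  g.transfer e s8_da_ev

/-- a formula -/
def s8_ds_f : Fm := .all 4 40 [(.l 6, .l 6)] (.or (.one (.l 40)) (.or (.eq (.l 40) (.mul (.l 1) (.l 2))) (.eq (.l 40) (.inv (.mul (.l 1) (.l 2))))))

theorem s8_ds_ev : s8.eval s8_ds_f = true := by decide +kernel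

theorem s8_ds {G : Type*} [Group G] {γ : ℕ → G} {k : ℕ} {N : List W} (g : Gf s8 γ k N)
    (e : tyB s8 k N s8_ds_f = true := by decide +kernel) :
    ∀ d ∈ genW γ (s8.ws 4), d * γ 6 = γ 6 * d → d = 1 ∨ d = γ 1 * γ 2 ∨ d = (γ 1 * γ 2)⁻¹ :=
  g.transfer e s8_ds_ev

/-- a formula -/
def s8_cl_f : Fm := .all 4 40 [] (.or (.one (.l 40)) (.or (.ex 7 41 [(.l 1, .l 40)] (.tt)) (.ex 7 41 [(.mul (.l 1) (.l 2), .l 40)] (.tt))))

theorem s8_cl_ev : s8.eval s8_cl_f = true := by decide +kernel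

theorem s8_cl {G : Type*} [Group G] {γ : ℕ → G} {k : ℕ} {N : List W} (g : Gf s8 γ k N)
    (e : tyB s8 k N s8_cl_f = true := by decide +kernel) :
    ∀ d ∈ genW γ (s8.ws 4), d = 1 ∨ (∃ k ∈ genW γ (s8.ws 7), k * γ 1 = d * k ∧ True) ∨ (∃ k ∈ genW γ (s8.ws 7), k * (γ 1 * γ 2) = d * k ∧ True) :=
  g.transfer e s8_cl_ev

/-- a formula -/
def s8_cxy_f : Fm := .all 1 40 [(.mul (.l 1) (.l 2), .mul (.l 1) (.l 2))] (.mem 7 (.l 40))

theorem s8_cxy_ev : s8.eval s8_cxy_f = true := by decide +kernel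

theorem s8_cxy {G : Type*} [Group G] {γ : ℕ → G} {k : ℕ} {N : List W} (g : Gf s8 γ k N)
    (e : tyB s8 k N s8_cxy_f = true := by decide +kernel) :
    ∀ n ∈ genW γ (s8.ws 1), n * (γ 1 * γ 2) = γ 1 * γ 2 * n → n ∈ genW γ (s8.ws 7) :=
  g.transfer e s8_cxy_ev

/-- a formula -/
def s8_nE_f : Fm := .all 11 40 [] (.all 1 41 [(.l 5, .l 40)] (.imp (.mem 11 (.mul (.mul (.l 41) (.mul (.mul (.l 2) (.l 5)) (.inv (.l 2)))) (.inv (.l 41)))) (.imp (.mem 11 (.mul (.mul (.l 41) (.mul (.mul (.l 6) (.l 5)) (.l 6))) (.inv (.l 41)))) (.imp (.mem 11 (.mul (.mul (.l 41) (.mul (.mul (.mul (.mul (.l 1) (.l 6)) (.l 5)) (.l 6)) (.inv (.l 1)))) (.inv (.l 41)))) (.mem 12 (.l 41))))))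

theorem s8_nE_ev : s8.eval s8_nE_f = true := by decide +kernel

theorem s8_nE {G : Type*} [Group G] {γ : ℕ → G} {k : ℕ} {N : List W} (g : Gf s8 γ k N)
    (e : tyB s8 k N s8_nE_f = true := by decide +kernel) :
    ∀ q ∈ genW γ (s8.ws 11), ∀ n ∈ genW γ (s8.ws 1), n * γ 5 = q * n → n * (γ 2 * γ 5 * (γ 2)⁻¹) * n⁻¹ ∈ genW γ (s8.ws 11) → n * (γ 6 * γ 5 * γ 6) * n⁻¹ ∈ genW γ (s8.ws 11) → n * (γ 1 * γ 6 * γ 5 * γ 6 * (γ 1)⁻¹) * n⁻¹ ∈ genW γ (s8.ws 11) → n ∈ genW γ (s8.ws 12) :=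
  g.transfer e s8_nE_ev

/-- a formula -/
def s8_cu_f : Fm := .all 1 40 [(.mul (.mul (.mul (.mul (.mul (.mul (.mul (.mul (.mul (.mul (.l 3) (.l 5)) (.l 6)) (.l 5)) (.l 2)) (.l 4)) (.l 5)) (.inv (.l 2))) (.l 6)) (.l 5)) (.l 6), .mul (.mul (.mul (.mul (.mul (.mul (.mul (.mul (.mul (.mul (.l 3) (.l 5)) (.l 6)) (.l 5)) (.l 2)) (.l 4)) (.l 5)) (.inv (.l 2))) (.l 6)) (.l 5)) (.l 6)), (.mul (.mul (.mul (.l 5) (.l 6)) (.l 5)) (.l 6), .mul (.mul (.mul (.l 5) (.l 6)) (.l 5)) (.l 6))] (.mem 20 (.l 40))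

theorem s8_cu_ev : s8.eval s8_cu_f = true := by decide +kernel

theorem s8_cu {G : Type*} [Group G] {γ : ℕ → G} {k : ℕ} {N : List W} (g : Gf s8 γ k N)
    (e : tyB s8 k N s8_cu_f = true := by decide +kernel) :
    ∀ n ∈ genW γ (s8.ws 1), n * (γ 3 * γ 5 * γ 6 * γ 5 * γ 2 * γ 4 * γ 5 * (γ 2)⁻¹ * γ 6 * γ 5 * γ 6) = γ 3 * γ 5 * γ 6 * γ 5 * γ 2 * γ 4 * γ 5 * (γ 2)⁻¹ * γ 6 * γ 5 * γ 6 * n → n * (γ 5 * γ 6 * γ 5 * γ 6) = γ 5 * γ 6 * γ 5 * γ 6 * n → n ∈ genW γ (s8.ws 20) :=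
  g.transfer e s8_cu_ev

/-- a formula -/
def s8_ce_f : Fm := .all 12 40 [(.l 5, .l 5), (.mul (.mul (.mul (.mul (.mul (.mul (.mul (.inv (.l 1)) (.inv (.l 2))) (.l 5)) (.l 2)) (.l 6)) (.l 5)) (.l 2)) (.l 6), .mul (.mul (.mul (.mul (.mul (.mul (.mul (.inv (.l 1)) (.inv (.l 2))) (.l 5)) (.l 2)) (.l 6)) (.l 5)) (.l 2)) (.l 6)), (.mul (.mul (.mul (.l 5) (.l 6)) (.l 5)) (.l 6), .mul (.mul (.mul (.l 5) (.l 6)) (.l 5)) (.l 6)), (.mul (.mul (.l 2) (.l 5)) (.inv (.l 2)), .mul (.mul (.l 2) (.l 5)) (.inv (.l 2)))] (.one (.mul (.l 40) (.l 40)))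

theorem s8_ce_ev : s8.eval s8_ce_f = true := by decide +kernel

theorem s8_ce {G : Type*} [Group G] {γ : ℕ → G} {k : ℕ} {N : List W} (g : Gf s8 γ k N)
    (e : tyB s8 k N s8_ce_f = true := by decide +kernel) :
    ∀ n ∈ genW γ (s8.ws 12), n * γ 5 = γ 5 * n → n * ((γ 1)⁻¹ * (γ 2)⁻¹ * γ 5 * γ 2 * γ 6 * γ 5 * γ 2 * γ 6) = (γ 1)⁻¹ * (γ 2)⁻¹ * γ 5 * γ 2 * γ 6 * γ 5 * γ 2 * γ 6 * n → n * (γ 5 * γ 6 * γ 5 * γ 6) = γ 5 * γ 6 * γ 5 * γ 6 * n → n * (γ 2 * γ 5 * (γ 2)⁻¹) = γ 2 * γ 5 * (γ 2)⁻¹ * n → n * n = 1 :=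
  g.transfer e s8_ce_ev

/-- a formula -/
def s8_zu_f : Fm := .all 20 40 [] (.one (.pow (.l 40) 6))

theorem s8_zu_ev : s8.eval s8_zu_f = true := by decide +kernel

theorem s8_zu {G : Type*} [Group G] {γ : ℕ → G} {k : ℕ} {N : List W} (g : Gf s8 γ k N)
    (e : tyB s8 k N s8_zu_f = true := by decide +kernel) :
    ∀ n ∈ genW γ (s8.ws 20), n ^ 6 = 1 :=
  g.transfer e s8_zu_ev

/-- a formula -/
def s8_zs_f : Fm := .and (.ex 1 40 [(.mul (.mul (.mul (.l 5) (.l 6)) (.l 5)) (.l 6), .l 6)] (.tt)) (.ex 1 40 [(.mul (.l 1) (.l 2), .mul (.mul (.mul (.mul (.mul (.mul (.mul (.mul (.mul (.mul (.l 3) (.l 5)) (.l 6)) (.l 5)) (.l 2)) (.l 4)) (.l 5)) (.inv (.l 2))) (.l 6)) (.l 5)) (.l 6))] (.tt))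

theorem s8_zs_ev : s8.eval s8_zs_f = true := by decide +kernel

theorem s8_zs {G : Type*} [Group G] {γ : ℕ → G} {k : ℕ} {N : List W} (g : Gf s8 γ k N)
    (e : tyB s8 k N s8_zs_f = true := by decide +kernel) :
    (∃ k ∈ genW γ (s8.ws 1), k * (γ 5 * γ 6 * γ 5 * γ 6) = γ 6 * k ∧ True) ∧ (∃ k ∈ genW γ (s8.ws 1), k * (γ 1 * γ 2) = γ 3 * γ 5 * γ 6 * γ 5 * γ 2 * γ 4 * γ 5 * (γ 2)⁻¹ * γ 6 * γ 5 * γ 6 * k ∧ True) :=
  g.transfer e s8_zs_ev

/-- a formula -/
def s8_xe_f : Fm := .all 3 40 [(.l 1, .l 1), (.l 7, .l 7)] (.mem 6 (.l 40))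

theorem s8_xe_ev : s8.eval s8_xe_f = true := by decide +kernel

theorem s8_xe {G : Type*} [Group G] {γ : ℕ → G} {k : ℕ} {N : List W} (g : Gf s8 γ k N)
    (e : tyB s8 k N s8_xe_f = true := by decide +kernel) :
    ∀ n ∈ genW γ (s8.ws 3), n * γ 1 = γ 1 * n → n * γ 7 = γ 7 * n → n ∈ genW γ (s8.ws 6) :=
  g.transfer e s8_xe_ev

/-- a formula -/
def s8_t0_f : Fm := .all 17 40 [] (.imp (.one (.mul (.l 40) (.l 40))) (.or (.one (.l 40)) (.or (.ex 0 41 [(.l 7, .l 40)] (.tt)) (.or (.ex 0 41 [(.l 3, .l 40)] (.tt)) (.or (.ex 0 41 [(.l 6, .l 40)] (.tt)) (.ex 0 41 [(.mul (.l 6) (.l 7), .l 40)] (.tt)))))))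

theorem s8_t0_ev : s8.eval s8_t0_f = true := by decide +kernel

theorem s8_t0 {G : Type*} [Group G] {γ : ℕ → G} {k : ℕ} {N : List W} (g : Gf s8 γ k N)
    (e : tyB s8 k N s8_t0_f = true := by decide +kernel) :
    ∀ t ∈ genW γ (s8.ws 17), t * t = 1 → t = 1 ∨ (∃ k ∈ genW γ (s8.ws 0), k * γ 7 = t * k ∧ True) ∨ (∃ k ∈ genW γ (s8.ws 0), k * γ 3 = t * k ∧ True) ∨ (∃ k ∈ genW γ (s8.ws 0), k * γ 6 = t * k ∧ True) ∨ (∃ k ∈ genW γ (s8.ws 0), k * (γ 6 * γ 7) = t * k ∧ True) :=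
  g.transfer e s8_t0_ev

/-- a formula -/
def s8_t1_f : Fm := .all 13 40 [] (.imp (.one (.mul (.l 40) (.l 40))) (.or (.one (.l 40)) (.or (.ex 1 41 [(.l 3, .l 40)] (.tt)) (.ex 1 41 [(.l 6, .l 40)] (.tt)))))

theorem s8_t1_ev : s8.eval s8_t1_f = true := by decide +kernel

theorem s8_t1 {G : Type*} [Group G] {γ : ℕ → G} {k : ℕ} {N : List W} (g : Gf s8 γ k N)
    (e : tyB s8 k N s8_t1_f = true := by decide +kernel) :
    ∀ t ∈ genW γ (s8.ws 13), t * t = 1 → t = 1 ∨ (∃ k ∈ genW γ (s8.ws 1), k * γ 3 = t * k ∧ True) ∨ (∃ k ∈ genW γ (s8.ws 1), k * γ 6 = t * k ∧ True) :=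
  g.transfer e s8_t1_ev

/-- a formula -/
def s8_al_f : Fm := .all 3 40 [(.l 5, .l 5), (.l 2, .l 2), (.mul (.l 4) (.l 7), .mul (.l 4) (.l 7))] (.or (.one (.l 40)) (.eq (.l 40) (.mul (.l 4) (.l 7))))

theorem s8_al_ev : s8.eval s8_al_f = true := by decide +kernel

theorem s8_al {G : Type*} [Group G] {γ : ℕ → G} {k : ℕ} {N : List W} (g : Gf s8 γ k N)
    (e : tyB s8 k N s8_al_f = true := by decide +kernel) :
    ∀ n ∈ genW γ (s8.ws 3), n * γ 5 = γ 5 * n → n * γ 2 = γ 2 * n → n * (γ 4 * γ 7) = γ 4 * γ 7 * n → n = 1 ∨ n = γ 4 * γ 7 :=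
  g.transfer e s8_al_ev

/-- a formula -/
def s8_k_f : Fm := .all 3 40 [(.mul (.l 4) (.l 7), .mul (.l 4) (.l 7)), (.l 3, .l 3), (.l 7, .l 7)] (.imp (.one (.mul (.mul (.mul (.mul (.mul (.mul (.mul (.mul (.l 2) (.l 5)) (.inv (.l 2))) (.l 3)) (.l 5)) (.inv (.l 2))) (.l 40)) (.mul (.mul (.mul (.mul (.mul (.l 2) (.l 5)) (.inv (.l 2))) (.l 3)) (.l 5)) (.inv (.l 2)))) (.l 40))) (.or (.one (.l 40)) (.or (.eq (.l 40) (.mul (.l 4) (.l 7))) (.or (.eq (.l 40) (.l 3)) (.eq (.l 40) (.mul (.mul (.l 4) (.l 7)) (.l 3)))))))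

theorem s8_k_ev : s8.eval s8_k_f = true := by decide +kernel

theorem s8_k {G : Type*} [Group G] {γ : ℕ → G} {k : ℕ} {N : List W} (g : Gf s8 γ k N)
    (e : tyB s8 k N s8_k_f = true := by decide +kernel) :
    ∀ n ∈ genW γ (s8.ws 3), n * (γ 4 * γ 7) = γ 4 * γ 7 * n → n * γ 3 = γ 3 * n → n * γ 7 = γ 7 * n → γ 2 * γ 5 * (γ 2)⁻¹ * γ 3 * γ 5 * (γ 2)⁻¹ * n * (γ 2 * γ 5 * (γ 2)⁻¹ * γ 3 * γ 5 * (γ 2)⁻¹) * n = 1 → n = 1 ∨ n = γ 4 * γ 7 ∨ n = γ 3 ∨ n = γ 4 * γ 7 * γ 3 :=
  g.transfer e s8_k_ev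

/-- a formula -/
def s8_A_f : Fm := .all 3 40 [(.mul (.l 4) (.l 7), .mul (.l 4) (.l 7)), (.l 3, .l 3), (.mul (.mul (.mul (.mul (.mul (.l 2) (.l 5)) (.inv (.l 2))) (.l 3)) (.l 5)) (.inv (.l 2)), .mul (.mul (.mul (.mul (.mul (.l 2) (.l 5)) (.inv (.l 2))) (.l 3)) (.l 5)) (.inv (.l 2)))] (.and (.or (.one (.l 40)) (.or (.eq (.l 40) (.mul (.l 4) (.l 7))) (.or (.eq (.l 40) (.l 3)) (.or (.eq (.l 40) (.mul (.mul (.l 4) (.l 7)) (.l 3))) (.or (.one (.mul (.l 40) (.mul (.mul (.mul (.mul (.mul (.l 2) (.l 5)) (.inv (.l 2))) (.l 3)) (.l 5)) (.inv (.l 2))))) (.or (.eq (.mul (.l 40) (.mul (.mul (.mul (.mul (.mul (.l 2) (.l 5)) (.inv (.l 2))) (.l 3)) (.l 5)) (.inv (.l 2)))) (.mul (.l 4) (.l 7))) (.or (.eq (.mul (.l 40) (.mul (.mul (.mul (.mul (.mul (.l 2) (.l 5)) (.inv (.l 2))) (.l 3)) (.l 5)) (.inv (.l 2)))) (.l 3)) (.eq (.mul (.l 40) (.mul (.mul (.mul (.mul (.mul (.l 2) (.l 5)) (.inv (.l 2))) (.l 3)) (.l 5)) (.inv (.l 2)))) (.mul (.mul (.l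 4) (.l 7)) (.l 3)))))))))) (.and (.not (.eq (.mul (.l 40) (.l 7)) (.mul (.mul (.l 7) (.mul (.l 4) (.l 7))) (.l 40)))) (.imp (.eq (.mul (.l 40) (.l 7)) (.mul (.l 7) (.l 40))) (.or (.one (.l 40)) (.or (.eq (.l 40) (.mul (.l 4) (.l 7))) (.or (.eq (.l 40) (.l 3)) (.eq (.l 40) (.mul (.mul (.l 4) (.l 7)) (.l 3)))))))))

theorem s8_A_ev : s8.eval s8_A_f = true := by decide +kernel

theorem s8_A {G : Type*} [Group G] {γ : ℕ → G} {k : ℕ} {N : List W} (g : Gf s8 γ k N)
    (e : tyB s8 k N s8_A_f = true := by decide +kernel) :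
    ∀ n ∈ genW γ (s8.ws 3), n * (γ 4 * γ 7) = γ 4 * γ 7 * n → n * γ 3 = γ 3 * n → n * (γ 2 * γ 5 * (γ 2)⁻¹ * γ 3 * γ 5 * (γ 2)⁻¹) = γ 2 * γ 5 * (γ 2)⁻¹ * γ 3 * γ 5 * (γ 2)⁻¹ * n → (n = 1 ∨ n = γ 4 * γ 7 ∨ n = γ 3 ∨ n = γ 4 * γ 7 * γ 3 ∨ n * (γ 2 * γ 5 * (γ 2)⁻¹ * γ 3 * γ 5 * (γ 2)⁻¹) = 1 ∨ n * (γ 2 * γ 5 * (γ 2)⁻¹ * γ 3 * γ 5 * (γ 2)⁻¹) = γ 4 * γ 7 ∨ n * (γ 2 * γ 5 * (γ 2)⁻¹ * γ 3 * γ 5 * (γ 2)⁻¹) = γ 3 ∨ n * (γ 2 * γ 5 * (γ 2)⁻¹ * γ 3 * γ 5 * (γ 2)⁻¹) = γ 4 * γ 7 * γ 3) ∧ n * γ 7 ≠ γ 7 * (γ 4 * γ 7) * n ∧ (n * γ 7 = γ 7 * n → n = 1 ∨ n = γ 4 * γ 7 ∨ n = γ 3 ∨ n = γ 4 * γ 7 * γ 3) :=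
  g.transfer e s8_A_ev

end Cfsg.Lib.Mc3
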